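import Cfsg.Agent.Omega.TC.OfMul

/-!
# NO-3S, MultiTwoL, case (E), `k ≥ 3`: from the tree (`Node/MultiOf.lean`) to UNI+ and block generation

* `exists_neg` : stage `-1`, any `k ≥ 2`, `q = 2`: the frame with `UniTwo` and `BlkS`, no hypothesis;
* `UniLevK K` : the level input (stage `n ≥ 0`), `k ≥ 3`;
* `EFrK K` : the end over `Mul`, `UniTwo` and `BlkS K' B B`;
* `eOf_three` : `UniLevK K`, `EFrK K` give `EOf K (3 ≤ k ∧ q = 2)`.
-/

set_option autoImplicit false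
set_option linter.unusedSectionVars false

namespace Cfsg.Agent.Omega.EK3.OfMul

open Subgroup Cfsg Cfsg.Agent.ZN.ChoiceBase
open Cfsg.Agent.ZN (jj zj bau zc zl o2)
open Cfsg.Agent.ZN.ChoiceSit (Syl)
open Cfsg.Agent.Omega.OM Cfsg.Agent.Omega.OM.Uni
open Cfsg.Agent.Omega.NO3S (HypJ HypN Hyp HypL)
open Cfsg.Agent.Omega.NO3S.Level (lev)
open Cfsg.Agent.Omega.NO3S.EThree.Frame
open Cfsg.Agent.MinSimple.MinParabolic (IsMinPar)
open Cfsg.Agent.Omega.FFThm (NatK NatKM)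
open Cfsg.Agent.Omega.FrameFF (cv)
open Cfsg.Agent.Omega.Frame (Cls)
open Cfsg.Agent.Omega.Node.MultiOf
open Cfsg.Agent.Omega.TC.OfMul (BlkS)
open scoped Pointwise

universe u

/-- **Stage `-1`, `q = 2`, every `k ≥ 2`**: the frame with UNI+ and block generation over every `T ≥ B`. -/
theorem exists_neg {G : Type u} [Group G] [Finite G] {S : Sylow 2 G} {P : Subgroup G} (h : HypL S P)
    (hj : ¬ jj (S : Subgroup G) ≤ o2 P) {k : ℕ} (hk : 2 ≤ k) {F : Type} [Field F] [Finite F] [CharP F 2]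
    (hF : Nat.card F = 2) (N : NatKM F (S : Subgroup G) P (zl (S : Subgroup G) P) (cv (S : Subgroup G) P) k) :
    ∃ L W Z C : Fin k → Subgroup G,
      Mul S P (jj (S : Subgroup G)) (bau (S : Subgroup G)) (zj (S : Subgroup G)) L W Z C 2 ∧
        UniTwo (bau (S : Subgroup G)) (zj (S : Subgroup G)) L W ∧
          ∀ T : Subgroup G, bau (S : Subgroup G) ≤ T → BlkS (jj (S : Subgroup G)) (bau (S : Subgroup G)) T := by
  have hJ : HypJ S P := ⟨h.toHypN, hj⟩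
  obtain ⟨L, Z, A, hB, -⟩ := exists_bs hJ hk N.toNatK
  rw [hF] at hB
  have hbg := Bg.of_bs hB fun h2 => absurd h2 (by omega)
  have hl : Line S P L _ Z _ A 2 := ⟨hB.hyp, hB.fr, hB.two⟩
  have htr : ∀ i j : Fin k, ∃ s ∈ (S : Subgroup G), cj s (Z i) = Z j := fun i j => by
    obtain ⟨s, hs, e⟩ := hB.trans i j
    exact ⟨s, hs, (hB.cj_Z_iff hs).2 e⟩
  refine ⟨L, _, Z, _, ⟨h, StgP.neg hj, hbg, F, inferInstance, inferInstance, inferInstance, hF, ⟨N⟩⟩, ?_, ?_⟩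
  · rintro L' V' ⟨⟨Z', q', hFB⟩, hb⟩
    obtain ⟨i, -, h1, h3⟩ := hl.uniTwo htr hFB hb
    exact ⟨i, h1, h3⟩
  · intro T hBT R hR hT hc hK hZ
    have hjj : jj T = jj (S : Subgroup G) := LemmaK.Main.jj_eq S hT.2.1 hBT
    obtain ⟨L', V', hb, h1, h2⟩ := TC.UniOne.blkGenS FF.Glob.ffthm S hT hBT hR hc (by rw [hjj]; exact hK) hZ
    exact ⟨L', V', ⟨hb.fb, hb.blk⟩, h1, h2⟩

/-- **The level input**, `k ≥ 3`, `q = 2`. -/
def UniLevK (K : Cls.{u}) : Prop :=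
  ∀ (G : Type u) [Group G] [Finite G], K G → ∀ (S : Sylow 2 G) (P : Subgroup G), HypL S P → ∀ n : ℕ,
    (∀ R, MinPar.IsParS (S : Subgroup G) R → lev (S : Subgroup G) n ≤ o2 R) →
    ¬ lev (S : Subgroup G) (n + 1) ≤ o2 P →
    ∀ (F : Type) [Field F] [Finite F] [CharP F 2] (k : ℕ), Nat.card F = 2 → 3 ≤ k →
      NatKM F (S : Subgroup G) P (zl (S : Subgroup G) P) (cv (S : Subgroup G) P) k →
        ∀ B ZJ : Subgroup G, ZJ = zc (lev (S : Subgroup G) (n + 1)) →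
          B = (S : Subgroup G) ⊓ centralizer (zc (lev (S : Subgroup G) (n + 1)) : Set G) → NLoc (KZ B ZJ) →
          ∃ L W Z C : Fin k → Subgroup G, Bg S P B ZJ L W Z C 2 ∧ UniTwo B ZJ L W ∧
            BlkS (lev (S : Subgroup G) (n + 1)) B B

/-- **(E), `k ≥ 3`, `q = 2`, over the frame.** -/
def EFrK (K : Cls.{u}) : Prop :=
  ∀ (G : Type u) [Group G] [Finite G], K G → ∀ (S : Sylow 2 G) (P K' B ZJ : Subgroup G) (k : ℕ)
    (L W Z C : Fin k → Subgroup G), 3 ≤ k → Mul S P K' B ZJ L W Z C 2 → NLoc (KZ B ZJ) →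
      UniTwo B ZJ L W → BlkS K' B B → IsKnownSimple' G

/-- **(E), `k ≥ 3`, `q = 2`.** -/
theorem eOf_three {K : Cls.{u}} (hL : UniLevK K) (hE : EFrK K) : EOf K fun k q => 3 ≤ k ∧ q = 2 := by
  rintro G _ _ hG S P K' B ZJ k L W Z C q - ⟨hk, rfl⟩ hM hN
  obtain ⟨F, _, _, _, hF, ⟨N⟩⟩ := hM.nat
  cases hM.stg with
  | neg hj =>
    obtain ⟨L', W', Z', C', hM', hu, hb⟩ := exists_neg hM.hyp hj (by omega) hF N
    exact hE G hG S P _ _ _ k L' W' Z' C' hk hM' hN hu (hb _ le_rfl)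
  | lev n hall hn hn1 =>
    obtain ⟨L', W', Z', C', hbg, hu, hb⟩ := hL G hG S P hM.hyp n hall hn1 F k hF hk N _ _ rfl rfl hN
    exact hE G hG S P _ _ _ k L' W' Z' C' hk
      ⟨hM.hyp, StgP.lev n hall hn hn1, hbg, F, inferInstance, inferInstance, inferInstance, hF, ⟨N⟩⟩ hN hu hb

end Cfsg.Agent.Omega.EK3.OfMul
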