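import Cfsg.Agent.Omega.NO3S.EThree.ExactA
import Cfsg.Agent.Omega.NO3S.EThree.MinOff

/-!
# (E), `k ≥ 3`: RANK (helper474, THEOREM K3 #22123 (1); helper574 #22296)

Pure group theory. `O` is any subgroup, `N ≤ O` elementary abelian with `(NO)` for the elementary abelian
subgroups of `O` (`NoOn O N`), `Q := O ⊓ C(N)`.

* `NoOn O N` : `|A : C_A(N)| ≤ |N : C_N(A)|` for all elementary abelian `A ≤ O`;
* `exch` : `A ∈ AA(O)`: `|A : C_A(N)| = |N : C_N(A)|`, `C_N(A) ≤ A`, `C_A(N) N ∈ AA(Q) ∩ AA(O)`;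
* `mm_inf`, `mem_AA_of_inf`, `jj_inf_le` : `AA(Q) ⊆ AA(O)`;
* `exists_moving` : `|J(Q₁)| = |J(Q₂)|`, `J(Q₁) ≠ J(Q₂)`: some member of `AA(Q₁)` moves `N₂`;
* `le_of_mem` : `A ∈ AA(O)` offends every elementary abelian `E ≤ O`: `|E : C_E(A)| ≤ |A : C_A(E)|`.
-/

set_option autoImplicit false
set_option linter.unusedSectionVars false

namespace Cfsg.Agent.Omega.EK3.Rank

open Subgroup Cfsg Cfsg.Agent.ZN Cfsg.Agent.Omega.MinPar
open Cfsg.Agent.Omega.NO3S.EThree Cfsg.Agent.Omega.NO3S.EThree.ExactA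
open Cfsg.Agent.ZN.ChoiceBase (AA mm mm_eq mem_AA_iff AA_nonempty card_le_mm cj cj_mem_AA mm_cj mm_mono jj_eq jj_le
  le_jj jj_mono jj_cj cj_inf cj_centralizer card_cj)
open Cfsg.Agent.Omega.NoFF.Basic (comm_symm comm_mono)
open Cfsg.Agent.Omega.NO3S.ML (card_mul_relIndex card_sup_mul_of_comm)

universe u

variable {G : Type u} [Group G]

/-- `(NO)` on `N` for the elementary abelian subgroups of `O`. -/
def NoOn (O N : Subgroup G) : Prop :=
  ∀ A : Subgroup G, IsElementaryAbelian 2 A → A ≤ O →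
    (centralizer (N : Set G)).relIndex A ≤ (centralizer (A : Set G)).relIndex N

theorem NoOn.mono {O O' N : Subgroup G} (h : NoOn O N) (hO : O' ≤ O) : NoOn O' N :=
  fun A hA hAO => h A hA (hAO.trans hO)

variable [Finite G]

section one

variable {O N : Subgroup G} (hN : IsElementaryAbelian 2 N) (hNO : N ≤ O) (h : NoOn O N)
include hN hNO h

/-- `A ∈ AA(O)`: equality, `C_N(A) ≤ A`, `C_A(N) N ∈ AA(O)`. -/
theorem exch {A : Subgroup G} (hA : A ∈ AA O) :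
    (centralizer (N : Set G)).relIndex A = (centralizer (A : Set G)).relIndex N ∧
      N ⊓ centralizer (A : Set G) ≤ A ∧ (A ⊓ centralizer (N : Set G)) ⊔ N ∈ AA O :=
  swp hN hNO hA (h A hA.1 hA.2.1)

theorem sup_le_inf {A : Subgroup G} (hA : A ≤ O) :
    (A ⊓ centralizer (N : Set G)) ⊔ N ≤ O ⊓ centralizer (N : Set G) :=
  le_inf (sup_le (inf_le_left.trans hA) hNO) (sup_le inf_le_right (eab_iff.1 hN).1)

/-- `r(Q) = r(O)` -/
theorem mm_inf : mm (O ⊓ centralizer (N : Set G)) = mm O := by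
  refine le_antisymm (mm_mono inf_le_left) ?_
  obtain ⟨A, hA⟩ := AA_nonempty O
  have h1 := (exch hN hNO h hA).2.2
  rw [mm_eq h1]
  exact card_le_mm h1.1 (sup_le_inf hN hNO h hA.2.1)

/-- `AA(Q) ⊆ AA(O)` -/
theorem mem_AA_of_inf {A : Subgroup G} (hA : A ∈ AA (O ⊓ centralizer (N : Set G))) : A ∈ AA O := by
  rw [mem_AA_iff] at *
  exact ⟨hA.1, hA.2.1.trans inf_le_left, (mm_inf hN hNO h).ge.trans hA.2.2⟩

/-- a member of `AA(O)` centralising `N` is in `AA(Q)` -/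
theorem mem_inf_of_mem_AA {A : Subgroup G} (hA : A ∈ AA O) (hc : A ≤ centralizer (N : Set G)) :
    A ∈ AA (O ⊓ centralizer (N : Set G)) := by
  rw [mem_AA_iff] at *
  exact ⟨hA.1, le_inf hA.2.1 hc, (mm_inf hN hNO h).le.trans hA.2.2⟩

theorem exch_inf {A : Subgroup G} (hA : A ∈ AA O) :
    (A ⊓ centralizer (N : Set G)) ⊔ N ∈ AA (O ⊓ centralizer (N : Set G)) :=
  mem_inf_of_mem_AA hN hNO h (exch hN hNO h hA).2.2 (sup_le inf_le_right (eab_iff.1 hN).1)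

/-- `N ≤ A` for `A ∈ AA(Q)` -/
theorem le_of_mem_inf {A : Subgroup G} (hA : A ∈ AA (O ⊓ centralizer (N : Set G))) : N ≤ A := by
  have h1 := (exch hN hNO h (mem_AA_of_inf hN hNO h hA)).2.1
  have h2 : N ≤ centralizer (A : Set G) := comm_symm (hA.2.1.trans inf_le_right)
  exact (le_inf le_rfl h2).trans h1

theorem jj_inf_le : jj (O ⊓ centralizer (N : Set G)) ≤ jj O := by
  rw [jj_eq]
  exact sSup_le fun A hA => le_jj (mem_AA_of_inf hN hNO h hA)

end one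

section two

variable {O N₁ N₂ : Subgroup G} (hN₁ : IsElementaryAbelian 2 N₁) (hNO₁ : N₁ ≤ O) (h₁ : NoOn O N₁)
  (hN₂ : IsElementaryAbelian 2 N₂) (hNO₂ : N₂ ≤ O) (h₂ : NoOn O N₂)
include hN₁ hNO₁ h₁ hN₂ hNO₂ h₂

/-- `J(Q₁)` centralises `N₂` iff `J(Q₁) ≤ J(Q₂)`. -/
theorem jj_le_iff :
    jj (O ⊓ centralizer (N₁ : Set G)) ≤ centralizer (N₂ : Set G) ↔
      jj (O ⊓ centralizer (N₁ : Set G)) ≤ jj (O ⊓ centralizer (N₂ : Set G)) := by
  constructor
  · intro hc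
    rw [jj_eq]
    refine sSup_le fun A hA => le_jj ?_
    exact mem_inf_of_mem_AA hN₂ hNO₂ h₂ (mem_AA_of_inf hN₁ hNO₁ h₁ hA) ((le_jj hA).trans hc)
  · intro hc
    exact hc.trans ((ChoiceBase.jj_le _).trans inf_le_right)

/-- `J(Q₁) = J(Q₂)` iff `J(Q₁)` centralises `N₂`, when the orders agree. -/
theorem jj_eq_iff (hc : Nat.card (jj (O ⊓ centralizer (N₁ : Set G))) = Nat.card (jj (O ⊓ centralizer (N₂ : Set G)))) :
    jj (O ⊓ centralizer (N₁ : Set G)) = jj (O ⊓ centralizer (N₂ : Set G)) ↔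
      jj (O ⊓ centralizer (N₁ : Set G)) ≤ centralizer (N₂ : Set G) := by
  rw [jj_le_iff hN₁ hNO₁ h₁ hN₂ hNO₂ h₂]
  exact ⟨fun e => e.le, fun e => Subgroup.eq_of_le_of_card_ge e hc.ge⟩

/-- **`J(Q₁) ≠ J(Q₂)`: some member of `AA(Q₁)` moves `N₂`.** -/
theorem exists_moving
    (hc : Nat.card (jj (O ⊓ centralizer (N₁ : Set G))) = Nat.card (jj (O ⊓ centralizer (N₂ : Set G))))
    (hne : jj (O ⊓ centralizer (N₁ : Set G)) ≠ jj (O ⊓ centralizer (N₂ : Set G))) :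
    ∃ A ∈ AA (O ⊓ centralizer (N₁ : Set G)), A ∈ AA O ∧ ¬ A ≤ centralizer (N₂ : Set G) := by
  by_contra hcon
  push Not at hcon
  refine hne ((jj_eq_iff hN₁ hNO₁ h₁ hN₂ hNO₂ h₂ hc).2 ?_)
  rw [jj_eq]
  exact sSup_le fun A hA => hcon A hA (mem_AA_of_inf hN₁ hNO₁ h₁ hA)

end two

/-- **A member of `AA(O)` offends every elementary abelian `E ≤ O`.** -/
theorem le_of_mem {O E A : Subgroup G} (hE : IsElementaryAbelian 2 E) (hEO : E ≤ O) (hA : A ∈ AA O) :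
    (centralizer (A : Set G)).relIndex E ≤ (centralizer (E : Set G)).relIndex A := by
  by_contra hlt
  exact hlt (swp hE hEO hA (le_of_lt (not_le.1 hlt))).1.ge

/-- `A ∈ AA(O)`, `A ≤ N(E)`, `A` moves `V ≤ E`: an offender on `E`. -/
theorem offd_of_mem {O E V A : Subgroup G} (hE : IsElementaryAbelian 2 E) (hEO : E ≤ O) (hA : A ∈ AA O)
    (hn : A ≤ normalizer (E : Set G)) (hV : V ≤ E) (hmov : ¬ A ≤ centralizer (V : Set G)) : Offd E A :=
  ⟨hn, fun h => hmov (h.trans (centralizer_le hV)), le_of_mem hE hEO hA⟩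

/-- ranks and orders under conjugation: `|J(Q₁)| = |J(Q₂)|` if `g` carries `O` to itself and `N₁` to `N₂` -/
theorem card_jj_of_cj {O N₁ N₂ : Subgroup G} (g : G) (hO : cj g O = O) (hN : cj g N₁ = N₂) :
    Nat.card (jj (O ⊓ centralizer (N₁ : Set G))) = Nat.card (jj (O ⊓ centralizer (N₂ : Set G))) := by
  rw [← card_cj g (jj (O ⊓ centralizer (N₁ : Set G))), ← jj_cj, cj_inf, cj_centralizer, hO, hN]

end Cfsg.Agent.Omega.EK3.Rank
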