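import Cfsg.Agent.Omega.EK3.Lever
import Cfsg.Agent.Omega.EK3.Rank
import Cfsg.Agent.MinSimple.VModule
import Cfsg.Agent.ZN.Facts

/-!
# EK3: STAR for the minimal offenders of `E = ⟨Z_J^⟨Y_i, Y_j⟩⟩` (helper520; after #22123, #22296, #22451, #22727)

Pure group theory. `O ≤ D ≤ Y i = ⟨D, L i⟩`, `O` is normal in `D` and centralises `ZJ`, `N l ≤ Q m := O ⊓ C(N m)` for all
`l, m`, `(NO)` for `O` on every `N l`, `EE ZJ H := ⟨ZJ^H⟩`; `EE ZJ (Y i ⊔ Y j)` is elementary abelian, inside `O`, contains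
`N i` and `N j`; no nontrivial subgroup of `O` is normalised by `D` and all `L i`.

* `Fr` : this setting;
* `Fr.exists_AA` : some `A ∈ AA(O)` lies in all `Q l`;
* `Fr.aa_star` : **(s1)** `A ∈ AA(O)` inside all `Q l`, `x ∈ L i`, `A^x` moves `N j`, `i ≠ j`;
* `Fr.star` : **(b*)** `i ≠ j`, `F₁ ≤ Q i ∩ Q j` a minimal offender of `E`, `x ∈ L i`, `F := F₁^x ≤ Q i` is a minimal offender
  of `E` and moves `N j` (structure `Out`);
* `Out.le_cent`, `Out.le_sup`, `Out.eq` : `C_F(N j) ≤ C(E)`, `E = N_j C_E(F)`, the three indices;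
* `Out.low` : **LOW** `F ≤ O₂(C_{Y_j}(V_i))`;
* `Out.exact` : `F` is exact on every `M` with `N j ≤ M ≤ E`.
-/

set_option autoImplicit false
set_option linter.unusedSectionVars false

namespace Cfsg.Agent.Omega.EK3.StarE

open Subgroup Cfsg Cfsg.Agent.ZN Cfsg.Agent.ZN.ChoiceBase
open Cfsg.Agent.Omega.NO3S.EThree
open Cfsg.Agent.Omega.NO3S.EThree.ExactA (eab_mono eab_sup eab_iff)
open Cfsg.Agent.Omega.EK3.Rank (NoOn)

universe u

variable {G : Type u} [Group G]

/-- `⟨ZJ^H⟩` -/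
def EE (ZJ H : Subgroup G) : Subgroup G := ⨆ y : H, cj (y : G) ZJ

theorem cj_le_EE {ZJ H : Subgroup G} {y : G} (hy : y ∈ H) : cj y ZJ ≤ EE ZJ H :=
  le_iSup (fun y : H => cj (y : G) ZJ) ⟨y, hy⟩

theorem EE_le {ZJ H K : Subgroup G} (h : ∀ y ∈ H, cj y ZJ ≤ K) : EE ZJ H ≤ K := iSup_le fun y => h y y.2

theorem EE_mono {ZJ H H' : Subgroup G} (h : H ≤ H') : EE ZJ H ≤ EE ZJ H' := EE_le fun _ hy => cj_le_EE (h hy)

theorem le_EE (ZJ H : Subgroup G) : ZJ ≤ EE ZJ H := by
  have := cj_le_EE (ZJ := ZJ) H.one_mem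
  rwa [cj_one] at this

theorem cj_iSup_le {ι : Sort*} {g : G} {f : ι → Subgroup G} {K : Subgroup G} (h : ∀ i, cj g (f i) ≤ K) :
    cj g (⨆ i, f i) ≤ K := by
  rw [cj_le_iff]
  exact iSup_le fun i => cj_le_iff.1 (h i)

theorem norm_of_cj_le {g : G} {H : Subgroup G} (h : cj g H ≤ H) (h' : cj g⁻¹ H ≤ H) :
    g ∈ normalizer (H : Set G) := by
  rw [mem_normalizer_iff_cj]
  refine le_antisymm h ?_
  have := cj_mono g h'
  rwa [cj_cj_inv] at this

theorem le_norm_of_cj_le {K H : Subgroup G} (h : ∀ g ∈ K, cj g H ≤ H) : K ≤ normalizer (H : Set G) :=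
  fun g hg => norm_of_cj_le (h g hg) (h _ (inv_mem hg))

theorem norm_EE (ZJ H : Subgroup G) : H ≤ normalizer (EE ZJ H : Set G) :=
  le_norm_of_cj_le fun g hg => cj_iSup_le fun y => by
    rw [cj_cj]
    exact cj_le_EE (mul_mem hg y.2)

/-- A property of subgroups which is invariant under `A`, `B`, `C` is invariant under `⟨A, B, C⟩`. -/
theorem inv_sup {P : Subgroup G → Prop} {K : Set (Subgroup G)}
    (h : ∀ A ∈ K, ∀ g ∈ A, ∀ F : Subgroup G, P F → P (cj g F)) {g : G} (hg : g ∈ sSup K)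
    {F : Subgroup G} (hF : P F) : P (cj g F) := by
  let X : Subgroup G :=
    { carrier := {g | ∀ F : Subgroup G, P F ↔ P (cj g F)}
      one_mem' := fun F => by rw [cj_one]
      mul_mem' := fun {a b} ha hb F => by rw [← cj_cj, ← ha (cj b F), ← hb F]
      inv_mem' := fun {a} ha F => by
        have := ha (cj a⁻¹ F)
        rw [cj_cj_inv] at this
        exact this.symm }
  have h1 : sSup K ≤ X := sSup_le fun A hA g hg F => ⟨h A hA g hg F, fun hP => by
    have := h A hA g⁻¹ (inv_mem hg) _ hP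
    rwa [cj_inv_cj] at this⟩
  exact ((h1 hg) F).1 hF

/-- **The frame of STAR.** -/
structure Fr {ι : Type*} (O D ZJ : Subgroup G) (Y N L : ι → Subgroup G) : Prop where
  OD : O ≤ D
  DO : D ≤ normalizer (O : Set G)
  OZ : O ≤ centralizer (ZJ : Set G)
  DY : ∀ i, D ≤ Y i
  LY : ∀ i, L i ≤ Y i
  YDL : ∀ i, Y i ≤ D ⊔ L i
  eab : ∀ i, IsElementaryAbelian 2 (N i)
  NQ : ∀ i j, N i ≤ O ⊓ centralizer (N j : Set G)
  YN : ∀ i, Y i ≤ normalizer (N i : Set G)
  YQ : ∀ i, Y i ≤ normalizer ((O ⊓ centralizer (N i : Set G) : Subgroup G) : Set G)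
  no : ∀ i, NoOn O (N i)
  nl : ∀ U : Subgroup G, U ≤ O → D ≤ normalizer (U : Set G) → (∀ i, L i ≤ normalizer (U : Set G)) → U = ⊥
  Eeab : ∀ i j, i ≠ j → IsElementaryAbelian 2 (EE ZJ (Y i ⊔ Y j))
  EO : ∀ i j, i ≠ j → EE ZJ (Y i ⊔ Y j) ≤ O
  NE : ∀ i, N i ≤ EE ZJ (Y i)

/-- The output of STAR. -/
structure Out {ι : Type*} (O ZJ : Subgroup G) (Y N L : ι → Subgroup G) (i j : ι) (F₁ F : Subgroup G) (x : G) :
    Prop where
  ne : i ≠ j
  xL : x ∈ L i
  eq : F = cj x F₁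
  le₁ : F₁ ≤ O ⊓ centralizer (N j : Set G)
  le₁' : F₁ ≤ O ⊓ centralizer (N i : Set G)
  off₁ : MinOff (EE ZJ (Y i ⊔ Y j)) F₁
  le : F ≤ O ⊓ centralizer (N i : Set G)
  eab : IsElementaryAbelian 2 F
  off : MinOff (EE ZJ (Y i ⊔ Y j)) F
  mov : ¬ F ≤ centralizer (N j : Set G)

namespace Fr

variable {ι : Type*} {O D ZJ : Subgroup G} {Y N L : ι → Subgroup G} (h : Fr O D ZJ Y N L)
include h

theorem NO (i : ι) : N i ≤ O := (h.NQ i i).trans inf_le_left

theorem OY (i : ι) : O ≤ Y i := h.OD.trans (h.DY i)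

theorem DN (i : ι) : D ≤ normalizer (N i : Set G) := (h.DY i).trans (h.YN i)

theorem NE' {i j : ι} : N i ≤ EE ZJ (Y i ⊔ Y j) := (h.NE i).trans (EE_mono le_sup_left)

theorem NE'' {i j : ι} : N j ≤ EE ZJ (Y i ⊔ Y j) := (h.NE j).trans (EE_mono le_sup_right)

variable [Finite G]

/-- Some `A ∈ AA(O)` lies in all `Q l`. -/
theorem exists_AA [Finite ι] : ∃ A ∈ AA O, ∀ l, A ≤ centralizer (N l : Set G) := by
  classical
  have key : ∀ s : Set ι, s.Finite → ∃ A ∈ AA O, ∀ l ∈ s, A ≤ centralizer (N l : Set G) := by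
    intro s hs
    induction s, hs using Set.Finite.induction_on with
    | empty =>
      obtain ⟨A, hA⟩ := AA_nonempty O
      exact ⟨A, hA, fun l hl => absurd hl (Set.notMem_empty l)⟩
    | insert _ _ ih =>
      rename_i m s _ _
      obtain ⟨A, hA, hl⟩ := ih
      refine ⟨(A ⊓ centralizer (N m : Set G)) ⊔ N m,
        (Rank.exch (h.eab m) (h.NO m) (h.no m) hA).2.2, fun l hl' => ?_⟩
      rcases Set.mem_insert_iff.1 hl' with rfl | hl'
      · exact sup_le inf_le_right ((h.NQ l l).trans inf_le_right)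
      · exact sup_le (inf_le_left.trans (hl l hl')) ((h.NQ m l).trans inf_le_right)
  obtain ⟨A, hA, hl⟩ := key Set.univ Set.finite_univ
  exact ⟨A, hA, fun l => hl l (Set.mem_univ l)⟩

/-- a conjugate of a member of `AA(O)` that is still in `O` -/
theorem cj_mem {A : Subgroup G} {x : G} (hA : A ∈ AA O) (hx : cj x A ≤ O) : cj x A ∈ AA O := by
  rw [mem_AA_iff] at *
  exact ⟨isElementaryAbelian_cj x hA.1, hx, by rw [card_cj]; exact hA.2.2⟩

/-- **(s1).** -/
theorem aa_star [Finite ι] (hO : O ≠ ⊥) : ∃ A ∈ AA O, (∀ l, A ≤ centralizer (N l : Set G)) ∧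
    ∃ i j, i ≠ j ∧ ∃ x ∈ L i, ¬ cj x A ≤ centralizer (N j : Set G) := by
  by_contra hcon
  push Not at hcon
  let S : Set (Subgroup G) := {A | A ∈ AA O ∧ ∀ l, A ≤ centralizer (N l : Set G)}
  obtain ⟨A₀, hA₀, hl₀⟩ := h.exists_AA
  have hSO : sSup S ≤ O := sSup_le fun A hA => hA.1.2.1
  have hsub : ∀ {x : G}, (∀ A ∈ S, cj x A ∈ S) → cj x (sSup S) ≤ sSup S := by
    intro x hx
    rw [cj_le_iff]
    exact sSup_le fun A hA => cj_le_iff.1 (le_sSup (hx A hA))
  have hD : D ≤ normalizer ((sSup S : Subgroup G) : Set G) := le_norm_of_cj_le fun d hd => hsub fun A hA => by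
    have h1 : cj d A ≤ O := by
      have := cj_mono d hA.1.2.1
      rwa [cj_eq_of_mem_normalizer (h.DO hd)] at this
    refine ⟨h.cj_mem hA.1 h1, fun l => ?_⟩
    have := cj_mono d (hA.2 l)
    rwa [cj_centralizer, cj_eq_of_mem_normalizer (h.DN l hd)] at this
  have hL : ∀ i, L i ≤ normalizer ((sSup S : Subgroup G) : Set G) := fun i => le_norm_of_cj_le fun x hx => hsub fun A hA => by
    have h1 : cj x A ≤ O ⊓ centralizer (N i : Set G) := by
      have := cj_mono x (le_inf hA.1.2.1 (hA.2 i))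
      rwa [cj_eq_of_mem_normalizer (h.YQ i (h.LY i hx))] at this
    refine ⟨h.cj_mem hA.1 (h1.trans inf_le_left), fun l => ?_⟩
    by_cases hil : i = l
    · subst hil
      exact h1.trans inf_le_right
    · exact hcon A hA.1 hA.2 i l hil x hx
  have hb := h.nl (sSup S) hSO hD hL
  have h1 : A₀ ≤ sSup S := le_sSup ⟨hA₀, hl₀⟩
  rw [hb] at h1
  -- `AA(O)` has a nontrivial member
  have h2 : mm O = 1 := by
    rw [mm_eq hA₀, le_bot_iff.1 h1, card_bot]
  obtain ⟨i⟩ : Nonempty ι := by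
    by_contra hι
    rw [not_nonempty_iff] at hι
    exact hO (h.nl O le_rfl h.DO fun i => isEmptyElim i)
  exact hO (h.nl O le_rfl h.DO fun i => by
    have : N i = ⊥ := by
      have h3 := card_le_mm (h.eab i) (h.NO i)
      rw [h2] at h3
      exact (Subgroup.card_le_one_iff_eq_bot _).1 h3
    have h4 := h.YQ i
    rw [this] at h4
    have h5 : (O ⊓ centralizer ((⊥ : Subgroup G) : Set G) : Subgroup G) = O := by
      refine inf_eq_left.2 fun x _ => ?_
      rw [mem_centralizer_iff]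
      rintro y hy
      rw [SetLike.mem_coe, mem_bot] at hy
      rw [hy, one_mul, mul_one]
    rw [h5] at h4
    exact (h.LY i).trans h4)

/-- **(b*).** -/
theorem star [Finite ι] (hO : O ≠ ⊥) : ∃ i j F₁ F x, Out O ZJ Y N L i j F₁ F x := by
  obtain ⟨A, hA, hl, i, j, hij, x, hx, hmv⟩ := h.aa_star hO
  set E := EE ZJ (Y i ⊔ Y j) with hE
  have hnE : Y i ⊔ Y j ≤ normalizer (E : Set G) := norm_EE _ _
  have hAO : A ≤ O := hA.2.1
  have hOE : O ≤ normalizer (E : Set G) := ((h.OY i).trans le_sup_left).trans hnE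
  have hAE : ¬ A ≤ centralizer (E : Set G) := fun hc => hmv (by
    have h1 : cj x A ≤ cj x (centralizer (E : Set G)) := cj_mono x hc
    rw [cj_centralizer, cj_eq_of_mem_normalizer (hnE (le_sup_left (a := Y i) (b := Y j) (h.LY i hx)))] at h1
    exact h1.trans (centralizer_le h.NE''))
  obtain ⟨F₀, hFA, hF₀⟩ := (Lever.offd_of_AA (h.Eeab i j hij) (h.EO i j hij) hA (hAO.trans hOE) hAE).exists_min
  -- the minimal offenders inside `Q i ∩ Q j`
  let P : Subgroup G → Prop := fun F => F ≤ O ∧ F ≤ centralizer (N i : Set G) ∧ F ≤ centralizer (N j : Set G) ∧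
    IsElementaryAbelian 2 F ∧ MinOff E F
  have hP₀ : P F₀ := ⟨hFA.trans hAO, hFA.trans (hl i), hFA.trans (hl j), eab_mono hA.1 hFA, hF₀⟩
  -- conjugates under `Y i ⊔ Y j`
  have hcjE : ∀ {F : Subgroup G} {y : G}, y ∈ Y i ⊔ Y j → MinOff E F → MinOff E (cj y F) := by
    intro F y hy hF
    have := Lever.minOff_cj hF y
    rwa [cj_eq_of_mem_normalizer (hnE hy)] at this
  have hQ : ∀ {F : Subgroup G} {y : G} (l : ι), y ∈ Y l → F ≤ O → F ≤ centralizer (N l : Set G) →
      cj y F ≤ O ⊓ centralizer (N l : Set G) := by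
    intro F y l hy h1 h2
    have := cj_mono y (le_inf h1 h2)
    rwa [cj_eq_of_mem_normalizer (h.YQ l hy)] at this
  have hex : (∃ F, P F ∧ ∃ x ∈ L i, ¬ cj x F ≤ centralizer (N j : Set G)) ∨
      (∃ F, P F ∧ ∃ x ∈ L j, ¬ cj x F ≤ centralizer (N i : Set G)) := by
    by_contra hcon
    push Not at hcon
    obtain ⟨c1, c2⟩ := hcon
    have hinv : ∀ y ∈ Y i ⊔ Y j, ∀ F, P F → P (cj y F) := by
      intro y hy F hF
      have hgen : Y i ⊔ Y j ≤ sSup {D, L i, L j} := by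
        refine sup_le ((h.YDL i).trans (sup_le ?_ ?_)) ((h.YDL j).trans (sup_le ?_ ?_))
        · exact le_sSup (by simp)
        · exact le_sSup (by simp)
        · exact le_sSup (by simp)
        · exact le_sSup (by simp)
      refine inv_sup (P := P) (K := {D, L i, L j}) ?_ (hgen hy) hF
      intro B hB g hg F hF
      rcases hB with rfl | rfl | rfl
      · have h1 := hQ i (h.DY i hg) hF.1 hF.2.1
        have h2 := hQ j (h.DY j hg) hF.1 hF.2.2.1
        exact ⟨h1.trans inf_le_left, h1.trans inf_le_right, h2.trans inf_le_right,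
          isElementaryAbelian_cj g hF.2.2.2.1, hcjE (le_sup_left (a := Y i) (h.DY i hg)) hF.2.2.2.2⟩
      · have h1 := hQ i (h.LY i hg) hF.1 hF.2.1
        exact ⟨h1.trans inf_le_left, h1.trans inf_le_right, c1 F hF g hg,
          isElementaryAbelian_cj g hF.2.2.2.1, hcjE (le_sup_left (a := Y i) (h.LY i hg)) hF.2.2.2.2⟩
      · have h1 := hQ j (h.LY j hg) hF.1 hF.2.2.1
        exact ⟨h1.trans inf_le_left, c2 F hF g hg, h1.trans inf_le_right,
          isElementaryAbelian_cj g hF.2.2.2.1, hcjE (le_sup_right (a := Y i) (h.LY j hg)) hF.2.2.2.2⟩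
    apply hF₀.mov
    have h1 : E ≤ centralizer (F₀ : Set G) := EE_le fun y hy => by
      have h2 := (hinv y⁻¹ (inv_mem hy) F₀ hP₀).1.trans h.OZ
      have h3 := cj_mono y h2
      rw [cj_cj_inv, cj_centralizer] at h3
      exact Subgroup.le_centralizer_iff.1 h3
    exact Subgroup.le_centralizer_iff.1 h1
  rcases hex with ⟨F₁, hF₁, x, hx, hmv⟩ | ⟨F₁, hF₁, x, hx, hmv⟩
  · exact ⟨i, j, F₁, cj x F₁, x, hij, hx, rfl, le_inf hF₁.1 hF₁.2.2.1, le_inf hF₁.1 hF₁.2.1, hF₁.2.2.2.2,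
      hQ i (h.LY i hx) hF₁.1 hF₁.2.1, isElementaryAbelian_cj x hF₁.2.2.2.1,
      hcjE (le_sup_left (a := Y i) (h.LY i hx)) hF₁.2.2.2.2, hmv⟩
  · refine ⟨j, i, F₁, cj x F₁, x, hij.symm, hx, rfl, le_inf hF₁.1 hF₁.2.1, le_inf hF₁.1 hF₁.2.2.1, ?_,
      hQ j (h.LY j hx) hF₁.1 hF₁.2.2.1, isElementaryAbelian_cj x hF₁.2.2.2.1, ?_, hmv⟩
    · rw [sup_comm]
      exact hF₁.2.2.2.2
    · rw [sup_comm]
      exact hcjE (le_sup_right (a := Y i) (h.LY j hx)) hF₁.2.2.2.2

end Fr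

namespace Out

variable {ι : Type*} {O D ZJ : Subgroup G} {Y N L V Zp : ι → Subgroup G} {i j : ι} {F₁ F : Subgroup G} {x : G}
  (o : Out O ZJ Y N L i j F₁ F x)
include o

theorem leO : F ≤ O := o.le.trans inf_le_left

theorem le_centi : F ≤ centralizer (N i : Set G) := o.le.trans inf_le_right

/-- `F` centralises `N_j^x`. -/
theorem le_cj : F ≤ centralizer ((cj x (N j) : Subgroup G) : Set G) := by
  rw [o.eq, ← cj_centralizer]
  exact cj_mono x (o.le₁.trans inf_le_right)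

variable (h : Fr O D ZJ Y N L)
include h

theorem YE : Y j ≤ normalizer (EE ZJ (Y i ⊔ Y j) : Set G) := (le_sup_right (a := Y i)).trans (norm_EE _ _)

theorem elE : IsElementaryAbelian 2 (EE ZJ (Y i ⊔ Y j)) := h.Eeab i j o.ne

theorem elF₁ : IsElementaryAbelian 2 F₁ := by
  have := isElementaryAbelian_cj x⁻¹ o.eab
  rwa [o.eq, cj_inv_cj] at this

theorem elF : IsElementaryAbelian 2 F := o.eab

variable [Finite G]

theorem no : (centralizer (N j : Set G)).relIndex F ≤ (centralizer (F : Set G)).relIndex (N j) :=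
  h.no j F o.eab o.leO

/-- **(s3)** `C_F(N j)` centralises `E`. -/
theorem le_cent : F ⊓ centralizer (N j : Set G) ≤ centralizer (EE ZJ (Y i ⊔ Y j) : Set G) :=
  o.off.inf_le h.NE'' o.mov (o.no h)

/-- **(s3)** `E = N_j C_E(F)` -/
theorem le_sup : EE ZJ (Y i ⊔ Y j) ≤ N j ⊔ (EE ZJ (Y i ⊔ Y j) ⊓ centralizer (F : Set G)) :=
  o.off.le_sup h.NE'' o.mov (o.no h)

theorem relIndex_eq :
    (centralizer (EE ZJ (Y i ⊔ Y j) : Set G)).relIndex F = (centralizer (F : Set G)).relIndex (N j) ∧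
      (centralizer (F : Set G)).relIndex (EE ZJ (Y i ⊔ Y j)) = (centralizer (F : Set G)).relIndex (N j) ∧
      (centralizer (N j : Set G)).relIndex F = (centralizer (F : Set G)).relIndex (N j) :=
  o.off.relIndex_eq h.NE'' o.mov (o.no h)

/-- `F` is exact on every `M` with `N j ≤ M ≤ E`. -/
theorem exact {M : Subgroup G} (hNM : N j ≤ M) (hME : M ≤ EE ZJ (Y i ⊔ Y j)) :
    F ⊓ centralizer (N j : Set G) ≤ centralizer (M : Set G) ∧
      (centralizer (M : Set G)).relIndex F = (centralizer (N j : Set G)).relIndex F ∧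
      (centralizer (F : Set G)).relIndex M = (centralizer (N j : Set G)).relIndex F := by
  have h1 := (o.le_cent h).trans (centralizer_le hME)
  obtain ⟨e1, e2, e3⟩ := o.relIndex_eq h
  refine ⟨h1, ?_, ?_⟩
  · rw [relIndex_eq_mul (N := M) (V := N j) (A := F) hNM, relIndex_eq_one.2 h1, one_mul]
  · rw [e3]
    refine le_antisymm ?_ (relIndex_le_of_le_right hNM index_ne_zero_of_finite)
    rw [← e2]
    exact relIndex_le_of_le_right hME index_ne_zero_of_finite

/-- `F` offends no worse than exactly: `(NO)` for `A ≤ F` on `M`. -/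
theorem no_sub {M A : Subgroup G} (hNM : N j ≤ M) (hME : M ≤ EE ZJ (Y i ⊔ Y j)) (hA : A ≤ F) :
    (centralizer (M : Set G)).relIndex A ≤ (centralizer (A : Set G)).relIndex M := by
  have h1 : A ⊓ centralizer (N j : Set G) ≤ centralizer (M : Set G) :=
    (inf_le_inf_right _ hA).trans (o.exact h hNM hME).1
  rw [relIndex_eq_mul (N := M) (V := N j) (A := A) hNM, relIndex_eq_one.2 h1, one_mul]
  exact (h.no j A (eab_mono o.eab hA) (hA.trans o.leO)).trans
    (relIndex_le_of_le_right hNM index_ne_zero_of_finite)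

/-- **LOW.** `C' := Y j ⊓ C(V)` (`V = V_i`) is normalised by `L i`, `L i` normalises `Zp = Z_j`: `F ≤ O₂(C')`. -/
theorem low {V Zp : Subgroup G} (hp : IsPGroup 2 O) (hVN : V ≤ N i)
    (hLC : L i ≤ normalizer ((Y j ⊓ centralizer (V : Set G) : Subgroup G) : Set G))
    (hLZ : L i ≤ normalizer (Zp : Set G)) (hZN : Zp ≤ N j) (hcap : Y j ⊓ centralizer (Zp : Set G) ≤ D) :
    F ≤ o2 (Y j ⊓ centralizer (V : Set G)) := by
  set C' : Subgroup G := Y j ⊓ centralizer (V : Set G) with hC'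
  set N' : Subgroup G := EE Zp C' with hN'
  have hCY : C' ≤ Y j := inf_le_left
  have hN'N : N' ≤ N j := EE_le fun y hy => by
    have := cj_mono y hZN
    rwa [cj_eq_of_mem_normalizer (h.YN j (hCY hy))] at this
  have hC'N' : C' ≤ normalizer (N' : Set G) := norm_EE _ _
  -- `N'^x ≤ N'`, so `N' ≤ N_j^x`
  have hx' : N' ≤ cj x (N j) := by
    rw [hN']
    refine EE_le fun y hy => ?_
    have h1 : x⁻¹ * y * x ∈ C' := by
      have := (mem_normalizer_iff.1 (hLC (inv_mem o.xL)) y).1 hy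
      rwa [inv_inv] at this
    have h2 : cj (x⁻¹ * y * x) Zp ≤ N j := (cj_le_EE h1).trans hN'N
    have h3 := cj_mono x h2
    rw [cj_cj] at h3
    have e : x * (x⁻¹ * y * x) = y * x := by group
    rw [e, ← cj_cj, cj_eq_of_mem_normalizer (hLZ o.xL)] at h3
    exact h3
  have hFN' : F ≤ centralizer (N' : Set G) := o.le_cj.trans (centralizer_le hx')
  have hFY : F ≤ Y j := o.leO.trans (h.OY j)
  have hFC : F ≤ C' := le_inf hFY (o.le_centi.trans (centralizer_le hVN))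
  set R : Subgroup G := C' ⊓ centralizer (N' : Set G) with hR
  have hRD : R ≤ D := (le_inf (inf_le_left.trans hCY)
    (inf_le_right.trans (centralizer_le (le_EE Zp C')))).trans hcap
  have hnR : C' ≤ normalizer (R : Set G) := by
    intro c hc
    rw [mem_normalizer_iff_cj, hR, cj_inf, cj_centralizer, cj_eq_of_mem_normalizer (hC'N' hc),
      cj_eq_of_mem_normalizer (le_normalizer hc)]
  have hOR : O ⊓ R ≤ o2 R := MinSimple.VModule.le_o2 inf_le_right (hp.to_le inf_le_left) (by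
    intro r hr
    rw [mem_normalizer_iff_cj, cj_inf, cj_eq_of_mem_normalizer (h.DO (hRD hr)),
      cj_eq_of_mem_normalizer (le_normalizer hr)])
  have hRC : o2 R ≤ o2 C' := MinSimple.VModule.le_o2 ((MinSimple.VModule.o2_le R).trans inf_le_left)
    (MinSimple.VModule.o2_isPGroup R) (hnR.trans (normalizer_le_normalizer_o2 R))
  exact (le_inf o.leO (le_inf hFC hFN')).trans (hOR.trans hRC)

end Out

end Cfsg.Agent.Omega.EK3.StarE
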