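import Cfsg.Agent.Omega.EK3.Base
import Cfsg.Agent.Omega.EK3.StarE

/-!
# THEOREM K3 (helper474, #22123), step (0), in the terms of `StarE.Fr`

Frame `Bg S P B ZJ L W Z C 2`, `Z i = {1, z i}`, `Y j = C_T`, `T = {j}ᶜ` (`mem_Yc`), `N j = ⟨z_j^(Y_j)⟩`,
`hk : ∀ i j, ∃ l, l ≠ i ∧ l ≠ j`.

* `EE_le_ET`, `eab_EE`, `EE_le_O`, `EE_le_o2` : `E_ij = ⟨ZJ^⟨Y_i, Y_j⟩⟩` is elementary abelian, in `O = O₂(C(ZJ))` and in
  `O₂(Y_i)`;
* `N_le_EE`, `W_le_EE`, `eab_N`, `N_le` : `N i ≤ O ⊓ C(N j)`, `Y_norm_N`, `N_le_o2Y`.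
-/

set_option autoImplicit false
set_option linter.unusedSectionVars false

namespace Cfsg.Agent.Omega.EK3

open Subgroup Cfsg Cfsg.Agent.ZN.ChoiceBase
open Cfsg.Agent.ZN (zc zl o2)
open Cfsg.Agent.Omega.NO3S.EThree.Frame (Bg Fg)
open Cfsg.Agent.Omega.NO3S.EThree.ExactA (eab_mono eab_sup eab_iff)
open Cfsg.Agent.Omega.EK3.StarE (EE EE_le cj_le_EE EE_mono norm_EE)
open scoped Pointwise

universe u

variable {G : Type u} [Group G] {S : Sylow 2 G} {P B ZJ : Subgroup G} {ι : Type} {L W Z C : ι → Subgroup G}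
  {z : ι → G}

/-- `Y_j = C_G(z_l : l ≠ j)` -/
def Yc (z : ι → G) (j : ι) : Subgroup G := CT z {j}ᶜ

theorem mem_Yc {j : ι} {x : G} : x ∈ Yc z j ↔ ∀ l, l ≠ j → x * z l = z l * x := by
  unfold Yc
  rw [mem_CT]
  exact Iff.rfl

theorem eq_Yc {j : ι} {Y : Subgroup G} (hY : ∀ x, x ∈ Y ↔ ∀ l, l ≠ j → x * z l = z l * x) : Y = Yc z j := by
  ext x
  rw [hY, mem_Yc]

/-- `N_j = ⟨z_j^(Y_j)⟩` -/
def Nc (z : ι → G) (j : ι) : Subgroup G := NoFF.Basic.V (zpowers (z j)) (Yc z j)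

theorem Y_norm_V (Z₀ Y : Subgroup G) : Y ≤ normalizer (NoFF.Basic.V Z₀ Y : Set G) := by
  intro g hg
  have h1 := NoFF.Basic.conj_V_mul (Z := Z₀) (g := 1) hg
  rw [one_mul, map_one, one_smul] at h1
  rw [mem_normalizer_iff]
  intro x
  conv_lhs => rw [← Subgroup.smul_mem_pointwise_smul_iff (a := MulAut.conj g), h1]
  rfl

theorem Y_norm_N (j : ι) : Yc z j ≤ normalizer (Nc z j : Set G) := Y_norm_V _ _

theorem Yc_sup_le {i j : ι} : Yc z i ⊔ Yc z j ≤ CT z ({i, j} : Set ι)ᶜ :=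
  sup_le (CT_mono (Set.compl_subset_compl.2 (Set.singleton_subset_iff.2 (Or.inl rfl))))
    (CT_mono (Set.compl_subset_compl.2 (Set.singleton_subset_iff.2 (Or.inr rfl))))

theorem EE_le_ET {T : Set ι} {Y : Subgroup G} (hY : Y ≤ CT z T) : EE ZJ Y ≤ ET ZJ z T :=
  EE_le fun _ hy => NoFF.Basic.Z_le_V (Z := ZJ) (hY hy)

variable [Finite G] [Finite ι] (h : Bg S P B ZJ L W Z C 2) (hz : ∀ i x, x ∈ Z i ↔ x = 1 ∨ x = z i)
  (hk : ∀ i j : ι, ∃ l, l ≠ i ∧ l ≠ j)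
include h hz

theorem eab_ET {T : Set ι} (hT : T.Nonempty) : IsElementaryAbelian 2 (ET ZJ z T) :=
  eab_iff.2 ⟨ET_ab h hz hT, fun _ hx => ET_sq h hz hT hx⟩

include hk

omit h hz in
theorem compl_ne (i j : ι) : (({i, j} : Set ι)ᶜ).Nonempty := by
  obtain ⟨l, h1, h2⟩ := hk i j
  exact ⟨l, by simp [h1, h2]⟩

theorem eab_EE (i j : ι) : IsElementaryAbelian 2 (EE ZJ (Yc z i ⊔ Yc z j)) :=
  eab_mono (eab_ET h hz (compl_ne hk i j)) (EE_le_ET Yc_sup_le)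

theorem EE_le_O (i j : ι) : EE ZJ (Yc z i ⊔ Yc z j) ≤ o2 (centralizer (ZJ : Set G)) :=
  (EE_le_ET Yc_sup_le).trans (ET_le_O h hz (compl_ne hk i j))

theorem EE_le_o2 (i j : ι) : EE ZJ (Yc z i ⊔ Yc z j) ≤ o2 (Yc z i) :=
  (EE_le_ET Yc_sup_le).trans (ET_le_of_le h hz (compl_ne hk i j) (cent_le_CT h hz) CT_compl_le)

omit hk in
theorem N_le_EE (i : ι) : Nc z i ≤ EE ZJ (Yc z i) :=
  NoFF.Basic.V_le fun _ hy => (NoFF.Basic.conj_le_iff.2 (zpowers_le.2 (z_mem h hz i))).trans (cj_le_EE hy)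

omit hk in
theorem W_le_EE (i : ι) : W i ≤ EE ZJ (Yc z i) := by
  intro v hv
  by_cases hv1 : v = 1
  · rw [hv1]; exact one_mem _
  obtain ⟨l, -, hlC, y, hy, e⟩ := h.tr i v hv hv1
  have hl : l ∈ Yc z i := by
    rw [mem_Yc]
    intro m hm
    exact (mem_centralizer_iff.1 hlC _ (h.fr.WjC i m hm.symm ((h.fr.blk m).ZV (z_mem_Z h hz m)))).symm
  rw [← e]
  exact cj_le_EE hl ⟨y, h.fr.Z_le i hy, rfl⟩

/-- `W i ≤ N i` -/
theorem W_le_Nc (i : ι) : W i ≤ Nc z i := by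
  intro v hv
  by_cases hv1 : v = 1
  · rw [hv1]; exact one_mem _
  obtain ⟨l, -, hlC, y, hy, e⟩ := h.tr i v hv hv1
  have hl : l ∈ Yc z i := by
    rw [mem_Yc]
    intro m hm
    exact (mem_centralizer_iff.1 hlC _ (h.fr.WjC i m hm.symm ((h.fr.blk m).ZV (z_mem_Z h hz m)))).symm
  rw [← e]
  refine NoFF.Basic.Z_le_V (Z := zpowers (z i)) hl ⟨y, ?_, rfl⟩
  rcases (hz i y).1 hy with e1 | e1
  · rw [e1]; exact one_mem _
  · rw [e1]; exact mem_zpowers _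

theorem N_le_E (i j : ι) : Nc z i ≤ EE ZJ (Yc z i ⊔ Yc z j) := (N_le_EE h hz i).trans (EE_mono le_sup_left)

theorem N_le_E' (i j : ι) : Nc z j ≤ EE ZJ (Yc z i ⊔ Yc z j) := (N_le_EE h hz j).trans (EE_mono le_sup_right)

theorem eab_N (i : ι) : IsElementaryAbelian 2 (Nc z i) := eab_mono (eab_EE h hz hk i i) (N_le_E h hz hk i i)

theorem N_le_O (i : ι) : Nc z i ≤ o2 (centralizer (ZJ : Set G)) := (N_le_E h hz hk i i).trans (EE_le_O h hz hk i i)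

theorem N_comm (i j : ι) : Nc z i ≤ centralizer (Nc z j : Set G) := by
  intro x hx
  rw [mem_centralizer_iff]
  intro y hy
  exact mem_centralizer_iff.1 ((eab_iff.1 (eab_EE h hz hk i j)).1 (N_le_E h hz hk i j hx)) y
    (N_le_E' h hz hk i j hy)

/-- `N_i ≤ O ⊓ C(N_j)` -/
theorem N_le (i j : ι) : Nc z i ≤ o2 (centralizer (ZJ : Set G)) ⊓ centralizer (Nc z j : Set G) :=
  le_inf (N_le_O h hz hk i) (N_comm h hz hk i j)

/-- `N_i ≤ O₂(Y_j)` -/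
theorem N_le_o2Y (i j : ι) : Nc z i ≤ o2 (Yc z j) := by
  have h1 := (N_le_E' h hz hk j i).trans (EE_le_o2 h hz hk j i)
  exact h1

end Cfsg.Agent.Omega.EK3
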