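import Cfsg.Agent.Omega.EK3.Frame

/-!
# (E), `k ≥ 3`, `q = 2`: the literals over `EK3.Fr`

* `Fr.NN_le_zc`, `Fr.NN_comm`, `Fr.NN_sq`, `Fr.W_le_NN`, `Fr.Q_eq` : `O₂(YY z j) = O₂(D) ⊓ C(NN z j)`;
* `Fr.swap`, `Fr.trans_of`, `Fr.tr`, `Fr.par` : the minimal parabolics of `YY z j` over `B`;
* `Fr.stab_le`, `Fr.no` : (NO) for `YY z j` on `NN z j`;
* `Fr.kgroup`, `Fr.conj`, `Fr.nonloc_Y`, `nonloc_of`.
-/

set_option autoImplicit false
set_option linter.unusedSectionVars false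

namespace Cfsg.Agent.Omega.EK3

open Subgroup Cfsg Cfsg.Agent.ZN.ChoiceBase
open Cfsg.Agent.ZN (jj zj bau zc zl o2)
open Cfsg.Agent.ZN.ChoiceSit (Syl exists_syl syl_conj o2_le_syl)
open Cfsg.Agent.Omega.OM Cfsg.Agent.Omega.OM.Uni
open Cfsg.Agent.Omega.NO3S.EThree.Frame
open Cfsg.Agent.Omega.Node.MultiOf
open Cfsg.Agent.Omega.NoFF.Basic (V_le Z_le_V mem_conj conj_le_iff)
open Cfsg.Agent.Omega.OM.KTwo (le_V le_normalizer_V)
open Cfsg.Agent.Omega.NOThreeL.Pair (conj_eq_of_mem)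
open Cfsg.Agent.MinSimple.MinParabolic (IsMinPar)
open Cfsg.Agent.MinSimple.VModule (zc_le normalizer_le_normalizer_zc le_normalizer_o2 o2_isPGroup le_o2 o2_le
  le_centralizer_zc)
open scoped Pointwise

universe u

variable {G : Type u} [Group G]

namespace Fr

variable [Finite G] {S : Sylow 2 G} {P K B ZJ : Subgroup G} {k : ℕ} {L W Z C : Fin k → Subgroup G}
    {z : Fin k → G} (h : Fr S P K B ZJ L W Z C z)

include h

/-! ### `N_j ≤ Z(Q_j)` -/

theorem z_mem_YY (i j : Fin k) : z i ∈ YY z j := mem_YY.2 fun l _ => h.zz i l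

theorem o2_le_B (j : Fin k) : o2 (YY z j) ≤ B := o2_le_syl (h.syl j)

theorem z_mem_o2 (i j : Fin k) : z i ∈ o2 (YY z j) := by
  refine h.char2 j ⟨h.z_mem_YY i j, mem_centralizer_iff.2 fun x hx => ?_⟩
  exact mem_centralizer_singleton_iff.1 (h.D_le_C i (h.B_le_D (h.o2_le_B j hx)))

theorem z_mem_zc (i j : Fin k) : z i ∈ zc (o2 (YY z j)) :=
  mem_zc.2 ⟨h.z_mem_o2 i j, h.z_sq i, fun _ hx =>
    mem_centralizer_singleton_iff.1 (h.D_le_C i (h.B_le_D (h.o2_le_B j hx)))⟩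

theorem Y_le_zc (j : Fin k) : YY z j ≤ normalizer (zc (o2 (YY z j)) : Set G) :=
  (le_normalizer_o2 _).trans (normalizer_le_normalizer_zc _)

theorem NN_le_zc (j : Fin k) : NN z j ≤ zc (o2 (YY z j)) := NN_le (h.z_mem_zc j j) (h.Y_le_zc j)

theorem NN_le_o2 (j : Fin k) : NN z j ≤ o2 (YY z j) := (h.NN_le_zc j).trans (zc_le _)

theorem NN_le_B (j : Fin k) : NN z j ≤ B := (h.NN_le_o2 j).trans (h.o2_le_B j)

theorem NN_le_Y (i j : Fin k) : NN z i ≤ YY z j := (h.NN_le_B i).trans (h.B_le j)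

theorem NN_le_cent (j : Fin k) : NN z j ≤ centralizer (o2 (YY z j) : Set G) := fun x hx =>
  mem_centralizer_iff.2 fun y hy => (mem_zc.1 (h.NN_le_zc j hx)).2.2 y hy

theorem o2_le_cent (j : Fin k) : o2 (YY z j) ≤ centralizer (NN z j : Set G) := by
  rw [le_centralizer_iff]
  exact h.NN_le_cent j

theorem NN_sq (j : Fin k) {x : G} (hx : x ∈ NN z j) : x ^ 2 = 1 := (mem_zc.1 (h.NN_le_zc j hx)).2.1

theorem NN_comm (j : Fin k) : NN z j ≤ centralizer (NN z j : Set G) := (h.NN_le_o2 j).trans (h.o2_le_cent j)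

/-! ### `Q_j = C_O(N_j)` -/

/-- `O₂(Y_j) ≤ O₂(D)` -/
theorem o2_le_O (j : Fin k) : o2 (YY z j) ≤ o2 (centralizer (ZJ : Set G)) :=
  le_o2 ((h.o2_le_B j).trans h.B_le_D) (o2_isPGroup _) ((h.D_le j).trans (le_normalizer_o2 _))

theorem O_le_B : o2 (centralizer (ZJ : Set G)) ≤ B := o2_le_syl h.sylD

theorem O_le_Y (j : Fin k) : o2 (centralizer (ZJ : Set G)) ≤ YY z j := h.O_le_B.trans (h.B_le j)

/-- `C_{Y_j}(N_j) ≤ D` -/
theorem cent_le (j : Fin k) : YY z j ⊓ centralizer (NN z j : Set G) ≤ centralizer (ZJ : Set G) := by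
  rw [← h.stab j]
  exact le_inf inf_le_left (inf_le_right.trans (centralizer_le (Set.singleton_subset_iff.2 (mem_NN z j))))

theorem Y_norm_cent (j : Fin k) :
    YY z j ≤ normalizer ((YY z j ⊓ centralizer (NN z j : Set G) : Subgroup G) : Set G) := by
  intro g hg
  rw [mem_normalizer_iff_cj, cj_inf, cj_centralizer, cj_eq_of_mem_normalizer (le_normalizer_NN z j hg),
    cj_eq_of_mem_normalizer (Subgroup.le_normalizer hg)]

/-- **`O₂(Y_j) = C_O(N_j)`** -/
theorem Q_eq (j : Fin k) : o2 (YY z j) = o2 (centralizer (ZJ : Set G)) ⊓ centralizer (NN z j : Set G) := by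
  apply le_antisymm
  · exact le_inf (h.o2_le_O j) (h.o2_le_cent j)
  · set X := YY z j ⊓ centralizer (NN z j : Set G) with hX
    have h1 : o2 (centralizer (ZJ : Set G)) ⊓ centralizer (NN z j : Set G) ≤ o2 X := by
      refine le_o2 (le_inf (inf_le_left.trans (h.O_le_Y j)) inf_le_right) ((o2_isPGroup _).to_le inf_le_left) ?_
      intro x hx
      have hxD : x ∈ normalizer (o2 (centralizer (ZJ : Set G)) : Set G) := le_normalizer_o2 _ (h.cent_le j hx)
      have hxN : x ∈ normalizer (NN z j : Set G) := le_normalizer_NN z j hx.1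
      rw [mem_normalizer_iff_cj, cj_inf, cj_centralizer, cj_eq_of_mem_normalizer hxD,
        cj_eq_of_mem_normalizer hxN]
    refine h1.trans (le_o2 ((o2_le _).trans inf_le_left) (o2_isPGroup _) ?_)
    refine (h.Y_norm_cent j).trans ?_
    exact normalizer_le_of_cj (F := o2) (fun g T => Cfsg.Agent.ZN.ChoiceSit.o2_cj g T) X

/-! ### the four-group `W j` -/

theorem card_W (j : Fin k) : Nat.card (W j) = 4 := by rw [(h.bg.fr.blk j).card, h.bg.fr.cardZ j]

theorem W_sq (j : Fin k) {x : G} (hx : x ∈ W j) : x ^ 2 = 1 := h.bg.fr.Vsq (h.bg.fr.WV j hx)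

theorem W_le_B (j : Fin k) : W j ≤ B := (h.bg.fr.WV j).trans h.bg.fr.VB

theorem B_norm_W (j : Fin k) : B ≤ normalizer (W j : Set G) := (h.bg.fr.blk j).BL.trans (h.L_norm_W j)

/-- `B` induces the transvection with axis `z j` on `W j` -/
theorem swap {j : Fin k} {x : G} (hx : x ∈ W j) (hx1 : x ≠ 1) (hxz : x ≠ z j) :
    ∃ b ∈ B, b ∈ centralizer (C j : Set G) ∧ b * x * b⁻¹ = z j * x := by
  obtain ⟨b, hb, hbc, e⟩ := h.bg.root j x hx (fun hc => ((h.hz j x).1 hc).elim hx1 hxz) (z j) (h.mem_Z j)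
  exact ⟨b, hb, hbc, mul_inv_eq_iff_eq_mul.1 e⟩

theorem eq_of_W {j : Fin k} {a b x : G} (ha : a ∈ W j) (ha1 : a ≠ 1) (hb : b ∈ W j) (hb1 : b ≠ 1) (hab : a ≠ b)
    (hx : x ∈ W j) (hx1 : x ≠ 1) : x = a ∨ x = b ∨ x = a * b :=
  NO3S.eq_of_card_four (h.card_W j) (fun _ h1 => h.W_sq j h1) ha ha1 hb hb1 hab hx hx1

/-- a subgroup over `B` which normalises `W j` and moves `z j` is transitive on `W j - 1` -/
theorem trans_of {j : Fin k} {R : Subgroup G} (hB : B ≤ R) (hN : R ≤ normalizer (W j : Set G))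
    (hm : ¬ R ≤ centralizer ({z j} : Set G)) {x : G} (hx : x ∈ W j) (hx1 : x ≠ 1) :
    ∃ r ∈ R, r * z j * r⁻¹ = x := by
  by_cases hxz : x = z j
  · exact ⟨1, one_mem _, by rw [hxz]; group⟩
  obtain ⟨r, hr, hrz⟩ : ∃ r ∈ R, r * z j * r⁻¹ ≠ z j := by
    by_contra hcon
    push Not at hcon
    exact hm fun r hr => mem_centralizer_singleton_iff.2 (mul_inv_eq_iff_eq_mul.1 (hcon r hr))
  have h1 : r * z j * r⁻¹ ∈ W j := (mem_normalizer_iff.1 (hN hr) _).1 (h.mem_W j)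
  have h2 : r * z j * r⁻¹ ≠ 1 := fun e => h.z_ne j (conj_eq_one_iff.1 e)
  by_cases hrx : r * z j * r⁻¹ = x
  · exact ⟨r, hr, hrx⟩
  obtain ⟨b, hb, -, hbe⟩ := h.swap h1 h2 hrz
  refine ⟨b * r, mul_mem (hB hb) hr, ?_⟩
  have e : b * r * z j * (b * r)⁻¹ = b * (r * z j * r⁻¹) * b⁻¹ := by group
  rw [e, hbe]
  rcases h.eq_of_W (h.mem_W j) (h.z_ne j) h1 h2 (Ne.symm hrz) hx hx1 with h3 | h3 | h3
  · exact absurd h3 hxz
  · exact absurd h3.symm hrx
  · exact h3.symm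

/-- an element of `Y_j ∩ P` centralising all `W i`, `i ≠ j`, maps `z j` to `x ∈ W j - 1` -/
theorem tr {j : Fin k} {x : G} (hx : x ∈ W j) (hx1 : x ≠ 1) :
    ∃ l ∈ YY z j, l ∈ P ∧ (∀ i, i ≠ j → l ∈ centralizer (W i : Set G)) ∧ l * z j * l⁻¹ = x := by
  obtain ⟨l, hl, hlc, y, hy, e⟩ := h.bg.tr j x hx hx1
  have hW : ∀ i, i ≠ j → l ∈ centralizer (W i : Set G) := fun i hi =>
    centralizer_le (h.bg.fr.WjC j i hi.symm) hlc
  refine ⟨l, mem_YY.2 fun i hi => (mem_centralizer_iff.1 (hW i hi) _ (h.mem_W i)).symm, hl, hW, ?_⟩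
  rcases (h.hz j y).1 hy with rfl | rfl
  · exact absurd (by rw [← e]; group) hx1
  · exact e

/-- **`V_j ≤ N_j`** -/
theorem W_le_NN (j : Fin k) : W j ≤ NN z j := by
  intro x hx
  by_cases hx1 : x = 1
  · rw [hx1]; exact one_mem _
  obtain ⟨l, hl, -, -, e⟩ := h.tr hx hx1
  rw [← e]
  exact (mem_normalizer_iff.1 (le_normalizer_NN z j hl) _).1 (mem_NN z j)

theorem cent_zc : centralizer (zc B : Set G) = centralizer (ZJ : Set G) := by rw [h.bg.fr.zcB]

/-- **the minimal parabolics of `Y_j` over `B`** -/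
theorem par {j : Fin k} {R : Subgroup G} (hR : IsMinPar B R) (hRY : R ≤ YY z j) :
    R ≤ centralizer (ZJ : Set G) ∨ (R ≤ normalizer (W j : Set G) ∧ ¬ R ≤ centralizer ({z j} : Set G) ∧
      ∀ x ∈ W j, x ≠ 1 → ∃ r ∈ R, r * z j * r⁻¹ = x) := by
  by_cases hD : R ≤ centralizer (ZJ : Set G)
  · exact Or.inl hD
  right
  obtain ⟨L', hb, h1, h2⟩ := h.par_blk hR hRY hD
  have hN : R ≤ normalizer (W j : Set G) := by
    refine h2.trans (sup_le (fun l hl => ?_) (h.B_norm_W j))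
    obtain ⟨⟨Z', q', hF⟩, -⟩ := hb
    rw [mem_normalizer_iff_cj]
    refine Subgroup.eq_of_le_of_card_ge ?_ (by rw [card_cj])
    rintro _ ⟨w, hw, rfl⟩
    exact hF.nV l hl w hw
  have hm : ¬ R ≤ centralizer ({z j} : Set G) := fun hc => hD (by
    rw [← h.stab j]; exact le_inf hRY hc)
  exact ⟨hN, hm, fun x hx hx1 => h.trans_of hR.le hN hm hx hx1⟩

/-! ### (NO) -/

/-- `C_{Y_j}(z_j N)` for a submodule `U` of `N_j`, `z j ∉ U` : the stabiliser of the coset `z j U` is in `D` -/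
theorem stab_le {j : Fin k} {U : Subgroup G} (hY : YY z j ≤ normalizer (U : Set G)) (hv : z j ∉ U) :
    ∀ g ∈ YY z j, g * z j * g⁻¹ * (z j)⁻¹ ∈ U → g ∈ centralizer (ZJ : Set G) := by
  let K' : Subgroup G :=
    { carrier := {g | g ∈ YY z j ∧ g * z j * g⁻¹ * (z j)⁻¹ ∈ U}
      one_mem' := ⟨one_mem _, by simp⟩
      mul_mem' := by
        rintro a b ⟨ha, ha'⟩ ⟨hb, hb'⟩
        refine ⟨mul_mem ha hb, ?_⟩
        have e : a * b * z j * (a * b)⁻¹ * (z j)⁻¹ =
            (a * (b * z j * b⁻¹ * (z j)⁻¹) * a⁻¹) * (a * z j * a⁻¹ * (z j)⁻¹) := by group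
        rw [e]
        exact mul_mem ((mem_normalizer_iff.1 (hY ha) _).1 hb') ha'
      inv_mem' := by
        rintro a ⟨ha, ha'⟩
        refine ⟨inv_mem ha, ?_⟩
        have e : a⁻¹ * z j * a⁻¹⁻¹ * (z j)⁻¹ = a⁻¹ * (a * z j * a⁻¹ * (z j)⁻¹)⁻¹ * a⁻¹⁻¹ := by group
        rw [e]
        exact (mem_normalizer_iff.1 (hY (inv_mem ha)) _).1 (inv_mem ha') }
  have hBK : B ≤ K' := fun t ht => ⟨h.B_le j ht, by
    rw [mem_centralizer_singleton_iff.1 (h.D_le_C j (h.B_le_D ht)), mul_inv_cancel_right, mul_inv_cancel]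
    exact one_mem _⟩
  have hKY : K' ≤ YY z j := fun k hk => hk.1
  suffices hs : K' ≤ centralizer (ZJ : Set G) from fun g hg hgY => hs ⟨hg, hgY⟩
  refine Cfsg.Agent.MinSimple.MinParabolic.le_of_forall hBK ((inf_le_inf_right _ hKY).trans (h.norm_B j)) ?_
  intro R hR hRK
  rcases h.par hR (hRK.trans hKY) with hm | ⟨-, -, ht⟩
  · exact hm
  exfalso
  have key : ∀ y ∈ W j, y ≠ 1 → y * (z j)⁻¹ ∈ U := by
    intro y hy hy1
    obtain ⟨r, hr, hry⟩ := ht y hy hy1
    have h1 := (hRK hr).2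
    rwa [hry] at h1
  obtain ⟨x, hx, hx1, hxz⟩ : ∃ x ∈ W j, x ≠ 1 ∧ x ≠ z j := by
    by_contra hcon
    push Not at hcon
    have h1 : W j ≤ Z j := fun x hx => (h.hz j x).2 (by
      by_cases hx1 : x = 1
      · exact Or.inl hx1
      · exact Or.inr (hcon x hx hx1))
    have h2 := Nat.card_le_card_of_injective _ (Subgroup.inclusion_injective h1)
    rw [h.card_W j, h.bg.fr.cardZ j] at h2
    omega
  have h1 := key x hx hx1
  have hzz : z j * z j = 1 := by rw [← pow_two]; exact h.z_sq j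
  have hxz1 : x * z j ≠ 1 := by
    intro e
    apply hxz
    have := eq_inv_of_mul_eq_one_left e
    rw [this, inv_eq_of_mul_eq_one_left hzz]
  have h2 := key (x * z j) (mul_mem hx (h.mem_W j)) hxz1
  rw [mul_inv_cancel_right] at h2
  apply hv
  have h3 := mul_mem (inv_mem h1) h2
  have e : (x * (z j)⁻¹)⁻¹ * x = z j := by group
  rwa [e] at h3

/-- `Y_j` is a K-group -/
theorem kgroup (j : Fin k) : IsKGroup (YY z j) := by
  have hG := h.bg.hyp.ctx
  obtain ⟨l, hl⟩ := h.bg.two j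
  refine hG.kproper _ fun e => ?_
  have hs := hG.simple
  have h1 : z l ∈ center G := by
    rw [mem_center_iff]
    intro g
    have : g ∈ YY z j := by rw [e]; exact mem_top g
    exact mem_YY.1 this l hl
  rcases hs.eq_bot_or_eq_top_of_normal (center G) inferInstance with h2 | h2
  · rw [h2, mem_bot] at h1
    exact h.z_ne l h1
  · apply hG.nonComm
    refine ⟨⟨fun a b => ?_⟩⟩
    have : a ∈ center G := by rw [h2]; exact mem_top a
    exact (mem_center_iff.mp this b).symm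

/-- **(NO)** : `|A : C_A(N_j)| ≤ |N_j : C_{N_j}(A)|` for `A ≤ O₂(D)` elementary abelian -/
theorem no (hML : ML.Final.MLK.{u, u}) {j : Fin k} {A : Subgroup G}
    (hA : A ≤ o2 (centralizer (ZJ : Set G))) (hA2 : ∀ a ∈ A, a ^ 2 = 1) :
    (centralizer (NN z j : Set G)).relIndex A ≤ (centralizer (A : Set G)).relIndex (NN z j) := by
  have hN1 : ∀ g : G, g ∈ normalizer ((⊥ : Subgroup G) : Set G) := fun g => by
    rw [mem_normalizer_iff]
    intro x
    rw [mem_bot, mem_bot, conj_eq_one_iff]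
  have hb : ∀ x y : G, x * y * x⁻¹ * y⁻¹ ∈ (⊥ : Subgroup G) ↔ x * y = y * x := fun x y => by
    rw [mem_bot, mul_inv_eq_one, mul_inv_eq_iff_eq_mul]
  have hmain : (A ⊓ centralizer (NN z j : Set G)).relIndex A ≤
      (NN z j ⊓ centralizer (A : Set G)).relIndex (NN z j) := by
    refine hML.grp (C := YY z j) (W := NN z j) (Y := ⊥) (T := B) (Q := o2 (centralizer (ZJ : Set G))) (A := A)
      (w := z j) (h.kgroup j) ?_ (KA := A ⊓ centralizer (NN z j : Set G))
      (CW := NN z j ⊓ centralizer (A : Set G)) ?_ ?_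
    · refine ⟨le_normalizer_NN z j, fun g _ => hN1 g, bot_le, fun g _ => hN1 g, ?_, mem_NN z j, ?_, h.B_le j,
        h.bg.bau_two, Cfsg.Agent.ZN.ChoiceSit.syl_not_dvd (h.syl j), ?_, h.O_le_Y j, o2_isPGroup _, ?_, ?_, hA, ?_⟩
      · intro x hx
        rw [mem_bot, ← pow_two]
        exact h.NN_sq j hx
      · exact fun U hU _ hYU => NN_le hU hYU
      · exact fun t ht => (hb _ _).2 (mem_centralizer_singleton_iff.1 (h.D_le_C j (h.B_le_D ht)))
      · exact fun t ht => (hb _ _).2 (mem_centralizer_singleton_iff.1 (h.D_le_C j (o2_le _ ht)))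
      · intro g hg hgz q hq
        have h1 : g ∈ centralizer (ZJ : Set G) := by
          rw [← h.stab j]
          exact ⟨hg, mem_centralizer_singleton_iff.2 ((hb _ _).1 hgz)⟩
        exact (mem_normalizer_iff.1 (le_normalizer_o2 _ h1) q).1 hq
      · intro a ha x _
        have h1 : a * a = 1 := by rw [← pow_two]; exact hA2 a ha
        have e : a * (a * x * a⁻¹) * a⁻¹ * x⁻¹ = (a * a) * x * (a * a)⁻¹ * x⁻¹ := by group
        rw [e, h1, mem_bot]
        simp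
    · intro a
      refine and_congr_right fun _ => ?_
      exact ⟨fun h1 x hx => (hb _ _).2 (mem_centralizer_iff.1 h1 x hx).symm,
        fun h1 => mem_centralizer_iff.2 fun x hx => ((hb _ _).1 (h1 x hx)).symm⟩
    · intro x
      refine and_congr_right fun _ => ?_
      exact ⟨fun h1 a ha => (hb _ _).2 (mem_centralizer_iff.1 h1 a ha),
        fun h1 => mem_centralizer_iff.2 fun a ha => (hb _ _).1 (h1 a ha)⟩
  rwa [inf_relIndex_left, inf_relIndex_left] at hmain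

/-! ### `N_G(B)`, nonlocal -/

/-- `N_G(B)` permutes the `z i` -/
theorem conj_z {g : G} (hg : g ∈ normalizer (B : Set G)) (i : Fin k) : ∃ j, g * z i * g⁻¹ = z j := by
  obtain ⟨j, hj, -⟩ := (h.bg.nrm g hg).2 i
  refine ⟨j, ?_⟩
  have h1 : g * z i * g⁻¹ ∈ Z j := by
    have : g * z i * g⁻¹ ∈ cj g (Z i) := ⟨z i, h.mem_Z i, rfl⟩
    rwa [hj] at this
  exact ((h.hz j _).1 h1).resolve_left fun e => h.z_ne i (conj_eq_one_iff.1 e)

/-- **`N_G(B)` permutes the `z i`, the `YY z i`, the `NN z i`** -/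
theorem conj {g : G} (hg : g ∈ normalizer (B : Set G)) : ∃ σ : Equiv.Perm (Fin k), ∀ i,
    g * z i * g⁻¹ = z (σ i) ∧ cj g (YY z i) = YY z (σ i) ∧ cj g (NN z i) = NN z (σ i) := by
  choose f hf using h.conj_z hg
  have hinj : Function.Injective f := by
    intro i j e
    apply h.inj
    have h1 := hf i
    rw [e, ← hf j] at h1
    exact mul_left_cancel (mul_right_cancel h1)
  let σ : Equiv.Perm (Fin k) := Equiv.ofBijective f (Finite.injective_iff_bijective.1 hinj)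
  have hσ : ∀ i, g * z i * g⁻¹ = z (σ i) := hf
  have hY : ∀ i, cj g (YY z i) = YY z (σ i) := by
    intro i
    ext x
    rw [mem_cj, mem_YY, mem_YY]
    constructor
    · intro h1 l hl
      obtain ⟨m, rfl⟩ := σ.surjective l
      have h2 := h1 m fun e => hl (by rw [e])
      rw [← hσ m]
      calc x * (g * z m * g⁻¹) = g * ((g⁻¹ * x * g) * z m) * g⁻¹ := by group
        _ = g * (z m * (g⁻¹ * x * g)) * g⁻¹ := by rw [h2]
        _ = g * z m * g⁻¹ * x := by group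
    · intro h1 l hl
      have h2 := h1 (σ l) fun e => hl (σ.injective e)
      rw [← hσ l] at h2
      calc g⁻¹ * x * g * z l = g⁻¹ * (x * (g * z l * g⁻¹)) * g := by group
        _ = g⁻¹ * (g * z l * g⁻¹ * x) * g := by rw [h2]
        _ = z l * (g⁻¹ * x * g) := by group
  refine ⟨σ, fun i => ⟨hσ i, hY i, ?_⟩⟩
  have key : ∀ {g : G} {i j : Fin k}, g * z i * g⁻¹ = z j → cj g (YY z i) = YY z j → NN z j ≤ cj g (NN z i) := by
    intro g i j h1 h2
    refine NN_le (by rw [← h1]; exact ⟨z i, mem_NN z i, rfl⟩) fun y hy => ?_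
    rw [← h2, mem_cj] at hy
    have h3 := mem_normalizer_iff_cj.1 (le_normalizer_NN z i hy)
    rw [mem_normalizer_iff_cj]
    have h4 : cj y (cj g (NN z i)) = cj g (cj (g⁻¹ * y * g) (NN z i)) := by
      rw [cj_cj, cj_cj]
      congr 1
      group
    rw [h4, h3]
  apply le_antisymm
  · have h1 : g⁻¹ * z (σ i) * g⁻¹⁻¹ = z i := by rw [← hσ i]; group
    have h2 : cj g⁻¹ (YY z (σ i)) = YY z i := by rw [← hY i, cj_inv_cj]
    have h3 := cj_mono g (key h1 h2)
    rwa [cj_cj, mul_inv_cancel, cj_one] at h3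
  · exact key (hσ i) (hY i)

/-- the `Y_j` normalise no nontrivial 2-group -/
theorem nonloc_Y (hn : NLoc (centralizer (ZJ : Set G) ⊔ ⨆ i, L i)) : NLoc (⨆ i, YY z i) := by
  refine hn.mono (sup_le ?_ (iSup_le fun i => (h.L_le i).trans (le_iSup (fun i => YY z i) i)))
  exact (h.D_le ⟨0, by have := h.three; omega⟩).trans (le_iSup (fun i => YY z i) _)

end Fr

/-- **`D` and the `L i` normalise no nontrivial 2-group** -/
theorem nonloc_of {B ZJ : Subgroup G} {k : ℕ} {L W : Fin k → Subgroup G} (hu : UniTwo B ZJ L W)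
    (hn : NLoc (KZ B ZJ)) : NLoc (centralizer (ZJ : Set G) ⊔ ⨆ i, L i) := by
  refine hn.mono (sup_le le_sup_left (iSup_le ?_))
  rintro ⟨⟨L', V'⟩, hb⟩
  obtain ⟨i, -, hle⟩ := hu L' V' hb
  refine hle.trans (sup_le (le_sup_of_le_right (le_iSup L i)) (le_sup_of_le_left (centralizer_le ?_)))
  exact_mod_cast (le_sup_right : ZJ ≤ W i ⊔ ZJ)

end Cfsg.Agent.Omega.EK3
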