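import Cfsg.Agent.Omega.NO3S.EThree.MinOff
import Cfsg.Agent.Omega.NO3S.EThree.ExactA

/-!
# EK3: the lever (helper574 #22296 (4'); replaces (4) of helper474's THEOREM K3 #22123)

`O` a 2-group, `E` abelian, generated by the conjugates of `ZJ` under `⟨Y i⟩`, normalised by the `Y i ≥ O`, `O` centralises
`ZJ`; `N i ≤ E` normal in `Y i`, `Q i = C_O(N i)` normal in `Y i`, `(NO)` for elementary abelian `F ≤ O` on `N i`.

* `Dt` : this setting;
* `Dt.exists_mov` : if some elementary abelian `A ≤ O` offends `E` then some minimal offender moves some `N i`;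
* `Dt.lever` : `∃ i, ∃ F ≤ O`, elementary abelian, moving `N i`, with `[E, F] ≤ N i`;
* `Dt.main` : with GAUSS' and LEMMA G' of #22123 as hypotheses: the trichotomy (4');
* `offd_of_AA` : `A ∈ AA O` moving `E ≤ O` offends `E`.
-/

set_option autoImplicit false
set_option linter.unusedSectionVars false

namespace Cfsg.Agent.Omega.EK3.Lever

open Subgroup Cfsg Cfsg.Agent.ZN Cfsg.Agent.ZN.ChoiceBase
open Cfsg.Agent.Omega.NO3S.EThree
open Cfsg.Agent.Omega.NO3S.EThree.ExactA (eab_mono eab_sup)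
open Cfsg.Agent.Omega.NO3S.ML (card_mul_relIndex card_sup_mul_of_comm)
open scoped commutatorElement

universe u

variable {G : Type u} [Group G]

theorem relIndex_cj (g : G) (H K : Subgroup G) : (cj g H).relIndex (cj g K) = H.relIndex K :=
  Subgroup.relIndex_map_map_of_injective _ _ (MulAut.conj g).injective

theorem offd_cj {N A : Subgroup G} (h : Offd N A) (g : G) : Offd (cj g N) (cj g A) where
  norm := by
    rw [← cj_normalizer]
    exact cj_mono g h.norm
  mov := fun hc => h.mov (by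
    rw [← cj_centralizer] at hc
    have h1 := cj_mono g⁻¹ hc
    rwa [cj_inv_cj, cj_inv_cj] at h1)
  le := by
    rw [← cj_centralizer, ← cj_centralizer, relIndex_cj, relIndex_cj]
    exact h.le

theorem minOff_cj {N A : Subgroup G} (h : MinOff N A) (g : G) : MinOff (cj g N) (cj g A) where
  toOffd := offd_cj h.toOffd g
  min := fun B hB hO => by
    have h1 := offd_cj hO g⁻¹
    rw [cj_inv_cj] at h1
    have h2 := h.min (cj g⁻¹ B) (by
      have := cj_mono g⁻¹ hB
      rwa [cj_inv_cj] at this) h1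
    rw [← cj_centralizer, relIndex_cj]
    have h3 := relIndex_cj g (centralizer (N : Set G)) (cj g⁻¹ B)
    rw [cj_cj_inv] at h3
    rw [h3]
    exact h2

/-- The data of (4'). -/
structure Dt {ι : Type*} (O E ZJ : Subgroup G) (Y N : ι → Subgroup G) : Prop where
  ab : E ≤ centralizer (E : Set G)
  OY : ∀ i, O ≤ Y i
  YE : ∀ i, Y i ≤ normalizer (E : Set G)
  OZ : O ≤ centralizer (ZJ : Set G)
  gen : E ≤ ⨆ y : (⨆ i, Y i : Subgroup G), cj (y : G) ZJ
  NE : ∀ i, N i ≤ E
  YN : ∀ i, Y i ≤ normalizer (N i : Set G)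
  YQ : ∀ i, Y i ≤ normalizer ((O ⊓ centralizer (N i : Set G) : Subgroup G) : Set G)
  no : ∀ i, ∀ F : Subgroup G, IsElementaryAbelian 2 F → F ≤ O →
    (centralizer (N i : Set G)).relIndex F ≤ (centralizer (F : Set G)).relIndex (N i)

variable {ι : Type*} {O E ZJ : Subgroup G} {Y N : ι → Subgroup G}

theorem Dt.exists_mov (h : Dt O E ZJ Y N) [Finite G] {A : Subgroup G} (hA : A ≤ O) (hAe : IsElementaryAbelian 2 A)
    (hoff : Offd E A) : ∃ F : Subgroup G, F ≤ O ∧ IsElementaryAbelian 2 F ∧ MinOff E F ∧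
      ∃ i, ¬ F ≤ centralizer (N i : Set G) := by
  by_contra hcon
  push Not at hcon
  obtain ⟨F, hFA, hF⟩ := hoff.exists_min
  -- the conjugates of a minimal offender are minimal offenders inside `O`
  have key : ∀ y ∈ (⨆ i, Y i : Subgroup G), ∀ F : Subgroup G, F ≤ O → IsElementaryAbelian 2 F → MinOff E F →
      cj y F ≤ O ∧ IsElementaryAbelian 2 (cj y F : Subgroup G) ∧ MinOff E (cj y F) := by
    intro y hy
    rw [← Subgroup.mem_toSubmonoid, Subgroup.iSup_eq_closure] at hy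
    rw [Subgroup.mem_toSubmonoid] at hy
    induction hy using Subgroup.closure_induction with
    | mem y hy =>
      intro F hFO hFe hF
      obtain ⟨i, hi⟩ := Set.mem_iUnion.1 hy
      have h1 : F ≤ O ⊓ centralizer (N i : Set G) := le_inf hFO (hcon F hFO hFe hF i)
      have h2 : cj y F ≤ O ⊓ centralizer (N i : Set G) := by
        have := cj_mono y h1
        rwa [cj_eq_of_mem_normalizer (h.YQ i hi)] at this
      refine ⟨h2.trans inf_le_left, isElementaryAbelian_cj y hFe, ?_⟩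
      have h3 := minOff_cj hF y
      rwa [cj_eq_of_mem_normalizer (h.YE i hi)] at h3
    | one =>
      intro F hFO hFe hF
      rw [cj_one]
      exact ⟨hFO, hFe, hF⟩
    | mul x y _ _ hx hy =>
      intro F hFO hFe hF
      obtain ⟨h1, h2, h3⟩ := hy F hFO hFe hF
      rw [← cj_cj]
      exact hx _ h1 h2 h3
    | inv y hy0 hy =>
      intro F hFO hFe hF
      -- iterate: `y` has finite order
      have hpow : ∀ n : ℕ, ∀ F : Subgroup G, F ≤ O → IsElementaryAbelian 2 F → MinOff E F →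
          cj (y ^ n) F ≤ O ∧ IsElementaryAbelian 2 (cj (y ^ n) F : Subgroup G) ∧ MinOff E (cj (y ^ n) F) := by
        intro n
        induction n with
        | zero =>
          intro F hFO hFe hF
          rw [pow_zero, cj_one]
          exact ⟨hFO, hFe, hF⟩
        | succ n ih =>
          intro F hFO hFe hF
          obtain ⟨h1, h2, h3⟩ := hy F hFO hFe hF
          rw [pow_succ, ← cj_cj]
          exact ih _ h1 h2 h3
      have e : y⁻¹ = y ^ (orderOf y - 1) := by
        rw [inv_eq_iff_mul_eq_one, ← pow_succ', Nat.sub_add_cancel (orderOf_pos y), pow_orderOf_eq_one]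
      rw [e]
      exact hpow _ F hFO hFe hF
  apply hF.mov
  have hFO : F ≤ O := hFA.trans hA
  have hFe := eab_mono hAe hFA
  have h1 : E ≤ centralizer (F : Set G) := by
    refine h.gen.trans (iSup_le fun y => ?_)
    have h2 := (key _ (inv_mem y.2) F hFO hFe hF).1.trans h.OZ
    have h3 := cj_mono (y : G) h2
    rw [cj_cj_inv, cj_centralizer] at h3
    exact Subgroup.le_centralizer_iff.1 h3
  exact Subgroup.le_centralizer_iff.1 h1

theorem Dt.lever (h : Dt O E ZJ Y N) [Finite G] {A : Subgroup G} (hA : A ≤ O) (hAe : IsElementaryAbelian 2 A)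
    (hoff : Offd E A) : ∃ i, ∃ F : Subgroup G, F ≤ O ∧ IsElementaryAbelian 2 F ∧ ¬ F ≤ centralizer (N i : Set G) ∧
      ∀ e ∈ E, ∀ f ∈ F, ⁅e, f⁆ ∈ N i := by
  obtain ⟨F, hFO, hFe, hF, i, hi⟩ := h.exists_mov hA hAe hoff
  refine ⟨i, F, hFO, hFe, hi, fun e he f hf => ?_⟩
  have h1 : ⁅e, f⁆ ∈ ⁅E, F⁆ := commutator_mem_commutator he hf
  rw [hF.commutator_eq (h.NE i) hi (h.no i F hFe hFO) h.ab] at h1
  have h2 : ⁅N i, F⁆ ≤ N i := by
    rw [commutator_le]
    intro n hn x hx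
    have h3 := (mem_normalizer_iff.1 (h.YN i (h.OY i (hFO hx))) n⁻¹).1 (inv_mem hn)
    rw [commutatorElement_def]
    have e : n * x * n⁻¹ * x⁻¹ = n * (x * n⁻¹ * x⁻¹) := by group
    rw [e]
    exact mul_mem hn h3
  exact h2 h1

/-- `A ∈ AA O` moving `E ≤ O` offends `E`. -/
theorem offd_of_AA [Finite G] {O E A : Subgroup G} (hE : IsElementaryAbelian 2 E) (hEO : E ≤ O) (hA : A ∈ AA O)
    (hAE : A ≤ normalizer (E : Set G)) (hmv : ¬ A ≤ centralizer (E : Set G)) : Offd E A := by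
  refine ⟨hAE, hmv, ?_⟩
  by_contra hcon
  push Not at hcon
  exact absurd (ExactA.swp hE hEO hA hcon.le).1 hcon.ne

/-- Second half of (c): if `L i` normalises `N j` then `L j` normalises `N i`. -/
theorem both {D Yi Yj Li Lj Ni Nj Vj Jj : Subgroup G} (hYi : Yi ≤ D ⊔ Li) (hDj : D ≤ Yj)
    (hNj : Yj ≤ normalizer (Nj : Set G)) (hJ : Jj ≤ centralizer (Nj : Set G)) (hJY : Jj ≤ Yi ⊔ Yj)
    (hcap : (Yi ⊔ Yj) ⊓ centralizer (Nj : Set G) ≤ Yi) (hmv : ¬ Jj ≤ centralizer (Ni : Set G)) (hVj : Vj ≤ Nj)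
    (hG : ∀ K : Subgroup G, K ≤ Yi → Yi ≤ normalizer (K : Set G) → K ≤ centralizer (Vj : Set G) →
      ¬ K ≤ centralizer (Ni : Set G) → Lj ≤ normalizer (Ni : Set G))
    (h : Li ≤ normalizer (Nj : Set G)) : Lj ≤ normalizer (Ni : Set G) := by
  have hN : Yi ⊔ Yj ≤ normalizer (Nj : Set G) :=
    sup_le (hYi.trans (sup_le (hDj.trans hNj) h)) hNj
  let K : Subgroup G := (Yi ⊔ Yj) ⊓ centralizer (Nj : Set G)
  have hK1 : Yi ≤ normalizer (K : Set G) := by
    intro y hy
    rw [mem_normalizer_iff_cj, cj_inf, cj_centralizer,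
      cj_eq_of_mem_normalizer (hN (le_sup_left (a := Yi) (b := Yj) hy)),
      cj_eq_of_mem_normalizer (Subgroup.le_normalizer (le_sup_left (a := Yi) (b := Yj) hy))]
  exact hG K hcap hK1 (inf_le_right.trans (centralizer_le hVj)) fun hc => hmv ((le_inf hJY hJ).trans hc)

/-- **(4').** -/
theorem tri [Finite G] {κ : Type*} {O E ZJ : Subgroup G} {Y N V L : κ → Subgroup G} {i j : κ}
    (h : Dt O E ZJ (fun b : Bool => Y (cond b i j)) (fun b : Bool => N (cond b i j)))
    {A : Subgroup G} (hA : A ≤ O) (hAe : IsElementaryAbelian 2 A) (hoff : Offd E A)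
    (gij : (∃ F : Subgroup G, F ≤ O ∧ IsElementaryAbelian 2 F ∧ ¬ F ≤ centralizer (N j : Set G) ∧
      ∀ e ∈ E, ∀ f ∈ F, ⁅e, f⁆ ∈ N j) → V i ≤ N j ⊔ ZJ ∨ L i ≤ normalizer (N j : Set G))
    (gji : (∃ F : Subgroup G, F ≤ O ∧ IsElementaryAbelian 2 F ∧ ¬ F ≤ centralizer (N i : Set G) ∧
      ∀ e ∈ E, ∀ f ∈ F, ⁅e, f⁆ ∈ N i) → V j ≤ N i ⊔ ZJ ∨ L j ≤ normalizer (N i : Set G))
    (bij : L i ≤ normalizer (N j : Set G) → L j ≤ normalizer (N i : Set G))
    (bji : L j ≤ normalizer (N i : Set G) → L i ≤ normalizer (N j : Set G)) :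
    V i ≤ N j ⊔ ZJ ∨ V j ≤ N i ⊔ ZJ ∨ (L i ≤ normalizer (N j : Set G) ∧ L j ≤ normalizer (N i : Set G)) := by
  obtain ⟨b, F, h1, h2, h3, h4⟩ := h.lever hA hAe hoff
  cases b
  · rcases gij ⟨F, h1, h2, h3, h4⟩ with h5 | h5
    · exact Or.inl h5
    · exact Or.inr (Or.inr ⟨h5, bij h5⟩)
  · rcases gji ⟨F, h1, h2, h3, h4⟩ with h5 | h5
    · exact Or.inr (Or.inl h5)
    · exact Or.inr (Or.inr ⟨bji h5, h5⟩)

end Cfsg.Agent.Omega.EK3.Lever
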