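import Cfsg.Agent.Omega.NO3S.EMany.FourDQ
import Cfsg.Agent.Omega.Node.MultiOf

/-!
# UNI+ in the form `UniTwo` for `q > 2` under (TI) (row (8), bb #22703 (BLK), #23081 (f1))

* `UniP B ZJ L W Z C q` : the output of UNI+ for `q > 2`;
* `uniTwo_of` : `Bg`, `2 < q`, (TI), `UniP` give `UniTwo B ZJ L W`: `V' = W i` and `L' ≤ L i C_G(W i Z_J)`;
* `uniP_neg` : `UniP` at stage `-1`;  `uniTwo_neg`.
-/

set_option autoImplicit false
set_option linter.unusedVariables false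
set_option linter.unusedSectionVars false

namespace Cfsg.Agent.Omega.EK3.Q

open Subgroup Cfsg Cfsg.Agent.ZN.ChoiceBase
open Cfsg.Agent.ZN (jj zj bau zc zl o2)
open Cfsg.Agent.Omega
open Cfsg.Agent.Omega.OM
open Cfsg.Agent.Omega.OM.Uni (FB Fr)
open Cfsg.Agent.Omega.OM.UniPlus (NB)
open Cfsg.Agent.Omega.NO3S.EThree.Frame
open Cfsg.Agent.Omega.NO3S.EMany
open Cfsg.Agent.Omega.Node.MultiOf (UniTwo FBl)

universe u

variable {G : Type u} [Group G]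

/-- The output of UNI+ for `q > 2`. -/
def UniP (B ZJ : Subgroup G) {ι : Type} (W Z C : ι → Subgroup G) (q : ℕ) : Prop :=
  ∀ (L' V' Z' : Subgroup G) (q' : ℕ), FB B L' V' Z' q' →
    ∃ i, Z' = Z i ∧ NB B L' V' (Z i) q ∧ V' ≤ W i ⊔ ZJ ∧ ∀ z ∈ ZJ, z ∈ C i → ∀ l ∈ L', l * z = z * l

variable [Finite G] {S : Sylow 2 G} {P : Subgroup G} {B ZJ : Subgroup G}

theorem TI_eq {Z : Subgroup G} (ti : TI Z) {x y v : G} (hx : v ∈ cj x Z) (hy : v ∈ cj y Z) (hv : v ≠ 1) :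
    cj x Z = cj y Z := by
  have h1 : cj (y⁻¹ * x) Z = Z := by
    refine ti _ fun hbot => hv ?_
    have h2 : y⁻¹ * v * y ∈ cj (y⁻¹ * x) Z ⊓ Z := by
      refine mem_inf.2 ⟨?_, mem_cj.1 hy⟩
      rw [← cj_cj, mem_cj, inv_inv]
      have e : y * (y⁻¹ * v * y) * y⁻¹ = v := by group
      rw [e]
      exact hx
    rw [hbot, mem_bot] at h2
    calc v = y * (y⁻¹ * v * y) * y⁻¹ := by group
      _ = 1 := by rw [h2]; group
  have h2 := congrArg (cj y) h1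
  rwa [cj_cj, mul_inv_cancel_left] at h2

/-- **(BLK)**: UNI+ in the form `UniTwo` for `q > 2` under (TI). -/
theorem uniTwo_of {k : ℕ} {L W Z C : Fin k → Subgroup G} {q : ℕ} (h : Bg S P B ZJ L W Z C q) (hq : 2 < q)
    (ti : ∀ i, TI (Z i)) (hu : UniP B ZJ W Z C q) : UniTwo B ZJ L W := by
  rintro L' V' ⟨⟨Z', q', hF⟩, -⟩
  obtain ⟨i, rfl, hN, hV, hcen⟩ := hu L' V' Z' q' hF
  have hVW := FourDQ.V_eq h hq hN hV hcen
  subst hVW
  refine ⟨i, rfl, ?_⟩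
  have hstar := UniPlus.star_main h.wc h.bau_two (FourQ.nb h i) hN rfl rfl rfl (fun y hy => ?_)
  · rw [h.fr.zcB] at hstar
    exact hstar.2.2
  · obtain ⟨z, hz, hz1⟩ : ∃ z ∈ Z i, z ≠ 1 := by
      by_contra hcon
      push Not at hcon
      exact h.Z_ne i ((eq_bot_iff_forall _).2 hcon)
    have hv : y * z * y⁻¹ ∈ W i := hN.nV y hy z (hN.ZV hz)
    obtain ⟨l, hl, e⟩ := AltQ.trL (FourQ.nb h i) (FourQ.rt h i) hv (fun e => hz1 (conj_eq_one_iff.1 e)) hz hz1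
    have h1 : cj y (Z i) = cj l (Z i) := TI_eq (ti i) (v := y * z * y⁻¹) ⟨z, hz, rfl⟩
      ⟨z, hz, e⟩ fun e => hz1 (conj_eq_one_iff.1 e)
    refine ⟨l, hl, fun v hv => ⟨v, h1 ▸ hv, 1, fun l _ => by simp, by simp⟩⟩

/-- `UniP` at stage `-1`. -/
theorem uniP_neg {ι : Type} [Finite ι] {L W Z C A : ι → Subgroup G} {q m : ℕ} (h : Bs S P L W Z C A q m)
    (hq : 2 < q) : UniP (bau (S : Subgroup G)) (zj (S : Subgroup G)) W Z C q := by
  intro L' V' Z' q' h'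
  obtain ⟨rfl, n, rfl, hN, h1⟩ := UniPlus.uniPlus' h.hyp.ctx.char2 h.fr h.bau_two (UniPlus.wc_bau S)
    (fun g hg w hw v hv => by
      rw [(h.norm hg).1] at hw
      exact h.fr.Vc hw hv) h.two h'
  rcases h1 with ⟨h0, h2, -⟩ | ⟨hq2, -⟩
  · exact ⟨n, rfl, hN, h0, fun z hz hzC => (h2 z hz).1 hzC⟩
  · omega

theorem uniTwo_neg {k : ℕ} {L W Z C A : Fin k → Subgroup G} {q m : ℕ} (h : Bs S P L W Z C A q m)
    (hs : 2 < q → ∀ i, Scal (S : Subgroup G) P W Z C i) (hq : 2 < q) (ti : ∀ i, TI (Z i)) :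
    UniTwo (bau (S : Subgroup G)) (zj (S : Subgroup G)) L W :=
  uniTwo_of (Bg.of_bs h hs) hq ti (uniP_neg h hq)

end Cfsg.Agent.Omega.EK3.Q
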