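import Cfsg.Agent.ZN.ChoiceBase

/-!
# Generated conjugates: `IsCl Z Y N` says `N = ⟨Z^Y⟩` (bb #22123, THEOREM K3)
-/

set_option autoImplicit false

namespace Cfsg.Agent.Omega.EK3.Q

open Subgroup Cfsg Cfsg.Agent.ZN.ChoiceBase
open Cfsg.Agent.ZN (jj zj bau zc zl o2)

variable {G : Type*} [Group G]

/-- `N = ⟨Z^Y⟩` -/
structure IsCl (Z Y N : Subgroup G) : Prop where
  le : Z ≤ N
  nm : Y ≤ normalizer (N : Set G)
  min : ∀ M : Subgroup G, Z ≤ M → Y ≤ normalizer (M : Set G) → N ≤ M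

/-- `⟨Z^Y⟩` -/
def cls (Z Y : Subgroup G) : Subgroup G := ⨆ y : Y, cj (y : G) Z

theorem cj_le_cls {Z Y : Subgroup G} {y : G} (hy : y ∈ Y) : cj y Z ≤ cls Z Y :=
  le_iSup (fun y : Y => cj (y : G) Z) ⟨y, hy⟩

theorem le_cls (Z Y : Subgroup G) : Z ≤ cls Z Y := by
  have h := cj_le_cls (Z := Z) (one_mem Y)
  rwa [cj_one] at h

theorem cls_le {Z Y M : Subgroup G} (h : ∀ y ∈ Y, cj y Z ≤ M) : cls Z Y ≤ M := iSup_le fun y => h y y.2

theorem mem_normalizer_of_cj_le_iff {H : Subgroup G} {g : G} (h : ∀ x ∈ H, g * x * g⁻¹ ∈ H)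
    (h' : ∀ x ∈ H, g⁻¹ * x * g ∈ H) : g ∈ normalizer (H : Set G) := by
  rw [mem_normalizer_iff]
  refine fun x => ⟨h x, fun hx => ?_⟩
  have := h' _ hx
  have e : g⁻¹ * (g * x * g⁻¹) * g = x := by group
  rwa [e] at this

theorem cls_conj_mem {Z Y R : Subgroup G} (hY : R ≤ normalizer (Y : Set G)) (hZ : R ≤ normalizer (Z : Set G))
    {r : G} (hr : r ∈ R) : ∀ x ∈ cls Z Y, r * x * r⁻¹ ∈ cls Z Y := by
  intro x hx
  have h1 : cls Z Y ≤ cj r⁻¹ (cls Z Y) := by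
    refine cls_le fun y hy => ?_
    rw [← cj_le_iff, cj_cj]
    have h2 : r * y = (r * y * r⁻¹) * r := by group
    rw [h2, ← cj_cj, cj_eq_of_mem_normalizer (hZ hr)]
    exact cj_le_cls ((mem_normalizer_iff.1 (hY hr) y).1 hy)
  have h2 := h1 hx
  rw [mem_cj, inv_inv] at h2
  exact h2

theorem cls_norm {Z Y R : Subgroup G} (hY : R ≤ normalizer (Y : Set G)) (hZ : R ≤ normalizer (Z : Set G)) :
    R ≤ normalizer (cls Z Y : Set G) := by
  intro r hr
  refine mem_normalizer_of_cj_le_iff (cls_conj_mem hY hZ hr) fun x hx => ?_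
  have := cls_conj_mem hY hZ (inv_mem hr) x hx
  rwa [inv_inv] at this

theorem cls_self_norm (Z Y : Subgroup G) : Y ≤ normalizer (cls Z Y : Set G) := by
  have key : ∀ r ∈ Y, ∀ x ∈ cls Z Y, r * x * r⁻¹ ∈ cls Z Y := by
    intro r hr x hx
    have h1 : cls Z Y ≤ cj r⁻¹ (cls Z Y) := by
      refine cls_le fun y hy => ?_
      rw [← cj_le_iff, cj_cj]
      exact cj_le_cls (mul_mem hr hy)
    have h2 := h1 hx
    rw [mem_cj, inv_inv] at h2
    exact h2
  intro r hr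
  refine mem_normalizer_of_cj_le_iff (key r hr) fun x hx => ?_
  have := key _ (inv_mem hr) x hx
  rwa [inv_inv] at this

theorem cls_min {Z Y M : Subgroup G} (hZ : Z ≤ M) (hY : Y ≤ normalizer (M : Set G)) : cls Z Y ≤ M := by
  refine cls_le fun y hy => ?_
  have h := cj_mono y hZ
  rwa [cj_eq_of_mem_normalizer (hY hy)] at h

theorem isCl_cls (Z Y : Subgroup G) : IsCl Z Y (cls Z Y) := ⟨le_cls Z Y, cls_self_norm Z Y, fun _ => cls_min⟩

theorem IsCl.eq_cls {Z Y N : Subgroup G} (h : IsCl Z Y N) : N = cls Z Y :=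
  le_antisymm (h.min _ (le_cls Z Y) (cls_self_norm Z Y)) (cls_min h.le h.nm)

theorem IsCl.unique {Z Y N N' : Subgroup G} (h : IsCl Z Y N) (h' : IsCl Z Y N') : N = N' := by
  rw [h.eq_cls, h'.eq_cls]

/-- if every element of `Y` is `k d`, `k ∈ K`, `d` normalising `Z`, then `⟨Z^Y⟩ = ⟨Z^K⟩` -/
theorem cls_eq_of_factor {Z Y K : Subgroup G} (hKY : K ≤ Y)
    (h : ∀ y ∈ Y, ∃ k ∈ K, ∃ d ∈ normalizer (Z : Set G), y = k * d) : cls Z Y = cls Z K := by
  refine le_antisymm (cls_le fun y hy => ?_) (cls_le fun k hk => cj_le_cls (hKY hk))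
  obtain ⟨k, hk, d, hd, rfl⟩ := h y hy
  rw [← cj_cj, cj_eq_of_mem_normalizer hd]
  exact cj_le_cls hk

theorem centralizer_norm (H : Subgroup G) : normalizer (H : Set G) ≤ normalizer (centralizer (H : Set G) : Set G) := by
  intro g hg
  rw [mem_normalizer_iff_cj, cj_centralizer, cj_eq_of_mem_normalizer hg]

theorem le_centralizer_comm {H K : Subgroup G} (h : H ≤ centralizer (K : Set G)) : K ≤ centralizer (H : Set G) :=
  le_centralizer_iff.1 h

end Cfsg.Agent.Omega.EK3.Q
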