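import Mathlib

/-!
# THEOREM K3 (helper474, #22123), step (5): classes

`YY z j = C_G(z_l : l ≠ j)`. If `J_i` is normal in `Y_i`, centralises `N_i = ⟨z_i^(Y_i)⟩`, moves `N_j` whenever
`J_i ≠ J_j`, and (`J_i ≠ J_j`) `L_i` normalises `N_j`, then the class of `i₀` gives a subgroup `U ∋ z_{i₀}` normalised by
all `Y_j`, contained in every subgroup which contains all `z_i` and is normalised by `C_G(z_l : J_l ≠ J_{i₀})`.
-/

set_option autoImplicit false
set_option linter.unusedSectionVars false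

namespace Cfsg.Agent.Omega.EK3.Cla

open Subgroup

universe u v

variable {G : Type u} [Group G] {ι : Type v}

theorem norm_of {C U : Subgroup G} (h : ∀ c ∈ C, ∀ a ∈ U, c * a * c⁻¹ ∈ U) : C ≤ normalizer (U : Set G) := by
  intro c hc
  rw [mem_normalizer_iff]
  intro a
  refine ⟨fun ha => h c hc a ha, fun ha => ?_⟩
  have := h c⁻¹ (inv_mem hc) _ ha
  have e : c⁻¹ * (c * a * c⁻¹) * c⁻¹⁻¹ = a := by group
  rwa [e] at this

theorem conj_mem {C U : Subgroup G} (h : C ≤ normalizer (U : Set G)) {c a : G} (hc : c ∈ C) (ha : a ∈ U) :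
    c * a * c⁻¹ ∈ U := (mem_normalizer_iff.1 (h hc) a).1 ha

theorem norm_closure {C : Subgroup G} {s : Set G} (h : ∀ c ∈ C, ∀ a ∈ s, c * a * c⁻¹ ∈ closure s) :
    C ≤ normalizer (closure s : Set G) := by
  refine norm_of fun c hc a ha => ?_
  induction ha using closure_induction with
  | mem x hx => exact h c hc x hx
  | one => simp
  | mul x y _ _ hx hy =>
    have e : c * (x * y) * c⁻¹ = (c * x * c⁻¹) * (c * y * c⁻¹) := by group
    rw [e]; exact mul_mem hx hy
  | inv x _ hx =>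
    have e : c * x⁻¹ * c⁻¹ = (c * x * c⁻¹)⁻¹ := by group
    rw [e]; exact inv_mem hx

/-- `⟨J^H⟩` -/
def cl (H J : Subgroup G) : Subgroup G := closure {x | ∃ g ∈ H, ∃ y ∈ J, x = g * y * g⁻¹}

theorem le_cl (H J : Subgroup G) : J ≤ cl H J := fun y hy => subset_closure ⟨1, one_mem _, y, hy, by simp⟩

theorem conj_mem_cl {H J : Subgroup G} {g y : G} (hg : g ∈ H) (hy : y ∈ J) : g * y * g⁻¹ ∈ cl H J :=
  subset_closure ⟨g, hg, y, hy, rfl⟩

theorem norm_cl (H J : Subgroup G) : H ≤ normalizer (cl H J : Set G) := by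
  refine norm_closure ?_
  rintro c hc _ ⟨g, hg, y, hy, rfl⟩
  have e : c * (g * y * g⁻¹) * c⁻¹ = (c * g) * y * (c * g)⁻¹ := by group
  rw [e]
  exact conj_mem_cl (mul_mem hc hg) hy

theorem cl_le {H J U : Subgroup G} (hJ : J ≤ U) (hH : H ≤ normalizer (U : Set G)) : cl H J ≤ U := by
  refine (closure_le _).2 ?_
  rintro _ ⟨g, hg, y, hy, rfl⟩
  exact conj_mem hH hg (hJ hy)

theorem cl_mono {H H' J : Subgroup G} (h : H ≤ H') : cl H J ≤ cl H' J :=
  cl_le (le_cl _ _) (h.trans (norm_cl _ _))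

theorem norm_centralizer {C U : Subgroup G} (h : C ≤ normalizer (U : Set G)) :
    C ≤ normalizer (centralizer (U : Set G) : Set G) := by
  refine norm_of fun c hc a ha => ?_
  rw [mem_centralizer_iff] at ha ⊢
  intro u hu
  have h1 : c⁻¹ * u * c ∈ U := by
    have := conj_mem h (inv_mem hc) hu
    rwa [inv_inv] at this
  have h2 := ha _ h1
  calc u * (c * a * c⁻¹) = c * ((c⁻¹ * u * c) * a) * c⁻¹ := by group
    _ = c * (a * (c⁻¹ * u * c)) * c⁻¹ := by rw [h2]
    _ = c * a * c⁻¹ * u := by group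

/-- `Y_j = C_G(z_l : l ≠ j)` -/
def YY (z : ι → G) (j : ι) : Subgroup G := centralizer {x | ∃ l, l ≠ j ∧ x = z l}

theorem mem_YY {z : ι → G} {j : ι} {g : G} : g ∈ YY z j ↔ ∀ l, l ≠ j → z l * g = g * z l := by
  unfold YY
  rw [mem_centralizer_iff]
  constructor
  · exact fun h l hl => h _ ⟨l, hl, rfl⟩
  · rintro h _ ⟨l, hl, rfl⟩
    exact h l hl

/-- the situation of (5) -/
structure Cls (z : ι → G) (D : Subgroup G) (L N J : ι → Subgroup G) : Prop where
  DY : ∀ j, D ≤ YY z j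
  gen : ∀ j, YY z j ≤ D ⊔ L j
  zN : ∀ j, z j ∈ N j
  nN : ∀ j, YY z j ≤ normalizer (N j : Set G)
  minN : ∀ j (U : Subgroup G), z j ∈ U → YY z j ≤ normalizer (U : Set G) → N j ≤ U
  nJ : ∀ i, YY z i ≤ normalizer (J i : Set G)
  JY : ∀ i, J i ≤ YY z i
  JN : ∀ i, J i ≤ centralizer (N i : Set G)
  mv : ∀ i j, J i ≠ J j → ¬ J i ≤ centralizer (N j : Set G)
  kd : ∀ j (K : Subgroup G), K ≤ YY z j → YY z j ≤ normalizer (K : Set G) → ¬ K ≤ centralizer {z j} → YY z j ≤ K ⊔ D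

namespace Cls

variable {z : ι → G} {D : Subgroup G} {L N J : ι → Subgroup G} (h : Cls z D L N J)
include h

theorem norm_N (hyp : ∀ i j, J i ≠ J j → L i ≤ normalizer (N j : Set G)) {i j : ι} (hij : J i ≠ J j) :
    YY z i ⊔ YY z j ≤ normalizer (N j : Set G) :=
  sup_le ((h.gen i).trans (sup_le ((h.DY j).trans (h.nN j)) (hyp i j hij))) (h.nN j)

theorem sup_le_cent {i j : ι} : YY z i ⊔ YY z j ≤ centralizer {x | ∃ l, l ≠ i ∧ l ≠ j ∧ x = z l} := by
  refine sup_le ?_ ?_ <;> refine centralizer_le ?_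
  · rintro _ ⟨l, h1, h2, rfl⟩; exact ⟨l, h1, rfl⟩
  · rintro _ ⟨l, h1, h2, rfl⟩; exact ⟨l, h2, rfl⟩

/-- `K = ⟨J_i^(Y_j)⟩` -/
theorem key (hyp : ∀ i j, J i ≠ J j → L i ≤ normalizer (N j : Set G)) {i j : ι} (hij : J i ≠ J j) :
    YY z i ≤ normalizer (cl (YY z j) (J i) : Set G) ∧ cl (YY z j) (J i) ≤ centralizer {z i} ∧
      YY z j ≤ cl (YY z j) (J i) ⊔ D := by
  set Y := YY z i ⊔ YY z j with hY
  have hiY : YY z i ≤ Y := le_sup_left
  have hjY : YY z j ≤ Y := le_sup_right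
  have hNi : Y ≤ normalizer (N i : Set G) := by
    have := h.norm_N hyp (i := j) (j := i) (Ne.symm hij)
    rwa [sup_comm] at this
  set K := cl Y (J i) with hK
  have hKN : K ≤ centralizer (N i : Set G) := cl_le (h.JN i) (norm_centralizer hNi)
  have hKz : K ≤ centralizer {z i} := hKN.trans (centralizer_le (Set.singleton_subset_iff.2 (h.zN i)))
  have hKY : K ≤ Y := cl_le ((h.JY i).trans hiY) (by
    exact Subgroup.le_normalizer)
  have hKj : K ≤ YY z j := by
    intro k hk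
    rw [mem_YY]
    intro l hl
    by_cases hli : l = i
    · rw [hli]
      exact mem_centralizer_iff.1 (hKz hk) _ rfl
    · exact mem_centralizer_iff.1 (h.sup_le_cent (hKY hk)) _ ⟨l, hli, hl, rfl⟩
  have hYK : Y ≤ normalizer (K : Set G) := norm_cl _ _
  have hmv : ¬ K ≤ centralizer {z j} := by
    intro hc
    apply h.mv i j hij
    refine (le_cl Y (J i)).trans ?_
    rw [← hK, le_centralizer_iff]
    refine h.minN j _ ?_ (norm_centralizer (hjY.trans hYK))
    rw [mem_centralizer_iff]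
    intro k hk
    exact (mem_centralizer_iff.1 (hc hk) _ rfl).symm
  have hkd := h.kd j K hKj (hjY.trans hYK) hmv
  -- `Y = Y_i K`
  have hYi : Y ≤ YY z i ⊔ K :=
    sup_le le_sup_left (hkd.trans (sup_le le_sup_right ((h.DY i).trans le_sup_left)))
  -- `K = ⟨J^K⟩`
  have hKK : K ≤ cl K (J i) := by
    refine cl_le (le_cl _ _) ?_
    refine hYi.trans (sup_le (norm_of fun c hc a ha => ?_) (norm_cl _ _))
    induction ha using closure_induction with
    | mem x hx =>
      obtain ⟨g, hg, y, hy, rfl⟩ := hx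
      have e : c * (g * y * g⁻¹) * c⁻¹ = (c * g * c⁻¹) * (c * y * c⁻¹) * (c * g * c⁻¹)⁻¹ := by group
      rw [e]
      exact conj_mem_cl (conj_mem (hiY.trans hYK) hc hg) (conj_mem (h.nJ i) hc hy)
    | one => simp
    | mul x y _ _ hx hy =>
      have e : c * (x * y) * c⁻¹ = (c * x * c⁻¹) * (c * y * c⁻¹) := by group
      rw [e]; exact mul_mem hx hy
    | inv x _ hx =>
      have e : c * x⁻¹ * c⁻¹ = (c * x * c⁻¹)⁻¹ := by group
      rw [e]; exact inv_mem hx
  have hKe : K = cl (YY z j) (J i) := le_antisymm (hKK.trans (cl_mono hKj)) (cl_mono hjY)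
  rw [← hKe]
  exact ⟨hiY.trans hYK, hKz, hkd⟩

/-- **(5)** -/
theorem exists_U (hyp : ∀ i j, J i ≠ J j → L i ≤ normalizer (N j : Set G)) (i₀ : ι) :
    ∃ U : Subgroup G, z i₀ ∈ U ∧ (∀ j, YY z j ≤ normalizer (U : Set G)) ∧
      ∀ E : Subgroup G, (∀ i, z i ∈ E) → centralizer {x | ∃ l, J l ≠ J i₀ ∧ x = z l} ≤ normalizer (E : Set G) →
        U ≤ E := by
  set Y : Subgroup G := ⨆ i : {i // J i = J i₀}, YY z i with hY
  have hYi : ∀ i, J i = J i₀ → YY z i ≤ Y := fun i hi => le_iSup (fun i : {i // J i = J i₀} => YY z i) ⟨i, hi⟩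
  refine ⟨closure {x | ∃ i, J i = J i₀ ∧ ∃ g ∈ Y, x = g * z i * g⁻¹}, subset_closure ⟨i₀, rfl, 1, one_mem _, by simp⟩,
    fun j => ?_, fun E hE hn => ?_⟩
  · have hYU : Y ≤ normalizer (closure {x | ∃ i, J i = J i₀ ∧ ∃ g ∈ Y, x = g * z i * g⁻¹} : Set G) := by
      refine norm_closure ?_
      rintro c hc _ ⟨i, hi, g, hg, rfl⟩
      exact subset_closure ⟨i, hi, c * g, mul_mem hc hg, by group⟩
    by_cases hj : J j = J i₀
    · exact (hYi j hj).trans hYU
    have hkey := fun (i : ι) (hi : J i = J i₀) => h.key hyp (i := i) (j := j) (by rw [hi]; exact fun e => hj e.symm)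
    set K := cl (YY z j) (J i₀) with hK
    have hYK : Y ≤ normalizer (K : Set G) := by
      refine iSup_le fun i => ?_
      have := (hkey i.1 i.2).1
      rwa [i.2] at this
    have hKz : ∀ i, J i = J i₀ → K ≤ centralizer {z i} := by
      intro i hi
      have := (hkey i hi).2.1
      rwa [hi] at this
    have hkd : YY z j ≤ K ⊔ D := (hkey i₀ rfl).2.2
    refine hkd.trans (sup_le ?_ ((h.DY i₀).trans ((hYi i₀ rfl).trans hYU)))
    have hKU : K ≤ centralizer (closure {x | ∃ i, J i = J i₀ ∧ ∃ g ∈ Y, x = g * z i * g⁻¹} : Set G) := by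
      rw [le_centralizer_iff, closure_le]
      rintro _ ⟨i, hi, g, hg, rfl⟩
      rw [SetLike.mem_coe, mem_centralizer_iff]
      intro k hk
      have h1 : g⁻¹ * k * g ∈ K := by
        have := conj_mem hYK (inv_mem hg) hk
        rwa [inv_inv] at this
      have h2 := mem_centralizer_iff.1 (hKz i hi h1) _ rfl
      calc k * (g * z i * g⁻¹) = g * ((g⁻¹ * k * g) * z i) * g⁻¹ := by group
        _ = g * (z i * (g⁻¹ * k * g)) * g⁻¹ := by rw [← h2]
        _ = g * z i * g⁻¹ * k := by group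
    exact hKU.trans (centralizer_le_normalizer _)
  · refine (closure_le _).2 ?_
    rintro _ ⟨i, hi, g, hg, rfl⟩
    have hle : Y ≤ centralizer {x | ∃ l, J l ≠ J i₀ ∧ x = z l} := by
      refine iSup_le fun i => centralizer_le ?_
      rintro _ ⟨l, hl, rfl⟩
      exact ⟨l, fun e => hl (by rw [e]; exact i.2), rfl⟩
    exact conj_mem hn (hle hg) (hE i)

end Cls

end Cfsg.Agent.Omega.EK3.Cla
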