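import Cfsg.Agent.Omega.EK3.GLemQ

/-!
# The classes of THEOREM K3 (bb #22123 (5)), any `q`, in POINT form

Over `Fam D Y Z N` : `J i ≤ Y i` is a nontrivial 2-group, normalised by `Y i`, centralising `N i` and all `Z l`; and
`J i ≠ J j` implies that `J i` moves one of the points `Z_j^y`, `y ∈ Y j`.  If moreover `Y i` normalises `N j` whenever
`J i ≠ J j`, then some nontrivial 2-group is normalised by all `Y i`.
-/

set_option autoImplicit false

namespace Cfsg.Agent.Omega.EK3.Q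

open Subgroup Cfsg Cfsg.Agent.ZN.ChoiceBase
open Cfsg.Agent.ZN (jj zj bau zc zl o2)

variable {G : Type*} [Group G] {ι : Type*}

/-- the input of (5) -/
structure CSit (D : Subgroup G) (Y Z N J : ι → Subgroup G) : Prop where
  fam : Fam D Y Z N
  ne : ∀ i, Z i ≠ ⊥
  J_le : ∀ i, J i ≤ Y i
  /-- `J i ≤ O₂(C_G(Z_J))` -/
  J_Z : ∀ i l, J i ≤ centralizer (Z l : Set G)
  J_nm : ∀ i, Y i ≤ normalizer (J i : Set G)
  J_two : ∀ i, IsPGroup 2 (J i)
  J_ne : ∀ i, J i ≠ ⊥
  /-- `[N i, J i] = 1` -/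
  J_c : ∀ i, J i ≤ centralizer (N i : Set G)
  /-- `J i` moves a point of `N j` -/
  J_mv : ∀ i j, J i ≠ J j → ∃ y ∈ Y j, ¬ J i ≤ normalizer ((cj y (Z j) : Subgroup G) : Set G)
  /-- `C_G(Z_l : l ∉ s)` is local for `s ≠ univ` and its `O₂` contains the `Z i`, `i ∈ s` -/
  loc : ∀ s : Set ι, s ≠ Set.univ → ∃ U : Subgroup G, IsPGroup 2 U ∧ (∀ i ∈ s, Z i ≤ U) ∧
    ∀ i ∈ s, Y i ≤ normalizer (U : Set G)
  /-- `⟨Y i : i⟩` is not local -/
  nl : ∀ U : Subgroup G, IsPGroup 2 U → U ≠ ⊥ → (∀ i, Y i ≤ normalizer (U : Set G)) → False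

namespace CSit

variable {D : Subgroup G} {Y Z N J : ι → Subgroup G} (h : CSit D Y Z N J)
include h

/-- the basic step: `K := ⟨J_i^(Y j)⟩` is normalised by `Y i`, centralises `Z i`, and `Y j = K D` -/
theorem step (hY : ∀ i j, J i ≠ J j → Y i ≤ normalizer (N j : Set G)) {i j : ι} (hij : J i ≠ J j) :
    Y i ≤ normalizer (cls (J i) (Y j) : Set G) ∧ cls (J i) (Y j) ≤ centralizer (Z i : Set G) ∧
      ∀ y ∈ Y j, ∃ k ∈ cls (J i) (Y j), ∃ d ∈ D, y = k * d := by
  have hne : i ≠ j := fun e => hij (by rw [e])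
  set X := Y i ⊔ Y j with hX
  have hiX : Y i ≤ X := le_sup_left
  have hjX : Y j ≤ X := le_sup_right
  set K := cls (J i) X with hK
  have hKn : X ≤ normalizer (K : Set G) := cls_self_norm _ _
  have hJK : J i ≤ K := le_cls _ _
  have hNi : X ≤ normalizer (N i : Set G) := sup_le (h.fam.cl i).nm (hY j i hij.symm)
  have hKX : K ≤ X := cls_min ((h.J_le i).trans hiX) le_normalizer
  have hKc : K ≤ centralizer (N i : Set G) := cls_min (h.J_c i) (hNi.trans (centralizer_norm _))
  have hKZ : K ≤ centralizer (Z i : Set G) := hKc.trans (centralizer_le (h.fam.cl i).le)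
  have hKcl : ∀ l, l ≠ j → K ≤ centralizer (Z l : Set G) := by
    intro l hl
    by_cases hli : l = i
    · subst hli
      exact hKZ
    · have h1 : X ≤ normalizer (Z l : Set G) := sup_le (h.fam.YZ i l hli) (h.fam.YZ j l hl)
      exact cls_min (h.J_Z i l) (h1.trans (centralizer_norm _))
  have hKY : K ≤ Y j := fun x hx => h.fam.mem_Y j x fun l hl z hz =>
    (mem_centralizer_iff.1 (hKcl l hl hx) z hz).symm
  have hKn' : Y j ≤ normalizer (K : Set G) := hjX.trans hKn
  have hKN : ¬ K ≤ normalizer (Z j : Set G) := by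
    intro hc
    obtain ⟨y, hy, hmv⟩ := h.J_mv i j hij
    refine hmv (hJK.trans ?_)
    have h1 := cj_mono y hc
    rwa [cj_eq_of_mem_normalizer (hKn' hy), cj_normalizer] at h1
  have hgen := h.fam.gen j K hKY hKcl hKn' hKN
  -- `X = K Y i`
  have hXK : ∀ x ∈ X, ∃ k ∈ K, ∃ y ∈ normalizer (J i : Set G), x = k * y := by
    have h1 : X ≤ Y i ⊔ K := by
      refine sup_le le_sup_left fun y hy => ?_
      obtain ⟨k, hk, d, hd, rfl⟩ := hgen y hy
      exact mul_mem (mem_sup_right hk) (mem_sup_left (h.fam.DY i hd))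
    intro x hx
    have h2 : Y i ≤ normalizer (K : Set G) := hiX.trans hKn
    have h3 := h1 hx
    rw [sup_comm, ← SetLike.mem_coe, coe_mul_of_right_le_normalizer_left K (Y i) h2] at h3
    obtain ⟨k, hk, y, hy, e⟩ := h3
    exact ⟨k, hk, y, h.J_nm i hy, e.symm⟩
  have hcls : cls (J i) X = cls (J i) K := cls_eq_of_factor hKX hXK
  have hKeq : K = cls (J i) (Y j) := by
    refine le_antisymm ?_ (cls_le fun y hy => cj_le_cls (hjX hy))
    rw [hK, hcls]
    exact cls_le fun k hk => cj_le_cls (hKY hk)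
  rw [← hKeq]
  exact ⟨hiX.trans hKn, hKZ, hgen⟩

/-- **(5)** -/
theorem false_of [Nonempty ι] (hY : ∀ i j, J i ≠ J j → Y i ≤ normalizer (N j : Set G)) : False := by
  classical
  obtain ⟨i0, j0, hij⟩ : ∃ i j, J i ≠ J j := by
    by_contra hcon
    push Not at hcon
    obtain ⟨i⟩ := ‹Nonempty ι›
    exact h.nl (J i) (h.J_two i) (h.J_ne i) fun j => by
      rw [hcon i j]
      exact h.J_nm j
  let s : Set ι := {i | J i = J i0}
  have hs0 : i0 ∈ s := rfl
  have hs : s ≠ Set.univ := fun e => by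
    have h1 : j0 ∈ s := by rw [e]; exact Set.mem_univ j0
    exact hij (show J j0 = J i0 from h1).symm
  obtain ⟨U, hU2, hUZ, hUY⟩ := h.loc s hs
  set Zs : Subgroup G := ⨆ i ∈ s, Z i with hZs
  set Ys : Subgroup G := ⨆ i ∈ s, Y i with hYs
  have hYi : ∀ i ∈ s, Y i ≤ Ys := fun i hi => le_iSup₂ (f := fun i (_ : i ∈ s) => Y i) i hi
  have hZi : ∀ i ∈ s, Z i ≤ Zs := fun i hi => le_iSup₂ (f := fun i (_ : i ∈ s) => Z i) i hi
  have hW : cls Zs Ys ≤ U := cls_min (iSup₂_le hUZ) (iSup₂_le hUY)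
  refine h.nl (cls Zs Ys) (hU2.to_le hW) ?_ fun j => ?_
  · intro e
    have h1 : Z i0 ≤ ⊥ := by
      rw [← e]
      exact (hZi i0 hs0).trans (le_cls _ _)
    exact h.ne i0 (le_bot_iff.1 h1)
  · by_cases hj : j ∈ s
    · exact (hYi j hj).trans (cls_self_norm _ _)
    · have hij' : ∀ i ∈ s, J i ≠ J j := fun i hi e => hj (show J j = J i0 from e ▸ hi)
      have hst : ∀ i ∈ s, _ := fun i hi => h.step hY (hij' i hi)
      -- all `⟨J_i^(Y j)⟩`, `i ∈ s`, are the same group
      set K := cls (J i0) (Y j) with hK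
      have hKi : ∀ i ∈ s, cls (J i) (Y j) = K := fun i hi => by rw [show J i = J i0 from hi]
      have hn : Ys ≤ normalizer (K : Set G) := iSup₂_le fun i hi => by
        have := (hst i hi).1
        rwa [hKi i hi] at this
      have hc : K ≤ centralizer (Zs : Set G) := by
        rw [le_centralizer_iff]
        refine iSup₂_le fun i hi => ?_
        rw [le_centralizer_iff]
        have := (hst i hi).2.1
        rwa [hKi i hi] at this
      have hc' : K ≤ centralizer (cls Zs Ys : Set G) := by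
        rw [le_centralizer_iff]
        exact cls_min (le_centralizer_comm hc) (hn.trans (centralizer_norm K))
      intro y hy
      obtain ⟨k, hk, d, hd, rfl⟩ := (hst i0 hs0).2.2 y hy
      refine mul_mem (centralizer_le_normalizer _ (hc' hk)) ?_
      exact (cls_self_norm Zs Ys) (hYi i0 hs0 (h.fam.DY i0 hd))

/-- **(5)**, with `Y i = ⟨D, L i⟩` : for some `i, j` with `J i ≠ J j` the group `L i` does not normalise `N j` -/
theorem exists_not_norm [Nonempty ι] {L : ι → Subgroup G} (hgen : ∀ i, Y i ≤ D ⊔ L i) :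
    ∃ i j, J i ≠ J j ∧ ¬ L i ≤ normalizer (N j : Set G) := by
  by_contra hcon
  push Not at hcon
  refine h.false_of fun i j hij => (hgen i).trans (sup_le ?_ (hcon i j hij))
  exact (h.fam.DY j).trans (h.fam.cl j).nm

end CSit

end Cfsg.Agent.Omega.EK3.Q
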