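import Cfsg.Agent.Omega.EK3.Base
import Cfsg.Agent.Omega.EK3.StarE

/-!
# EK3: the frame `Bg` gives the frame of STAR (helper520)

`Bg S P B ZJ L W Z C 2`, `Z i = {1, z i}`, `D = C(ZJ)`, `O = O₂(D)`, `Y i = CT z {i}ᶜ = C(z l : l ≠ i)`,
`N i = ⟨z_i ^ Y i⟩`, at least 3 indices.

* `EE_le_ET` : `⟨ZJ ^ ⟨Y i, Y j⟩⟩ ≤ E_ij = ⟨ZJ ^ C(z l : l ≠ i, j)⟩`;
* `frE` : `StarE.Fr`, from `Y i ≤ ⟨D, L i⟩`, `O₂(Y i) = O ⊓ C(N i)`, `(NO)`, and nonlocality of `⟨D, L i : i⟩`;
* `hLC`, `hLZ`, `W_le_N` : the inputs of `StarE.Out.low`;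
* `exists_out` : the four facts: `F ≤ O₂(D)`, `F ≤ O₂(Y j ⊓ C(W i))`, exactness on every `N j ≤ M ≤ E`.
-/

set_option autoImplicit false
set_option linter.unusedSectionVars false

namespace Cfsg.Agent.Omega.EK3.MainS

open Subgroup Cfsg Cfsg.Agent.ZN.ChoiceBase
open Cfsg.Agent.ZN (zc zl o2)
open Cfsg.Agent.ZN.ChoiceSit (Syl)
open Cfsg.Agent.Omega.NO3S.EThree.Frame (Bg Fg)
open Cfsg.Agent.Omega.NO3S.EThree
open Cfsg.Agent.Omega.NO3S.EThree.ExactA (eab_mono eab_iff)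
open Cfsg.Agent.Omega.NoFF.Basic (V V_le Z_le_V conj_le_iff)
open Cfsg.Agent.Omega.EK3.StarE (EE EE_le le_EE cj_le_EE)
open Cfsg.Agent.Omega.EK3.Rank (NoOn)
open scoped Pointwise

universe u

variable {G : Type u} [Group G] {S : Sylow 2 G} {P B ZJ : Subgroup G} {ι : Type} {L W Z C : ι → Subgroup G}
  {z : ι → G}

/-- `Y i = C(z l : l ≠ i)` -/
abbrev YC (z : ι → G) (i : ι) : Subgroup G := CT z {i}ᶜ

/-- `N i = ⟨z_i ^ Y i⟩` -/
abbrev NC (z : ι → G) (i : ι) : Subgroup G := V (zpowers (z i)) (YC z i)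

theorem V_eq_EE (Z₀ H : Subgroup G) : V Z₀ H = EE Z₀ H :=
  le_antisymm (V_le fun _ hy => cj_le_EE hy) (EE_le fun _ hy => Z_le_V hy)

theorem NC_eq (i : ι) : NC z i = EE (zpowers (z i)) (YC z i) := V_eq_EE _ _

theorem mem_YC {i : ι} {x : G} : x ∈ YC z i ↔ ∀ l, l ≠ i → x * z l = z l * x := by
  rw [mem_CT]
  exact Iff.rfl

theorem sup_le_CT [Finite G] (i j : ι) : YC z i ⊔ YC z j ≤ CT z ({i, j} : Set ι)ᶜ := sup_le CT_compl_le CT_compl_le'

theorem EE_le_ET [Finite G] (i j : ι) : EE ZJ (YC z i ⊔ YC z j) ≤ ET ZJ z ({i, j} : Set ι)ᶜ := by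
  rw [← V_eq_EE]
  exact V_le_ET le_rfl (sup_le_CT i j)

/-- a third index -/
theorem exists_third {k : ℕ} (hk : 3 ≤ k) (i j : Fin k) : (({i, j} : Set (Fin k))ᶜ).Nonempty := by
  classical
  by_contra hcon
  rw [Set.not_nonempty_iff_eq_empty, Set.compl_empty_iff] at hcon
  have h1 : (Finset.univ : Finset (Fin k)) ⊆ {i, j} := fun x _ => by
    have : x ∈ ({i, j} : Set (Fin k)) := by rw [hcon]; trivial
    simpa using this
  have h2 := (Finset.card_le_card h1).trans Finset.card_le_two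
  rw [Finset.card_univ, Fintype.card_fin] at h2
  omega

section frame

variable [Finite G] [Finite ι] (h : Bg S P B ZJ L W Z C 2) (hz : ∀ i x, x ∈ Z i ↔ x = 1 ∨ x = z i)
include h hz

theorem z_le (i : ι) : zpowers (z i) ≤ ZJ := zpowers_le.2 (z_mem h hz i)

/-- `W i ≤ N i` -/
theorem W_le_N (i : ι) : W i ≤ NC z i := by
  intro v hv
  by_cases hv1 : v = 1
  · rw [hv1]; exact one_mem _
  obtain ⟨l, -, hlC, y, hy, e⟩ := h.tr i v hv hv1
  have hl : l ∈ YC z i := by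
    rw [mem_YC]
    intro m hm
    exact (mem_centralizer_iff.1 hlC _ (h.fr.WjC i m (Ne.symm hm) ((h.fr.blk m).ZV (z_mem_Z h hz m)))).symm
  have hy' : y ∈ zpowers (z i) := by
    rcases (hz i y).1 hy with rfl | rfl
    · exact one_mem _
    · exact mem_zpowers _
  rw [← e]
  have h1 : MulAut.conj l • zpowers (z i) ≤ NC z i := Z_le_V hl
  exact h1 (by rw [NoFF.Basic.mem_conj]; convert hy' using 1; group)

theorem YC_norm_W (i j : ι) (hij : i ≠ j) : L i ≤ centralizer ((zpowers (z j) : Subgroup G) : Set G) := by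
  intro x hx
  rw [mem_centralizer_iff]
  intro y hy
  obtain ⟨n, rfl⟩ := mem_zpowers_iff.1 hy
  have h1 : Commute x (z j) :=
    h.fr.LC i x hx (z j) (z_mem h hz j) (h.fr.WjC i j hij ((h.fr.blk j).ZV (z_mem_Z h hz j)))
  exact (h1.zpow_right n).eq.symm

/-- `L i` normalises `C_{Y j}(W i)` -/
theorem hLC {i j : ι} (hij : i ≠ j) :
    L i ≤ normalizer ((YC z j ⊓ centralizer (W i : Set G) : Subgroup G) : Set G) := by
  have e : (YC z j ⊓ centralizer (W i : Set G) : Subgroup G) =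
      CT z ({i, j} : Set ι)ᶜ ⊓ centralizer (W i : Set G) := by
    apply le_antisymm
    · exact inf_le_inf_right _ CT_compl_le'
    · refine le_inf ?_ inf_le_right
      intro x hx
      rw [mem_YC]
      intro l hl
      by_cases hli : l = i
      · subst hli
        exact ((mem_centralizer_iff.1 hx.2) _ ((h.fr.blk l).ZV (z_mem_Z h hz l))).symm
      · exact mem_CT.1 hx.1 l (by
          intro hm
          rcases hm with hm | hm
          · exact hli hm
          · exact hl hm)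
  rw [e]
  have hLCT : L i ≤ CT z ({i, j} : Set ι)ᶜ := L_le_CT h hz (by simp)
  intro x hx
  have h1 : x ∈ normalizer ((CT z ({i, j} : Set ι)ᶜ : Subgroup G) : Set G) := le_normalizer (hLCT hx)
  have h2 : x ∈ normalizer (W i : Set G) := (h.block i).LV hx
  rw [mem_normalizer_iff_cj, cj_inf, cj_centralizer, cj_eq_of_mem_normalizer h1, cj_eq_of_mem_normalizer h2]

variable (hT : ∀ i j : ι, (({i, j} : Set ι)ᶜ).Nonempty)
include hT

theorem NC_le_ET (i : ι) (j : ι) : NC z i ≤ ET ZJ z ({i, j} : Set ι)ᶜ :=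
  V_le_ET (z_le h hz i) CT_compl_le

theorem NC_eab (i : ι) : IsElementaryAbelian 2 (NC z i) := by
  have h1 := NC_le_ET h hz hT i i
  rw [eab_iff]
  refine ⟨(h1.trans (ET_ab h hz (hT i i))).trans (centralizer_le h1), fun x hx => ET_sq h hz (hT i i) (h1 hx)⟩

theorem NC_le_O (i : ι) : NC z i ≤ o2 (centralizer (ZJ : Set G)) :=
  (NC_le_ET h hz hT i i).trans (ET_le_O h hz (hT i i))

theorem NC_comm (i j : ι) : NC z i ≤ centralizer (NC z j : Set G) := by
  have h2 : NC z j ≤ ET ZJ z ({i, j} : Set ι)ᶜ := by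
    have := NC_le_ET h hz hT j i
    rwa [Set.pair_comm] at this
  exact ((NC_le_ET h hz hT i j).trans (ET_ab h hz (hT i j))).trans (centralizer_le h2)

/-- **the frame of STAR** -/
theorem frE (hgen : ∀ i, YC z i ≤ centralizer (ZJ : Set G) ⊔ L i)
    (hQ : ∀ i, o2 (YC z i) = o2 (centralizer (ZJ : Set G)) ⊓ centralizer (NC z i : Set G))
    (hno : ∀ i, NoOn (o2 (centralizer (ZJ : Set G))) (NC z i))
    (hnl : ∀ U : Subgroup G, U ≤ o2 (centralizer (ZJ : Set G)) → centralizer (ZJ : Set G) ≤ normalizer (U : Set G) →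
      (∀ i, L i ≤ normalizer (U : Set G)) → U = ⊥) :
    StarE.Fr (o2 (centralizer (ZJ : Set G))) (centralizer (ZJ : Set G)) ZJ (YC z) (NC z) L where
  OD := MinSimple.VModule.o2_le _
  DO := MinSimple.VModule.le_normalizer_o2 _
  OZ := MinSimple.VModule.o2_le _
  DY _ := cent_le_CT h hz
  LY i := L_le_CT h hz (by simp)
  YDL := hgen
  eab := NC_eab h hz hT
  NQ i j := le_inf (NC_le_O h hz hT i) (NC_comm h hz hT i j)
  YN i := by
    rw [NC_eq]
    exact StarE.norm_EE _ _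
  YQ i := by
    rw [← hQ i]
    exact MinSimple.VModule.le_normalizer_o2 _
  no := hno
  nl := hnl
  Eeab i j _ := by
    have h1 := EE_le_ET (ZJ := ZJ) (z := z) i j
    rw [eab_iff]
    exact ⟨(h1.trans (ET_ab h hz (hT i j))).trans (centralizer_le h1), fun x hx => ET_sq h hz (hT i j) (h1 hx)⟩
  EO i j _ := (EE_le_ET i j).trans (ET_le_O h hz (hT i j))
  NE i := by
    rw [NC_eq]
    exact EE_le fun y hy => (cj_mono y (z_le h hz i)).trans (cj_le_EE hy)

/-- **The output of STAR in the frame.** -/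
theorem exists_out (hgen : ∀ i, YC z i ≤ centralizer (ZJ : Set G) ⊔ L i)
    (hQ : ∀ i, o2 (YC z i) = o2 (centralizer (ZJ : Set G)) ⊓ centralizer (NC z i : Set G))
    (hno : ∀ i, NoOn (o2 (centralizer (ZJ : Set G))) (NC z i))
    (hnl : ∀ U : Subgroup G, U ≤ o2 (centralizer (ZJ : Set G)) → centralizer (ZJ : Set G) ≤ normalizer (U : Set G) →
      (∀ i, L i ≤ normalizer (U : Set G)) → U = ⊥)
    (hst : ∀ i, YC z i ⊓ centralizer ((zpowers (z i) : Subgroup G) : Set G) ≤ centralizer (ZJ : Set G))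
    (hO : o2 (centralizer (ZJ : Set G)) ≠ ⊥) :
    ∃ i j, i ≠ j ∧ ∃ F : Subgroup G, IsElementaryAbelian 2 F ∧ F ≤ o2 (centralizer (ZJ : Set G)) ∧
      F ≤ centralizer (NC z i : Set G) ∧ ¬ F ≤ centralizer (NC z j : Set G) ∧
      F ≤ o2 (YC z j ⊓ centralizer (W i : Set G)) ∧
      F ⊓ centralizer (NC z j : Set G) ≤ centralizer (EE ZJ (YC z i ⊔ YC z j) : Set G) ∧
      EE ZJ (YC z i ⊔ YC z j) ≤ NC z j ⊔ (EE ZJ (YC z i ⊔ YC z j) ⊓ centralizer (F : Set G)) ∧
      ∀ M : Subgroup G, NC z j ≤ M → M ≤ EE ZJ (YC z i ⊔ YC z j) →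
        (centralizer (M : Set G)).relIndex F = (centralizer (F : Set G)).relIndex M := by
  have hf := frE h hz hT hgen hQ hno hnl
  obtain ⟨i, j, F₁, F, x, o⟩ := hf.star hO
  refine ⟨i, j, o.ne, F, o.eab, o.leO, o.le_centi, o.mov, ?_, o.le_cent hf, o.le_sup hf, fun M h1 h2 => ?_⟩
  · exact o.low hf (MinSimple.VModule.o2_isPGroup _) (W_le_N h hz i) (hLC h hz o.ne)
      ((YC_norm_W h hz i j o.ne).trans (centralizer_le_normalizer _))
      (by rw [NC_eq]; exact le_EE _ _) (hst j)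
  · obtain ⟨-, e1, e2⟩ := o.exact hf h1 h2
    rw [e1, e2]

end frame

end Cfsg.Agent.Omega.EK3.MainS
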