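import Cfsg.Agent.Omega.EK3.Inst
import Cfsg.Agent.Omega.EK3.MainS

/-!
# EK3: STAR in the frame `EK3.Fr` (helper520)

* `Fr.YY_eq_YC`, `Fr.NN_eq_NC` : the groups of `EK3.Frame` and of `EK3.MainS` agree;
* **`Fr.exists_star`** : in `EK3.Fr` with `NLoc (D ⊔ ⨆ L i)` and `MLK` there are `i ≠ j` and an elementary abelian `F ≤ O₂(D)`,
  `F ≤ C(N i)`, `F ≰ C(N j)`, `F ≤ O₂(YY z j ⊓ C(W i))`, exact on every `N j ≤ M ≤ E := ⟨ZJ^⟨YY z i, YY z j⟩⟩`,
  `C_F(N j) ≤ C(E)`, `E = N j C_E(F)`.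
-/

set_option autoImplicit false
set_option linter.unusedSectionVars false

namespace Cfsg.Agent.Omega.EK3

open Subgroup Cfsg Cfsg.Agent.ZN.ChoiceBase
open Cfsg.Agent.ZN (zc zl o2)
open Cfsg.Agent.Omega.OM Cfsg.Agent.Omega.OM.Uni
open Cfsg.Agent.Omega.NO3S.EThree.Frame
open Cfsg.Agent.Omega.Node.MultiOf
open Cfsg.Agent.Omega.EK3.StarE (EE)
open Cfsg.Agent.Omega.EK3.MainS (YC NC)

universe u

variable {G : Type u} [Group G]

theorem YY_eq_YC {k : ℕ} (z : Fin k → G) (j : Fin k) : YY z j = YC z j := by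
  ext x
  rw [mem_YY, MainS.mem_YC]

theorem NN_eq_NC {k : ℕ} (z : Fin k → G) (j : Fin k) : NN z j = NC z j := by
  unfold NN
  rw [YY_eq_YC]

/-- the output of STAR in `EK3.Fr` -/
structure StarOut {k : ℕ} (ZJ : Subgroup G) (W : Fin k → Subgroup G) (z : Fin k → G) (i j : Fin k)
    (F : Subgroup G) : Prop where
  ne : i ≠ j
  el : IsElementaryAbelian 2 F
  FO : F ≤ o2 (centralizer (ZJ : Set G))
  ci : F ≤ centralizer (NN z i : Set G)
  mv : ¬ F ≤ centralizer (NN z j : Set G)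
  low : F ≤ o2 (YY z j ⊓ centralizer (W i : Set G))
  cent : F ⊓ centralizer (NN z j : Set G) ≤ centralizer (EE ZJ (YY z i ⊔ YY z j) : Set G)
  sup : EE ZJ (YY z i ⊔ YY z j) ≤ NN z j ⊔ (EE ZJ (YY z i ⊔ YY z j) ⊓ centralizer (F : Set G))
  ex : ∀ M : Subgroup G, NN z j ≤ M → M ≤ EE ZJ (YY z i ⊔ YY z j) →
    (centralizer (M : Set G)).relIndex F = (centralizer (F : Set G)).relIndex M

/-- **STAR.** -/
theorem Fr.exists_star [Finite G] {S : Sylow 2 G} {P K B ZJ : Subgroup G} {k : ℕ} {L W Z C : Fin k → Subgroup G}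
    {z : Fin k → G} (h : Fr S P K B ZJ L W Z C z) (hML : ML.Final.MLK.{u, u})
    (hn : NLoc (centralizer (ZJ : Set G) ⊔ ⨆ i, L i)) : ∃ i j F, StarOut ZJ W z i j F := by
  have hT := MainS.exists_third h.three
  have hgen : ∀ i, YC z i ≤ centralizer (ZJ : Set G) ⊔ L i := fun i => by
    rw [← YY_eq_YC]; exact h.Y_le i
  have hQ : ∀ i, o2 (YC z i) = o2 (centralizer (ZJ : Set G)) ⊓ centralizer (NC z i : Set G) := fun i => by
    have := h.Q_eq i
    rwa [YY_eq_YC, NN_eq_NC] at this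
  have hno : ∀ i, Rank.NoOn (o2 (centralizer (ZJ : Set G))) (NC z i) := fun i A hA hAO => by
    have := h.no hML (j := i) hAO (NO3S.EThree.ExactA.eab_iff.1 hA).2
    rwa [NN_eq_NC] at this
  have hnl : ∀ U : Subgroup G, U ≤ o2 (centralizer (ZJ : Set G)) →
      centralizer (ZJ : Set G) ≤ normalizer (U : Set G) → (∀ i, L i ≤ normalizer (U : Set G)) → U = ⊥ :=
    fun U h1 h2 h3 => hn U ((MinSimple.VModule.o2_isPGroup _).to_le h1) (sup_le h2 (iSup_le h3))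
  have hst : ∀ i, YC z i ⊓ centralizer ((zpowers (z i) : Subgroup G) : Set G) ≤ centralizer (ZJ : Set G) := fun i => by
    rw [← h.stab i, ← YY_eq_YC]
    exact inf_le_inf_left _ (centralizer_le (Set.singleton_subset_iff.2 (mem_zpowers _)))
  have hO : o2 (centralizer (ZJ : Set G)) ≠ ⊥ := fun e => by
    have h0 := h.three
    have h1 := h.o2_le_O ⟨0, by omega⟩ (h.z_mem_o2 ⟨0, by omega⟩ ⟨0, by omega⟩)
    rw [e, mem_bot] at h1
    exact h.z_ne _ h1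
  obtain ⟨i, j, h1, F, h2, h3, h4, h5, h6, h7, h8, h9⟩ :=
    MainS.exists_out h.bg h.hz hT hgen hQ hno hnl hst hO
  simp only [← YY_eq_YC, ← NN_eq_NC] at h4 h5 h6 h7 h8 h9
  exact ⟨i, j, F, h1, h2, h3, h4, h5, h6, h7, h8, h9⟩

end Cfsg.Agent.Omega.EK3
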