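import Cfsg.Agent.Omega.TC.OfMul
import Cfsg.Agent.Omega.TC.No
import Cfsg.Agent.Omega.OM.Swap.Pair

/-!
# (E), `k ≥ 3`, `q = 2` (THEOREM K3, helper474 #22123, #22296, #22451): the frame

`D = C_G(ZJ)`, `O = O₂(D)`, `YY z j = C_G(z_l : l ≠ j)`, `NN z j = ⟨z_j^{YY z j}⟩`.

* `Fr S P K B ZJ L W Z C z` : the frame `Bg` for `q = 2`, `k ≥ 3`, with UNI+ (`UniTwo`) and `BlkS K B B`;
* `Fr.Y_le` : `YY z j ≤ D ⊔ L j`; `Fr.stab` : `C_{YY z j}(z_j) = D`; `Fr.syl` : `B` is Sylow in `YY z j`;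
* `Fr.par` : a minimal parabolic over `B` in `YY z j` is in `D`, or normalises `W j` and is transitive on `W j - 1`;
* `Fr.char2`, `Fr.NN_le_zc`, `Fr.W_le_NN`, `Fr.Q_eq` : `O₂(YY z j) = O ⊓ C(NN z j)`;
-/

set_option autoImplicit false
set_option linter.unusedSectionVars false

namespace Cfsg.Agent.Omega.EK3

open Subgroup Cfsg Cfsg.Agent.ZN.ChoiceBase
open Cfsg.Agent.ZN (jj zj bau zc zl o2)
open Cfsg.Agent.ZN.ChoiceSit (Syl exists_syl syl_conj o2_le_syl)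
open Cfsg.Agent.Omega.OM Cfsg.Agent.Omega.OM.Uni
open Cfsg.Agent.Omega.NO3S.EThree.Frame
open Cfsg.Agent.Omega.Node.MultiOf
open Cfsg.Agent.Omega.NoFF.Basic (V_le Z_le_V mem_conj conj_le_iff)
open Cfsg.Agent.Omega.OM.KTwo (le_V le_normalizer_V)
open Cfsg.Agent.Omega.NOThreeL.Pair (conj_eq_of_mem)
open Cfsg.Agent.MinSimple.MinParabolic (IsMinPar)
open Cfsg.Agent.MinSimple.VModule (mem_zc zc_le normalizer_le_normalizer_zc le_normalizer_o2 o2_isPGroup le_o2 o2_le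
  le_centralizer_zc)
open scoped Pointwise

universe u

variable {G : Type u} [Group G]

/-- `Y_j = C_G(z_l : l ≠ j)` -/
def YY {k : ℕ} (z : Fin k → G) (j : Fin k) : Subgroup G := ⨅ l : {l : Fin k // l ≠ j}, centralizer ({z l} : Set G)

theorem mem_YY {k : ℕ} {z : Fin k → G} {j : Fin k} {x : G} : x ∈ YY z j ↔ ∀ l, l ≠ j → x * z l = z l * x := by
  unfold YY
  rw [mem_iInf]
  exact ⟨fun h l hl => mem_centralizer_singleton_iff.1 (h ⟨l, hl⟩), fun h l => mem_centralizer_singleton_iff.2 (h l l.2)⟩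

/-- `N_j = ⟨z_j^{Y_j}⟩` -/
def NN {k : ℕ} (z : Fin k → G) (j : Fin k) : Subgroup G := NoFF.Basic.V (zpowers (z j)) (YY z j)

theorem mem_NN {k : ℕ} (z : Fin k → G) (j : Fin k) : z j ∈ NN z j := le_V _ _ (mem_zpowers _)

theorem le_normalizer_NN {k : ℕ} (z : Fin k → G) (j : Fin k) : YY z j ≤ normalizer (NN z j : Set G) :=
  le_normalizer_V _ _

theorem NN_le {k : ℕ} {z : Fin k → G} {j : Fin k} {U : Subgroup G} (hz : z j ∈ U)
    (hU : YY z j ≤ normalizer (U : Set G)) : NN z j ≤ U :=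
  V_le fun g hg => by
    rw [← conj_eq_of_mem (hU hg)]
    exact conj_le_iff.2 (by rw [zpowers_le]; exact hz)

/-- UNI+ for the blocks whose module is in `V_P`. -/
def UniV [Finite G] (S : Sylow 2 G) (P B ZJ : Subgroup G) {k : ℕ} (L W : Fin k → Subgroup G) : Prop :=
  ∀ L' V' : Subgroup G, FBl B L' V' → V' ≤ zl (S : Subgroup G) P →
    ∃ i, V' = W i ∧ L' ≤ L i ⊔ centralizer ((W i ⊔ ZJ : Subgroup G) : Set G)

theorem _root_.Cfsg.Agent.Omega.Node.MultiOf.UniTwo.toV [Finite G] {S : Sylow 2 G} {P B ZJ : Subgroup G} {k : ℕ}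
    {L W : Fin k → Subgroup G} (h : UniTwo B ZJ L W) : UniV S P B ZJ L W := fun L' V' hb _ => h L' V' hb

/-- **The frame of THEOREM K3.** -/
structure Fr [Finite G] (S : Sylow 2 G) (P K B ZJ : Subgroup G) {k : ℕ} (L W Z C : Fin k → Subgroup G)
    (z : Fin k → G) : Prop where
  bg : Bg S P B ZJ L W Z C 2
  lb : LevD.LB S K B ZJ
  hz : ∀ i x, x ∈ Z i ↔ x = 1 ∨ x = z i
  /-- the blocks in `C_G(z l : l ≠ j)` with module in `V_P` -/
  uni : ∀ (j : Fin k) (L' V' : Subgroup G), FBl B L' V' → V' ≤ zl (S : Subgroup G) P → L' ≤ YY z j →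
    V' = W j ∧ L' ≤ L j ⊔ centralizer (ZJ : Set G)
  blk : ∀ (j : Fin k) (R : Subgroup G), R ≤ YY z j → IsMinPar B R → Syl B R →
    R ⊓ centralizer (o2 R : Set G) ≤ o2 R → ¬ K ≤ o2 R → ¬ R ≤ centralizer (zc B : Set G) →
    ∃ L' V' : Subgroup G, FBl B L' V' ∧ V' ≤ zl (S : Subgroup G) P ∧ L' ≤ R ∧ R ≤ L' ⊔ B
  three : 3 ≤ k

/-- a block in `C_G(z l : l ≠ j)` with module `W i`: `i = j` -/
theorem uni_aux [Finite G] {S : Sylow 2 G} {P B ZJ : Subgroup G} {k : ℕ} {L W Z C : Fin k → Subgroup G}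
    {z : Fin k → G} (h : Bg S P B ZJ L W Z C 2) (hz : ∀ i x, x ∈ Z i ↔ x = 1 ∨ x = z i) {i j : Fin k}
    {L' : Subgroup G} (hb : FBl B L' (W i)) (hL : L' ≤ YY z j)
    (hle : L' ≤ L i ⊔ centralizer ((W i ⊔ ZJ : Subgroup G) : Set G)) :
    W i = W j ∧ L' ≤ L j ⊔ centralizer (ZJ : Set G) := by
  have hij : i = j := by
    by_contra hne
    obtain ⟨⟨Z', q', hF⟩, -⟩ := hb
    obtain ⟨l, hl, hmv, -⟩ := hF.exists_mv
    apply hmv
    have hZ' : Z' = Z i := by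
      ext x
      rw [hF.toMd.mem_Z_iff, (h.fr.blk i).toMd.mem_Z_iff]
    rw [hZ']
    refine Subgroup.eq_of_le_of_card_ge ?_ (card_cj _ _).ge
    rintro _ ⟨x, hx, rfl⟩
    rcases (hz i x).1 hx with rfl | rfl
    · simp
    · change l * z i * l⁻¹ ∈ Z i
      rw [mem_YY.1 (hL hl) i hne, mul_inv_cancel_right]
      exact hx
  subst hij
  refine ⟨rfl, hle.trans (sup_le_sup_left (centralizer_le ?_) _)⟩
  exact_mod_cast (le_sup_right : ZJ ≤ W i ⊔ ZJ)

/-- **the frame, weakest hypotheses**: UNI+ for the blocks with module in `V_P`, block generation in `C_G(z l : l ≠ j)` -/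
theorem exists_fr_V [Finite G] {S : Sylow 2 G} {P K B ZJ : Subgroup G} {k : ℕ} {L W Z C : Fin k → Subgroup G}
    (h : Bg S P B ZJ L W Z C 2) (hl : LevD.LB S K B ZJ) (hk : 3 ≤ k) (hu : UniV S P B ZJ L W)
    (hb : ∀ (j : Fin k) (R : Subgroup G), (∀ l, l ≠ j → R ≤ centralizer (Z l : Set G)) → IsMinPar B R → Syl B R →
      R ⊓ centralizer (o2 R : Set G) ≤ o2 R → ¬ K ≤ o2 R → ¬ R ≤ centralizer (zc B : Set G) →
      ∃ L' V' : Subgroup G, FBl B L' V' ∧ V' ≤ zl (S : Subgroup G) P ∧ L' ≤ R ∧ R ≤ L' ⊔ B) :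
    ∃ z : Fin k → G, Fr S P K B ZJ L W Z C z := by
  have h1 : ∀ i, ∃ v, v ≠ 1 ∧ ∀ x, x ∈ Z i ↔ x = 1 ∨ x = v := fun i => TC.OfBg.exists_gen (h.fr.cardZ i)
  choose z _ hz using h1
  refine ⟨z, h, hl, hz, ?_, fun j R hR => hb j R fun l hlj => ?_, hk⟩
  · intro j L' V' hF hV hL
    obtain ⟨i, rfl, hle⟩ := hu L' V' hF hV
    exact uni_aux h hz hF hL hle
  · intro r hr
    rw [mem_centralizer_iff]
    intro x hx
    rcases (hz l x).1 hx with rfl | rfl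
    · simp
    · exact (mem_YY.1 (hR hr) l hlj).symm

/-- the frame from `Bg`, `UniTwo`, `BlkS` -/
theorem exists_fr_bg [Finite G] {S : Sylow 2 G} {P K B ZJ : Subgroup G} {k : ℕ} {L W Z C : Fin k → Subgroup G}
    (h : Bg S P B ZJ L W Z C 2) (hl : LevD.LB S K B ZJ) (hk : 3 ≤ k) (hu : UniTwo B ZJ L W)
    (hb : TC.OfMul.BlkS K B B) : ∃ z : Fin k → G, Fr S P K B ZJ L W Z C z := by
  refine exists_fr_V h hl hk hu.toV fun _ R _ h1 h2 h3 h4 h5 => ?_
  obtain ⟨L', V', hF, h6, h7⟩ := hb R h1 h2 h3 h4 h5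
  obtain ⟨i, rfl, -⟩ := hu L' V' hF
  exact ⟨L', W i, hF, h.fr.WV i, h6, h7⟩

/-- the frame from `Mul` -/
theorem exists_fr [Finite G] {S : Sylow 2 G} {P K B ZJ : Subgroup G} {k : ℕ} {L W Z C : Fin k → Subgroup G}
    (h : Mul S P K B ZJ L W Z C 2) (hk : 3 ≤ k) (hu : UniTwo B ZJ L W) (hb : TC.OfMul.BlkS K B B) :
    ∃ z : Fin k → G, Fr S P K B ZJ L W Z C z := exists_fr_bg h.bg h.lb hk hu hb

namespace Fr

variable [Finite G] {S : Sylow 2 G} {P K B ZJ : Subgroup G} {k : ℕ} {L W Z C : Fin k → Subgroup G}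
    {z : Fin k → G} (h : Fr S P K B ZJ L W Z C z)

include h

theorem mem_Z (i : Fin k) : z i ∈ Z i := (h.hz i _).2 (Or.inr rfl)

theorem z_ne (i : Fin k) : z i ≠ 1 := by
  intro e
  apply h.bg.Z_ne i
  rw [eq_bot_iff]
  intro x hx
  rcases (h.hz i x).1 hx with h1 | h1
  · exact h1
  · rw [mem_bot, h1, e]

theorem z_sq (i : Fin k) : z i ^ 2 = 1 := h.bg.fr.Vsq (h.bg.fr.ZV i (h.mem_Z i))

theorem mem_ZJ (i : Fin k) : z i ∈ ZJ := h.bg.fr.Z_le i (h.mem_Z i)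

theorem mem_W (i : Fin k) : z i ∈ W i := (h.bg.fr.blk i).ZV (h.mem_Z i)

theorem zpowers_eq (i : Fin k) : zpowers (z i) = Z i := by
  apply le_antisymm
  · rw [zpowers_le]; exact h.mem_Z i
  · intro x hx
    rcases (h.hz i x).1 hx with rfl | rfl
    · exact one_mem _
    · exact mem_zpowers _

theorem zz (i j : Fin k) : z i * z j = z j * z i :=
  h.bg.fr.Vc (h.bg.fr.ZJV (h.mem_ZJ i)) (h.bg.fr.ZJV (h.mem_ZJ j))

theorem inj {i j : Fin k} (e : z i = z j) : i = j := by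
  apply h.bg.Z_inj
  ext x
  rw [h.hz, h.hz, e]

theorem D_le_C (i : Fin k) : centralizer (ZJ : Set G) ≤ centralizer ({z i} : Set G) :=
  centralizer_le (Set.singleton_subset_iff.2 (h.mem_ZJ i))

/-- `D ≤ Y_j` -/
theorem D_le (j : Fin k) : centralizer (ZJ : Set G) ≤ YY z j := fun _ hx =>
  mem_YY.2 fun l _ => mem_centralizer_singleton_iff.1 (h.D_le_C l hx)

/-- `ZJ` is generated by the `Z i` -/
theorem ZJ_le : ZJ ≤ ⨆ i, Z i := by
  classical
  have key : ∀ s : Finset (Fin k), ∀ x ∈ ZJ, ∃ w ∈ (⨆ i, Z i), w ∈ ZJ ∧ ∀ i ∈ s, w⁻¹ * x ∈ C i := by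
    intro s
    induction s using Finset.induction_on with
    | empty => exact fun x _ => ⟨1, one_mem _, one_mem _, fun i hi => by simp at hi⟩
    | insert j s hj ih =>
      intro x hx
      obtain ⟨w, hw, hwJ, hwC⟩ := ih x hx
      obtain ⟨a, ha, c, hc, hcJ, e⟩ := h.bg.fr.split_ZJ j (mul_mem (inv_mem hwJ) hx)
      refine ⟨w * a, mul_mem hw ((le_iSup Z j) ha), mul_mem hwJ (h.bg.fr.Z_le j ha), fun i hi => ?_⟩
      have e1 : (w * a)⁻¹ * x = a⁻¹ * (w⁻¹ * x) := by group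
      rw [e1]
      rcases Finset.mem_insert.1 hi with rfl | hi
      · rw [e]
        have : a⁻¹ * (a * c) = c := by group
        rw [this]
        exact hc
      · have hij : i ≠ j := fun e => hj (e ▸ hi)
        exact mul_mem (inv_mem (h.bg.fr.WjC i j hij ((h.bg.fr.blk j).ZV ha))) (hwC i hi)
  intro x hx
  obtain ⟨w, hw, hwJ, hwC⟩ := key Finset.univ x hx
  have h1 := h.bg.fr.C0 (w⁻¹ * x) (mul_mem (inv_mem (h.bg.fr.ZJV hwJ)) (h.bg.fr.ZJV hx)) fun i =>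
    hwC i (Finset.mem_univ i)
  have h2 : x = w := (inv_mul_eq_one.1 h1).symm
  rw [h2]
  exact hw

/-- an element which centralises all `z i` is in `D` -/
theorem mem_D {x : G} (hx : ∀ i, x * z i = z i * x) : x ∈ centralizer (ZJ : Set G) := by
  have h1 : (⨆ i, Z i) ≤ centralizer ({x} : Set G) := iSup_le fun i y hy => by
    rw [mem_centralizer_singleton_iff]
    rcases (h.hz i y).1 hy with rfl | rfl
    · simp
    · exact (hx i).symm
  rw [mem_centralizer_iff]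
  intro y hy
  exact mem_centralizer_singleton_iff.1 (h1 (h.ZJ_le hy))

/-- **`C_{Y_j}(z_j) = D`** -/
theorem stab (j : Fin k) : YY z j ⊓ centralizer ({z j} : Set G) = centralizer (ZJ : Set G) := by
  apply le_antisymm
  · rintro x ⟨h1, h2⟩
    refine h.mem_D fun i => ?_
    by_cases hij : i = j
    · rw [hij]; exact mem_centralizer_singleton_iff.1 h2
    · exact mem_YY.1 h1 i hij
  · exact le_inf (h.D_le j) (h.D_le_C j)

/-- `L_j ≤ Y_j` -/
theorem L_le (j : Fin k) : L j ≤ YY z j := fun l hl =>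
  mem_YY.2 fun i hi => h.bg.fr.LC j l hl (z i) (h.mem_ZJ i) (h.bg.fr.WjC j i hi.symm (h.mem_W i))

theorem B_le_D : B ≤ centralizer (ZJ : Set G) := h.lb.Bc

theorem B_le (j : Fin k) : B ≤ YY z j := h.B_le_D.trans (h.D_le j)

theorem sylD : Syl B (centralizer (ZJ : Set G)) := h.lb.syl

/-- an element of `N(B)` in `Y_j` is in `D` -/
theorem norm_B (j : Fin k) : YY z j ⊓ normalizer (B : Set G) ≤ centralizer (ZJ : Set G) := by
  rintro g ⟨hg, hgB⟩
  rw [← h.stab j]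
  refine ⟨hg, ?_⟩
  obtain ⟨m, hm, -⟩ := (h.bg.nrm g hgB).2 j
  have hmj : m = j := by
    by_contra hne
    have h1 : g * z m * g⁻¹ = z m := by rw [mem_YY.1 hg m hne]; group
    have h2 : cj g (Z m) = Z m := by
      refine Subgroup.eq_of_le_of_card_ge ?_ (card_cj _ _).ge
      rintro _ ⟨x, hx, rfl⟩
      rcases (h.hz m x).1 hx with rfl | rfl
      · simp
      · change g * z m * g⁻¹ ∈ Z m
        rw [h1]; exact h.mem_Z m
    have h3 : cj g (Z j) = cj g (Z m) := by rw [hm, h2]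
    have h4 : Z j = Z m := by
      have := congrArg (cj g⁻¹) h3
      rwa [cj_inv_cj, cj_inv_cj] at this
    exact hne (h.bg.Z_inj h4).symm
  subst hmj
  have h5 : g * z m * g⁻¹ ∈ Z m := by
    have : g * z m * g⁻¹ ∈ cj g (Z m) := ⟨z m, h.mem_Z m, rfl⟩
    rwa [hm] at this
  rcases (h.hz m _).1 h5 with h6 | h6
  · exact absurd (conj_eq_one_iff.1 h6) (h.z_ne m)
  · exact mem_centralizer_singleton_iff.2 (mul_inv_eq_iff_eq_mul.1 h6)

/-- **`B` is Sylow in `Y_j`** -/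
theorem syl (j : Fin k) : Syl B (YY z j) := by
  refine ⟨h.B_le j, h.bg.bau_two, fun R hR h2 hBR => ?_⟩
  have h3 : R ≤ centralizer (ZJ : Set G) := fun r hr => h.norm_B j ⟨hR hr, h.bg.le_norm_B h2 hBR hr⟩
  exact h.sylD.2.2 R h3 h2 hBR

theorem YY_eq (j : Fin k) : YY z j = centralizer ((⨆ l : {l : Fin k // l ≠ j}, Z l : Subgroup G) : Set G) := by
  ext x
  rw [mem_YY]
  constructor
  · intro hx
    have h1 : (⨆ l : {l : Fin k // l ≠ j}, Z l) ≤ centralizer ({x} : Set G) := iSup_le fun i y hy => by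
      rw [mem_centralizer_singleton_iff]
      rcases (h.hz i y).1 hy with rfl | rfl
      · simp
      · exact (hx i i.2).symm
    rw [mem_centralizer_iff]
    intro y hy
    exact mem_centralizer_singleton_iff.1 (h1 hy)
  · intro hx l hl
    have h1 : z l ∈ (⨆ l : {l : Fin k // l ≠ j}, Z l) :=
      (le_iSup (fun l : {l : Fin k // l ≠ j} => Z l) ⟨l, hl⟩) (h.mem_Z l)
    exact (mem_centralizer_iff.1 hx _ h1).symm

/-- `Y_j` has characteristic 2 -/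
theorem char2 (j : Fin k) : YY z j ⊓ centralizer (o2 (YY z j) : Set G) ≤ o2 (YY z j) := by
  obtain ⟨i, hi⟩ := h.bg.two j
  rw [h.YY_eq j]
  refine Swap.char2_cent h.bg.hyp.ctx.char2 ?_ ?_
  · refine h.bg.bau_two.to_le (iSup_le fun l => ?_)
    exact (h.bg.fr.Z_le l).trans h.lb.ZB
  · intro e
    apply h.bg.Z_ne i
    rw [eq_bot_iff, ← e]
    exact le_iSup (fun l : {l : Fin k // l ≠ j} => Z l) ⟨i, hi⟩

/-- `O₂(Y_j) ≤ O₂(R)` and `R` has characteristic 2, `B ≤ R ≤ Y_j` -/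
theorem o2_le_o2 {j : Fin k} {R : Subgroup G} (hB : B ≤ R) (hR : R ≤ YY z j) : o2 (YY z j) ≤ o2 R :=
  le_o2 ((o2_le_syl (h.syl j)).trans hB) (o2_isPGroup _) (hR.trans (le_normalizer_o2 _))

theorem char2_of {j : Fin k} {R : Subgroup G} (hB : B ≤ R) (hR : R ≤ YY z j) :
    R ⊓ centralizer (o2 R : Set G) ≤ o2 R := by
  rintro x ⟨hx, hxc⟩
  exact h.o2_le_o2 hB hR (h.char2 j ⟨hR hx, centralizer_le (by exact_mod_cast h.o2_le_o2 hB hR) hxc⟩)

theorem syl_of {j : Fin k} {R : Subgroup G} (hB : B ≤ R) (hR : R ≤ YY z j) : Syl B R :=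
  ⟨hB, h.bg.bau_two, fun T hT h2 hBT => (h.syl j).2.2 T (hT.trans hR) h2 hBT⟩

/-- the blocks over `B` in `Y_j` -/
theorem blk_of {j : Fin k} {L' V' : Subgroup G} (hb : FBl B L' V') (hV : V' ≤ zl (S : Subgroup G) P)
    (hL : L' ≤ YY z j) : V' = W j ∧ L' ≤ L j ⊔ centralizer (ZJ : Set G) := h.uni j L' V' hb hV hL

theorem L_norm_W (j : Fin k) : L j ≤ normalizer (W j : Set G) := fun l hl => by
  rw [mem_normalizer_iff_cj]
  refine Subgroup.eq_of_le_of_card_ge ?_ (by rw [card_cj])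
  rintro _ ⟨w, hw, rfl⟩
  exact (h.bg.fr.blk j).nV l hl w hw

/-- a member of `𝒫(Y_j, B)` which is not in `D` is generated by `B` and a block over `B` with module `W j` -/
theorem par_blk {j : Fin k} {R : Subgroup G} (hR : IsMinPar B R) (hRY : R ≤ YY z j)
    (hD : ¬ R ≤ centralizer (ZJ : Set G)) : ∃ L', FBl B L' (W j) ∧ L' ≤ R ∧ R ≤ L' ⊔ B := by
  have hK : ¬ K ≤ o2 R := by
    intro hK
    apply hD
    have h1 : R ≤ normalizer (ZJ : Set G) := (le_normalizer_o2 R).trans (h.lb.nrm _ (o2_isPGroup R) hK)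
    intro r hr
    obtain ⟨d, hd, n, hn, rfl⟩ := h.lb.exists_frattini (h1 hr)
    have h2 : n ∈ YY z j := by
      have := mul_mem (inv_mem (h.D_le j hd)) (hRY hr)
      rwa [inv_mul_cancel_left] at this
    exact mul_mem hd (h.norm_B j ⟨h2, hn⟩)
  have hZ : ¬ R ≤ centralizer (zc B : Set G) := by rw [h.bg.fr.zcB]; exact hD
  obtain ⟨L', V', hb, hV, h1, h2⟩ := h.blk j R hRY hR (h.syl_of hR.le hRY) (h.char2_of hR.le hRY) hK hZ
  obtain ⟨rfl, -⟩ := h.blk_of hb hV (h1.trans hRY)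
  exact ⟨L', hb, h1, h2⟩

/-- **`Y_j = ⟨D, L_j⟩`** -/
theorem Y_le (j : Fin k) : YY z j ≤ centralizer (ZJ : Set G) ⊔ L j := by
  refine MinSimple.MinParabolic.le_of_forall (h.B_le j) ((h.norm_B j).trans le_sup_left) fun R hR hRY => ?_
  by_cases hD : R ≤ centralizer (ZJ : Set G)
  · exact hD.trans le_sup_left
  obtain ⟨L', hb, h1, h2⟩ := h.par_blk hR hRY hD
  refine h2.trans (sup_le ?_ (h.B_le_D.trans le_sup_left))
  rw [sup_comm]
  exact (h.blk_of hb (h.bg.fr.WV j) (h1.trans hRY)).2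

theorem Y_eq (j : Fin k) : YY z j = centralizer (ZJ : Set G) ⊔ L j :=
  le_antisymm (h.Y_le j) (sup_le (h.D_le j) (h.L_le j))

end Fr

end Cfsg.Agent.Omega.EK3
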