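import Cfsg.Agent.Omega.EK3.ClQ

/-!
# LEMMA G' of THEOREM K3 (bb #22123 (2)), any `q`, in POINT form

`Z l` the points, `D ≤ Y j`, `D` normalises all `Z l`, `Y j` normalises the `Z l`, `l ≠ j`, and contains
`C_G(Z_l : l ≠ j)`; `N j = ⟨Z_j^(Y j)⟩`; `gen` : every `K ⊴ Y j` centralising the `Z l`, `l ≠ j`, and moving the point
`Z j` has `Y j = K D` (UNI+).  (So both `Y j = C_G(Z_l : l ≠ j)`, `D = C_G(Z_l : l)` and `Y j = ⋂ N_G(Z_l)`,
`D = ⋂ N_G(Z_l)` are allowed.)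

Then for `K ⊴ Y j` with `K ≤ C(V i)`, `K ≤ C(Z l)` (`l ≠ j`), moving `Z j`, `i ≠ j` : `L i` normalises `N j`
(`L i` normalises `V i ≥ Z i`, centralises the `Z l`, `l ≠ i`).
-/

set_option autoImplicit false

namespace Cfsg.Agent.Omega.EK3.Q

open Subgroup Cfsg Cfsg.Agent.ZN.ChoiceBase
open Cfsg.Agent.ZN (jj zj bau zc zl o2)

variable {G : Type*} [Group G] {ι : Type*}

/-- the family of the groups `Y j` -/
structure Fam (D : Subgroup G) (Y Z N : ι → Subgroup G) : Prop where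
  DY : ∀ j, D ≤ Y j
  DZ : ∀ l, D ≤ normalizer (Z l : Set G)
  YZ : ∀ j l, l ≠ j → Y j ≤ normalizer (Z l : Set G)
  /-- `C_G(Z_l : l ≠ j) ≤ Y j` -/
  mem_Y : ∀ j x, (∀ l, l ≠ j → ∀ z ∈ Z l, x * z = z * x) → x ∈ Y j
  cl : ∀ j, IsCl (Z j) (Y j) (N j)
  /-- `K ⊴ Y j` moving the point `Z j` : `Y j = K D` -/
  gen : ∀ (j : ι) (K : Subgroup G), K ≤ Y j → (∀ l, l ≠ j → K ≤ centralizer (Z l : Set G)) →
    Y j ≤ normalizer (K : Set G) → ¬ K ≤ normalizer (Z j : Set G) → ∀ y ∈ Y j, ∃ k ∈ K, ∃ d ∈ D, y = k * d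

/-- `C_G(Z_l : l ≠ j)`, `C_G(Z_l : l)` -/
theorem Fam.of_cent {D : Subgroup G} {Y Z N : ι → Subgroup G}
    (mem_Y : ∀ j x, x ∈ Y j ↔ ∀ l, l ≠ j → ∀ z ∈ Z l, x * z = z * x)
    (mem_D : ∀ x, x ∈ D ↔ ∀ l, ∀ z ∈ Z l, x * z = z * x)
    (cl : ∀ j, IsCl (Z j) (Y j) (N j))
    (gen : ∀ (j : ι) (K : Subgroup G), K ≤ Y j → Y j ≤ normalizer (K : Set G) →
      ¬ K ≤ centralizer (Z j : Set G) → ∀ y ∈ Y j, ∃ k ∈ K, ∃ d ∈ D, y = k * d) : Fam D Y Z N where
  DY := fun j x hx => (mem_Y j x).2 fun l _ => (mem_D x).1 hx l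
  DZ := fun l x hx => centralizer_le_normalizer _ (mem_centralizer_iff.2 fun z hz => ((mem_D x).1 hx l z hz).symm)
  YZ := fun j l hl x hx => centralizer_le_normalizer _ (mem_centralizer_iff.2 fun z hz =>
    ((mem_Y j x).1 hx l hl z hz).symm)
  mem_Y := fun j x => (mem_Y j x).2
  cl := cl
  gen := fun j K h1 _ h2 h3 => gen j K h1 h2 fun h4 => h3 (h4.trans (centralizer_le_normalizer _))

namespace Fam

variable {D : Subgroup G} {Y Z N : ι → Subgroup G} (h : Fam D Y Z N)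
include h

/-- `K ⊴ Y j` moving the point `Z j` -/
theorem N_eq {j : ι} {K : Subgroup G} (hKY : K ≤ Y j) (hKc : ∀ l, l ≠ j → K ≤ centralizer (Z l : Set G))
    (hn : Y j ≤ normalizer (K : Set G)) (hK : ¬ K ≤ normalizer (Z j : Set G)) : N j = cls (Z j) K := by
  rw [(h.cl j).eq_cls]
  refine cls_eq_of_factor hKY fun y hy => ?_
  obtain ⟨k, hk, d, hd, e⟩ := h.gen j K hKY hKc hn hK y hy
  exact ⟨k, hk, d, h.DZ j hd, e⟩

/-- `N j = ⟨Z_j^C⟩` for every `C` between `K` and `Y j` -/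
theorem N_eq' {j : ι} {K C : Subgroup G} (hKY : K ≤ Y j) (hKc : ∀ l, l ≠ j → K ≤ centralizer (Z l : Set G))
    (hn : Y j ≤ normalizer (K : Set G)) (hK : ¬ K ≤ normalizer (Z j : Set G)) (hKC : K ≤ C) (hCY : C ≤ Y j) :
    N j = cls (Z j) C := by
  refine le_antisymm ?_ ?_
  · rw [h.N_eq hKY hKc hn hK]
    exact cls_le fun k hk => cj_le_cls (hKC hk)
  · rw [(h.cl j).eq_cls]
    exact cls_le fun k hk => cj_le_cls (hCY hk)

/-- **LEMMA G'** (#22123 (2)) -/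
theorem gLem {V L : Subgroup G} {i j : ι} (hij : i ≠ j) (ZV : Z i ≤ V) (LV : L ≤ normalizer (V : Set G))
    (LZ : ∀ l, l ≠ i → L ≤ centralizer (Z l : Set G)) {K : Subgroup G} (hKY : K ≤ Y j)
    (hKc : ∀ l, l ≠ j → K ≤ centralizer (Z l : Set G)) (hn : Y j ≤ normalizer (K : Set G))
    (hKV : K ≤ centralizer (V : Set G)) (hK : ¬ K ≤ normalizer (Z j : Set G)) :
    L ≤ normalizer (N j : Set G) := by
  set C : Subgroup G := (⨅ l : {l // l ≠ j}, centralizer (Z l : Set G)) ⊓ centralizer (V : Set G) with hC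
  have memC : ∀ x, x ∈ C ↔ (∀ l, l ≠ j → x ∈ centralizer (Z l : Set G)) ∧ x ∈ centralizer (V : Set G) := by
    intro x
    rw [hC, mem_inf, mem_iInf]
    exact and_congr_left fun _ => ⟨fun h l hl => h ⟨l, hl⟩, fun h l => h l.1 l.2⟩
  have hKC : K ≤ C := fun k hk => (memC k).2 ⟨fun l hl => hKc l hl hk, hKV hk⟩
  have hCY : C ≤ Y j := fun x hx => h.mem_Y j x fun l hl z hz =>
    (mem_centralizer_iff.1 (((memC x).1 hx).1 l hl) z hz).symm
  rw [h.N_eq' hKY hKc hn hK hKC hCY]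
  refine cls_norm (fun l hl => ?_) ((LZ j hij.symm).trans (centralizer_le_normalizer _))
  have key : ∀ l ∈ L, ∀ x ∈ C, l * x * l⁻¹ ∈ C := by
    intro l hl x hx
    have conj : ∀ {W : Subgroup G}, L ≤ normalizer (W : Set G) → x ∈ centralizer (W : Set G) →
        l * x * l⁻¹ ∈ centralizer (W : Set G) := by
      intro W hW hxW
      have h3 : cj l (centralizer (W : Set G)) = centralizer (W : Set G) := by
        rw [cj_centralizer, cj_eq_of_mem_normalizer (hW hl)]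
      rw [← h3, mem_cj]
      have e : l⁻¹ * (l * x * l⁻¹) * l = x := by group
      rwa [e]
    have h1 : l * x * l⁻¹ ∈ centralizer (V : Set G) := conj LV ((memC x).1 hx).2
    refine (memC _).2 ⟨fun m hm => ?_, h1⟩
    by_cases hmi : m = i
    · subst hmi
      exact centralizer_le ZV h1
    · exact conj ((LZ m hmi).trans (centralizer_le_normalizer _)) (((memC x).1 hx).1 m hm)
  refine mem_normalizer_of_cj_le_iff (key l hl) fun x hx => ?_
  have := key _ (inv_mem hl) x hx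
  rwa [inv_inv] at this

end Fam

end Cfsg.Agent.Omega.EK3.Q
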