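import Cfsg.Agent.Omega.EK3.InstQ
import Cfsg.Agent.Omega.ML.Final

/-!
# Row (8) (TEXT K3Q, bb #22703): (2') and (NO) over `FrQ`

`T` a Sylow 2-subgroup of `Y_j` over `B`, `m ∈ C_{Z_j}(T)`, `m ≠ 1`; `K ⊴ Y_j` with a 2-element moving `N_j`.

* `FrQ.gen_tr` : **(2')** `K` is transitive on `W_j - 1`: every `v ∈ W_j - 1` is `k m k⁻¹`;
* `FrQ.gen_mul` : `Y_j = K C_{Y_j}(m)`;  `FrQ.N_eq` : `N_j = ⟨m^K⟩`;
* `FrQ.gLem` : if moreover `K ≤ C(W_i)`, `i ≠ j`, then `L_i` normalises `N_j`;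
* `FrQ.no` : **(NO)** for `A ≤ O₂(C_{Y_j}(m))`, `FrQ.no_D` for `A ≤ O₂(D)`;
* `FrQ.K_eq`, `FrQ.nonloc` : case (E): `⟨D, L_1, .., L_k⟩` normalises no nontrivial 2-group.
-/

set_option autoImplicit false
set_option linter.unusedVariables false
set_option linter.unusedSectionVars false

namespace Cfsg.Agent.Omega.EK3.QI

open Subgroup Cfsg Cfsg.Agent.ZN.ChoiceBase Cfsg.Agent.Omega.EK3.Q
open Cfsg.Agent.ZN (jj zj bau zc zl o2)
open Cfsg.Agent.ZN.ChoiceSit (Syl exists_syl syl_conj isPGroup_o2 le_o2 le_normalizer_o2 o2_le_syl syl_not_dvd)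
open Cfsg.Agent.MinSimple.MinParabolic (IsMinPar)
open Cfsg.Agent.Omega
open Cfsg.Agent.Omega.OM
open Cfsg.Agent.Omega.OM.Uni (FB Fr)
open Cfsg.Agent.Omega.OM.UniPlus (NB)
open Cfsg.Agent.Omega.NO3S.EThree.Frame
open Cfsg.Agent.Omega.NO3S.EMany
open Cfsg.Agent.Omega.Node.MultiOf (UniTwo FBl KZ NLoc)
open Cfsg.Agent.Omega.ML.Final (MLK)

universe u

variable {G : Type u} [Group G]

/-- `⟨m^K⟩` -/
def ocl (m : G) (K : Subgroup G) : Subgroup G := closure {x | ∃ k ∈ K, k * m * k⁻¹ = x}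

theorem mem_ocl {m k : G} {K : Subgroup G} (hk : k ∈ K) : k * m * k⁻¹ ∈ ocl m K := subset_closure ⟨k, hk, rfl⟩

theorem ocl_le {m : G} {K X : Subgroup G} (h : ∀ k ∈ K, k * m * k⁻¹ ∈ X) : ocl m K ≤ X := by
  refine (closure_le _).2 ?_
  rintro _ ⟨k, hk, rfl⟩
  exact h k hk

theorem ocl_mono {m : G} {K K' : Subgroup G} (h : K ≤ K') : ocl m K ≤ ocl m K' := ocl_le fun _ hk => mem_ocl (h hk)

theorem ocl_norm {m : G} {K R : Subgroup G} (hR : R ≤ normalizer (K : Set G)) (hm : R ≤ centralizer ({m} : Set G)) :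
    R ≤ normalizer (ocl m K : Set G) := by
  refine ML.MinFrame.le_normalizer_of fun r hr x hx => ?_
  have h1 : ocl m K ≤ cj r⁻¹ (ocl m K) := by
    refine ocl_le fun k hk => ?_
    rw [mem_cj, inv_inv]
    have h2 := mem_centralizer_singleton_iff.1 (hm hr)
    have e : r * (k * m * k⁻¹) * r⁻¹ = (r * k * r⁻¹) * (r * m * r⁻¹) * (r * k * r⁻¹)⁻¹ := by group
    have e2 : r * m * r⁻¹ = m := by rw [h2]; group
    rw [e, e2]
    exact mem_ocl ((mem_normalizer_iff.1 (hR hr) k).1 hk)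
  have h2 := h1 hx
  rw [mem_cj, inv_inv] at h2
  exact h2

namespace FrQ

variable [Finite G] {S : Sylow 2 G} {P K₀ B ZJ : Subgroup G} {k : ℕ} {L W Z C : Fin k → Subgroup G} {q : ℕ}
  (h : FrQ S P K₀ B ZJ L W Z C q)
include h

section gen

variable {j : Fin k} {T : Subgroup G} (hT : Syl T (YY Z j)) (hBT : B ≤ T) {K : Subgroup G} (hKY : K ≤ YY Z j)
  (hKn : YY Z j ≤ normalizer (K : Set G)) (hmv : ∃ a ∈ K, (∃ n : ℕ, a ^ 2 ^ n = 1) ∧ ∃ w ∈ NN Z j, a * w ≠ w * a)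
include hT hBT hKY hKn hmv

/-- some minimal parabolic over `T` in `K T` moves `Z_j` -/
theorem exists_par : ∃ L' : Subgroup G, L' ≤ K ⊔ T ∧ NB B L' (W j) (Z j) q := by
  by_contra hcon
  -- `K ≤ N(Z_j)`
  have hKZ : K ≤ normalizer (Z j : Set G) := by
    refine le_trans (le_sup_left : K ≤ K ⊔ T) ?_
    refine MinSimple.MinParabolic.le_of_forall le_sup_right ?_ fun R hR hRX => ?_
    · rintro n ⟨hn, hnT⟩
      refine (h.norm_B j ((sup_le hKY hT.1) hn) ?_ j).1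
      rw [mem_normalizer_iff_cj]
      refine h.bg.wc T hT.2.1 hBT n ?_
      rw [← mem_normalizer_iff_cj.1 hnT]
      exact cj_mono n hBT
    · rcases h.par hT hBT hR (hRX.trans (sup_le hKY hT.1)) with h1 | ⟨L', h1, -, h2, -⟩
      · exact h1
      · exact absurd ⟨L', h1.trans hRX, h2⟩ hcon
  -- `K` normalises `W_j`
  have hLK : ∀ l ∈ L j, ∀ r ∈ K, l * r * l⁻¹ ∈ K := fun l hl r hr => (mem_normalizer_iff.1 (hKn (h.L_le j hl)) r).1 hr
  have hKW : ∀ r ∈ K, ∀ v ∈ W j, r * v * r⁻¹ ∈ W j := by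
    obtain ⟨k, hk, hne⟩ := AltQ.exists_ne (FourQ.nb h.bg j)
    have h1 : K ≤ normalizer (W j : Set G) := by
      intro a haR
      have h1 : a ∈ normalizer ((cj k (Z j) : Subgroup G) : Set G) := by
        have h2 : k⁻¹ * a * k ∈ normalizer (Z j : Set G) := hKZ ((mem_normalizer_iff''.1 (hKn (h.L_le j hk)) a).1 haR)
        rw [← cj_normalizer, mem_cj]
        exact h2
      rw [mem_normalizer_iff_cj, ← AltQ.sup_eq (FourQ.nb h.bg j) hk hne]
      rw [show cj a (Z j ⊔ cj k (Z j)) = cj a (Z j) ⊔ cj a (cj k (Z j)) from Subgroup.map_sup _ _ _,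
        mem_normalizer_iff_cj.1 h1, mem_normalizer_iff_cj.1 (hKZ haR)]
    exact fun r hr v hv => (mem_normalizer_iff.1 (h1 hr) v).1 hv
  -- 2-elements centralise `Z_j`
  have h2el : ∀ a ∈ K, (∃ n : ℕ, a ^ 2 ^ n = 1) → ∀ z ∈ Z j, a * z * a⁻¹ = z := fun a ha ⟨n, hn⟩ z hz =>
    AltQ.triv (FourQ.nb h.bg j) hLK hKW (FourQ.rt h.bg j)
      (fun r hr z hz => (mem_normalizer_iff.1 (hKZ hr) z).1 hz) ha hn ((h.bg.fr.blk j).ZV hz)
  obtain ⟨a, haK, ⟨n, hn⟩, w, hw, hne⟩ := hmv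
  apply hne
  have h1 : NN Z j ≤ centralizer ({a} : Set G) := by
    refine cls_le fun y hy => ?_
    rintro _ ⟨z, hz, rfl⟩
    rw [mem_centralizer_singleton_iff]
    have h3 : y⁻¹ * a * y ∈ K := (mem_normalizer_iff''.1 (hKn hy) a).1 haK
    have h4 : (y⁻¹ * a * y) ^ 2 ^ n = 1 := by
      have h3 : (y⁻¹ * a * y⁻¹⁻¹) ^ 2 ^ n = y⁻¹ * a ^ 2 ^ n * y⁻¹⁻¹ := conj_pow
      rw [inv_inv] at h3
      rw [h3, hn]
      group
    have h5 := h2el _ h3 ⟨n, h4⟩ z hz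
    show y * z * y⁻¹ * a = a * (y * z * y⁻¹)
    calc y * z * y⁻¹ * a = y * z * (y⁻¹ * a * y) * y⁻¹ := by group
      _ = y * (y⁻¹ * a * y * z * (y⁻¹ * a * y)⁻¹) * (y⁻¹ * a * y) * y⁻¹ := by rw [h5]
      _ = a * (y * z * y⁻¹) := by group
  exact (mem_centralizer_singleton_iff.1 (h1 hw)).symm

/-- **(2')**: `W_j - 1 ⊆ m^K`. -/
theorem gen_tr {m : G} (hm : m ∈ Z j) (hm1 : m ≠ 1) (hmT : T ≤ centralizer ({m} : Set G)) {v : G} (hv : v ∈ W j)
    (hv1 : v ≠ 1) : ∃ x ∈ K, x ∈ normalizer (W j : Set G) ∧ x * m * x⁻¹ = v := by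
  obtain ⟨L', hL', hN⟩ := h.exists_par hT hBT hKY hKn hmv
  obtain ⟨l, hl, e⟩ := AltQ.trL hN (FourQ.rt h.bg j) hv hv1 hm hm1
  -- `l = r t`
  obtain ⟨r, hr, t, ht, rfl⟩ : ∃ r ∈ K, ∃ t ∈ T, l = r * t := by
    have h1 : l⁻¹ ∈ T ⊔ K := by rw [sup_comm]; exact inv_mem (hL' hl)
    obtain ⟨t, ht, r, hr, e1⟩ := SQ1.Bau.mem_sup_norm (hT.1.trans hKn) h1
    exact ⟨r⁻¹, inv_mem hr, t⁻¹, inv_mem ht, by rw [← mul_inv_rev, ← e1, inv_inv]⟩
  refine ⟨r, hr, ?_, ?_⟩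
  · have h1 : r * t ∈ normalizer (W j : Set G) :=
      ML.MinFrame.le_normalizer_of (R := L') (fun g hg x hx => hN.nV g hg x hx) hl
    have h2 := mul_mem h1 (inv_mem (h.T_W hT hBT j ht))
    rwa [mul_inv_cancel_right] at h2
  · rw [← e]
    have h1 : t * m * t⁻¹ = m := by
      rw [mem_centralizer_singleton_iff.1 (hmT ht)]; group
    calc r * m * r⁻¹ = r * (t * m * t⁻¹) * r⁻¹ := by rw [h1]
      _ = r * t * m * (r * t)⁻¹ := by group

/-- **(2')**: `Y_j = K C_{Y_j}(m)`. -/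
theorem gen_mul {m : G} (hm : m ∈ Z j) (hm1 : m ≠ 1) (hmT : T ≤ centralizer ({m} : Set G)) {y : G}
    (hy : y ∈ YY Z j) : ∃ x ∈ K, ∃ d ∈ YY Z j ⊓ centralizer ({m} : Set G), y = x * d := by
  -- the elements `y` with `m^y ∈ m^K`
  let X : Subgroup G :=
    { carrier := {y | y ∈ YY Z j ∧ ∃ x ∈ K, y * m * y⁻¹ = x * m * x⁻¹}
      one_mem' := ⟨one_mem _, 1, one_mem _, by group⟩
      mul_mem' := by
        rintro a b ⟨ha, x, hx, ea⟩ ⟨hb, y, hy, eb⟩
        refine ⟨mul_mem ha hb, a * y * a⁻¹ * x, mul_mem ((mem_normalizer_iff.1 (hKn ha) y).1 hy) hx, ?_⟩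
        calc a * b * m * (a * b)⁻¹ = a * (b * m * b⁻¹) * a⁻¹ := by group
          _ = a * y * a⁻¹ * (a * m * a⁻¹) * (a * y * a⁻¹)⁻¹ := by rw [eb]; group
          _ = a * y * a⁻¹ * x * m * (a * y * a⁻¹ * x)⁻¹ := by rw [ea]; group
      inv_mem' := by
        rintro a ⟨ha, x, hx, ea⟩
        refine ⟨inv_mem ha, a⁻¹ * x⁻¹ * a, ?_, ?_⟩
        · exact (mem_normalizer_iff''.1 (hKn ha) _).1 (inv_mem hx)
        · have e1 : x⁻¹ * (a * m * a⁻¹) * x = m := by rw [ea]; group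
          calc a⁻¹ * m * a⁻¹⁻¹ = a⁻¹ * (x⁻¹ * (a * m * a⁻¹) * x) * a := by rw [e1]; group
            _ = a⁻¹ * x⁻¹ * a * m * (a⁻¹ * x⁻¹ * a)⁻¹ := by group }
  have hXW : ∀ y ∈ YY Z j, y * m * y⁻¹ ∈ W j → y ∈ X := by
    intro y hy hyW
    obtain ⟨x, hx, -, e⟩ := h.gen_tr hT hBT hKY hKn hmv hm hm1 hmT hyW fun e => hm1 (conj_eq_one_iff.1 e)
    exact ⟨hy, x, hx, e.symm⟩
  have hX : YY Z j ≤ X := by
    refine MinSimple.MinParabolic.le_of_forall hT.1 ?_ fun R hR hRY => ?_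
    · rintro n ⟨hn, hnT⟩
      have hnB : n ∈ normalizer (B : Set G) := by
        rw [mem_normalizer_iff_cj]
        refine h.bg.wc T hT.2.1 hBT n ?_
        rw [← mem_normalizer_iff_cj.1 hnT]
        exact cj_mono n hBT
      exact hXW n hn ((h.bg.fr.blk j).ZV ((mem_normalizer_iff.1 (h.norm_B j hn hnB j).1 m).1 hm))
    · rcases h.par hT hBT hR hRY with h1 | ⟨L', h1, h2, h3, -⟩
      · exact fun r hr => hXW r (hRY hr) ((h.bg.fr.blk j).ZV ((mem_normalizer_iff.1 (h1 hr) m).1 hm))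
      · refine h2.trans (sup_le (fun l hl => hXW l (hRY (h1 hl)) (h3.nV l hl m (h3.ZV hm))) fun t ht => ?_)
        exact hXW t (hT.1 ht) ((h.bg.fr.blk j).ZV ((mem_normalizer_iff.1 (h.T_Z hT hBT j ht) m).1 hm))
  obtain ⟨-, x, hx, e⟩ := hX hy
  refine ⟨x, hx, x⁻¹ * y, mem_inf.2 ⟨mul_mem (inv_mem (hKY hx)) hy, ?_⟩, by group⟩
  rw [mem_centralizer_singleton_iff]
  have e2 : x⁻¹ * y * m * (x⁻¹ * y)⁻¹ = m := by
    calc x⁻¹ * y * m * (x⁻¹ * y)⁻¹ = x⁻¹ * (y * m * y⁻¹) * x := by group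
      _ = m := by rw [e]; group
  exact mul_inv_eq_iff_eq_mul.1 e2

/-- **(2')**: `N_j = ⟨m^K⟩`. -/
theorem N_eq {m : G} (hm : m ∈ Z j) (hm1 : m ≠ 1) (hmT : T ≤ centralizer ({m} : Set G)) : NN Z j = ocl m K := by
  apply le_antisymm
  · refine cls_le fun y hy => ?_
    rintro _ ⟨z, hz, rfl⟩
    show y * z * y⁻¹ ∈ ocl m K
    by_cases hz1 : z = 1
    · rw [hz1]; simp
    obtain ⟨x, hx, -, e⟩ := h.gen_tr hT hBT hKY hKn hmv hm hm1 hmT ((h.bg.fr.blk j).ZV hz) hz1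
    obtain ⟨x', hx', d, hd, e'⟩ := h.gen_mul hT hBT hKY hKn hmv hm hm1 hmT (mul_mem hy (hKY hx))
    have h1 : d * m * d⁻¹ = m := by rw [mem_centralizer_singleton_iff.1 hd.2]; group
    have e2 : y * z * y⁻¹ = x' * m * x'⁻¹ := by
      calc y * z * y⁻¹ = (y * x) * m * (y * x)⁻¹ := by rw [← e]; group
        _ = x' * (d * m * d⁻¹) * x'⁻¹ := by rw [e']; group
        _ = x' * m * x'⁻¹ := by rw [h1]
    rw [e2]
    exact mem_ocl hx'
  · refine ocl_le fun x hx => ?_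
    exact (mem_normalizer_iff.1 (h.N_norm j (hKY hx)) m).1 (h.Z_le_N j hm)

/-- `N_j = ⟨m^C⟩` for `K ≤ C ≤ Y_j`. -/
theorem N_eq' {m : G} (hm : m ∈ Z j) (hm1 : m ≠ 1) (hmT : T ≤ centralizer ({m} : Set G)) {C' : Subgroup G}
    (hKC : K ≤ C') (hCY : C' ≤ YY Z j) : NN Z j = ocl m C' := by
  apply le_antisymm
  · rw [h.N_eq hT hBT hKY hKn hmv hm hm1 hmT]
    exact ocl_mono hKC
  · refine ocl_le fun x hx => ?_
    exact (mem_normalizer_iff.1 (h.N_norm j (hCY hx)) m).1 (h.Z_le_N j hm)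

/-- `N_j = ⟨Z_j^K⟩` -/
theorem N_eq_cls : NN Z j = cls (Z j) K := by
  obtain ⟨m, hm, hm1, hmT⟩ := h.exists_m hT hBT
  apply le_antisymm
  · rw [h.N_eq hT hBT hKY hKn hmv hm hm1 hmT]
    exact ocl_le fun x hx => cj_le_cls hx ⟨m, hm, rfl⟩
  · exact cls_le fun y hy => cj_le_cls (hKY hy)

/-- **LEMMA G'**: `K ≤ C(W_i)`, `i ≠ j`: `L_i` normalises `N_j`; more generally every `X ≤ N(W_i)` which centralises
`m` and the `Z_l`, `l ≠ i, j`. -/
theorem gLem {i : Fin k} (hij : i ≠ j) (hKW : K ≤ centralizer (W i : Set G)) {X : Subgroup G}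
    (hXW : X ≤ normalizer (W i : Set G)) (hXZ : ∀ l, l ≠ i → l ≠ j → X ≤ centralizer (Z l : Set G))
    {m : G} (hm : m ∈ Z j) (hm1 : m ≠ 1) (hmT : T ≤ centralizer ({m} : Set G)) (hXm : X ≤ centralizer ({m} : Set G)) :
    X ≤ normalizer (NN Z j : Set G) := by
  rw [h.N_eq' hT hBT hKY hKn hmv hm hm1 hmT (C' := YY Z j ⊓ centralizer (W i : Set G)) (le_inf hKY hKW) inf_le_left]
  refine ocl_norm ?_ hXm
  have hC : YY Z j ⊓ centralizer (W i : Set G) =
      (⨅ l : {l : Fin k // l ≠ i ∧ l ≠ j}, centralizer (Z l : Set G)) ⊓ centralizer (W i : Set G) := by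
    ext x
    rw [mem_inf, mem_inf, mem_YY, mem_iInf]
    constructor
    · rintro ⟨h1, h2⟩
      exact ⟨fun l => mem_centralizer_iff.2 fun z hz => (h1 l l.2.2 z hz).symm, h2⟩
    · rintro ⟨h1, h2⟩
      refine ⟨fun l hl z hz => ?_, h2⟩
      by_cases hli : l = i
      · subst hli
        exact (mem_centralizer_iff.1 h2 z ((h.bg.fr.blk l).ZV hz)).symm
      · exact (mem_centralizer_iff.1 (h1 ⟨l, hli, hl⟩) z hz).symm
  rw [hC]
  intro x hx
  rw [mem_normalizer_iff_cj, cj_inf, cj_centralizer, mem_normalizer_iff_cj.1 (hXW hx)]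
  congr 1
  have h3 : ∀ l : {l : Fin k // l ≠ i ∧ l ≠ j}, cj x (centralizer (Z l : Set G)) = centralizer (Z l : Set G) := by
    intro l
    rw [cj_centralizer, mem_normalizer_iff_cj.1 (centralizer_le_normalizer _ (hXZ l l.2.1 l.2.2 hx))]
  have hk := h.three
  have h5 : ∀ y : G, (∀ l : {l : Fin k // l ≠ i ∧ l ≠ j}, cj y (centralizer (Z l : Set G)) = centralizer (Z l : Set G)) →
      cj y (⨅ l : {l : Fin k // l ≠ i ∧ l ≠ j}, centralizer (Z l : Set G)) ≤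
        ⨅ l : {l : Fin k // l ≠ i ∧ l ≠ j}, centralizer (Z l : Set G) := fun y hy => le_iInf fun l => by
    rw [← hy l]
    exact cj_mono y (iInf_le _ l)
  apply le_antisymm (h5 x h3)
  have h6 := h5 x⁻¹ fun l => by
    conv_lhs => rw [← h3 l]
    rw [cj_inv_cj]
  have h7 := cj_mono x h6
  rwa [cj_cj, mul_inv_cancel, cj_one] at h7

theorem gLem_L {i : Fin k} (hij : i ≠ j) (hKW : K ≤ centralizer (W i : Set G)) : L i ≤ normalizer (NN Z j : Set G) := by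
  obtain ⟨m, hm, hm1, hmT⟩ := h.exists_m hT hBT
  refine h.gLem hT hBT hKY hKn hmv hij hKW ?_ (fun l hl _ => (h.L_le i).trans (YY_le hl)) hm hm1 hmT ?_
  · exact ML.MinFrame.le_normalizer_of fun g hg x hx => (FourQ.nb h.bg i).nV g hg x hx
  · exact (h.L_le i).trans ((YY_le hij.symm).trans (centralizer_le (Set.singleton_subset_iff.2 hm)))

end gen

/-! ### (NO) -/

/-- `O₂(D) ≤ O₂(C_{Y_j}(m))` -/
theorem o2D_le {j : Fin k} {m : G} (hm : m ∈ Z j) (hm1 : m ≠ 1) :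
    o2 (centralizer (ZJ : Set G)) ≤ o2 (YY Z j ⊓ centralizer ({m} : Set G)) := by
  refine le_o2 (isPGroup_o2 _) ((MinSimple.VModule.o2_le _).trans (le_inf (h.D_le j)
    (centralizer_le (Set.singleton_subset_iff.2 (h.bg.fr.Z_le j hm))))) ?_
  rintro x ⟨hx, hxm⟩
  have h1 : x ∈ normalizer ((centralizer (ZJ : Set G) : Subgroup G) : Set G) := by
    rw [mem_normalizer_iff_cj, cj_centralizer, mem_normalizer_iff_cj.1 (h.norm_ZJ' j hx (h.cent_m hm hm1 hxm))]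
  rw [mem_normalizer_iff_cj, ← pCore_cj, mem_normalizer_iff_cj.1 h1]

/-- **(NO)** -/
theorem no (hML : MLK.{u, u}) {j : Fin k} {T : Subgroup G} (hT : Syl T (YY Z j)) (hBT : B ≤ T) {m : G} (hm : m ∈ Z j)
    (hm1 : m ≠ 1) (hmT : T ≤ centralizer ({m} : Set G)) (hK : IsKGroup (YY Z j)) {A : Subgroup G}
    (hA : A ≤ o2 (YY Z j ⊓ centralizer ({m} : Set G))) (hA2 : ∀ a ∈ A, a ^ 2 = 1) :
    (centralizer (NN Z j : Set G)).relIndex A ≤ (centralizer (A : Set G)).relIndex (NN Z j) := by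
  have hmain : (A ⊓ centralizer (NN Z j : Set G)).relIndex A ≤
      (NN Z j ⊓ centralizer (A : Set G)).relIndex (NN Z j) := by
    refine hML.grp (C := YY Z j) (W := NN Z j) (Y := ⊥) (T := T)
      (Q := o2 (YY Z j ⊓ centralizer ({m} : Set G))) (A := A) (w := m) hK
      { nW := h.N_norm j
        nY := fun x _ => by
          rw [mem_normalizer_iff]
          intro y
          rw [mem_bot, mem_bot, conj_eq_one_iff]
        YW := bot_le
        WY := fun x _ => by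
          rw [mem_normalizer_iff]
          intro y
          rw [mem_bot, mem_bot, conj_eq_one_iff]
        sq := fun x hx => by
          rw [mem_bot, ← pow_two]
          exact h.NN_sq j hx
        mem := h.Z_le_N j hm
        gen := fun U hmU _ hU => by
          refine cls_min (fun z hz => ?_) hU
          by_cases hz1 : z = 1
          · rw [hz1]; exact one_mem _
          obtain ⟨l, hl, e⟩ := AltQ.trL (FourQ.nb h.bg j) (FourQ.rt h.bg j) ((h.bg.fr.blk j).ZV hz) hz1 hm hm1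
          rw [← e]
          exact (mem_normalizer_iff.1 (hU (h.L_le j hl)) m).1 hmU
        TC := hT.1
        two := hT.2.1
        odd := syl_not_dvd hT
        fixT := fun t ht => by
          rw [mem_bot, mem_centralizer_singleton_iff.1 (hmT ht)]; group
        QC := (MinSimple.VModule.o2_le _).trans inf_le_left
        Q2 := isPGroup_o2 _
        fixQ := fun x hx => by
          rw [mem_bot, mem_centralizer_singleton_iff.1 (MinSimple.VModule.o2_le _ hx).2]; group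
        nrmQ := fun g hg hgm x hx => by
          rw [mem_bot, mul_inv_eq_one] at hgm
          have h1 : g ∈ YY Z j ⊓ centralizer ({m} : Set G) := by
            refine mem_inf.2 ⟨hg, ?_⟩
            rw [mem_centralizer_singleton_iff]
            exact mul_inv_eq_iff_eq_mul.1 hgm
          exact (mem_normalizer_iff.1 (le_normalizer_o2 _ h1) x).1 hx
        AQ := hA
        Asq := fun a ha x hx => by
          have h1 := hA2 a ha
          rw [mem_bot]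
          calc a * (a * x * a⁻¹) * a⁻¹ * x⁻¹ = a ^ 2 * x * (a ^ 2)⁻¹ * x⁻¹ := by rw [pow_two]; group
            _ = 1 := by rw [h1]; group } ?_ ?_
    · intro a
      rw [mem_inf]
      refine and_congr_right fun ha => ?_
      rw [mem_centralizer_iff]
      refine forall₂_congr fun x hx => ?_
      rw [mem_bot, mul_inv_eq_one, mul_inv_eq_iff_eq_mul, eq_comm]
    · intro x
      rw [mem_inf]
      refine and_congr_right fun hx => ?_
      rw [mem_centralizer_iff]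
      refine forall₂_congr fun a ha => ?_
      rw [mem_bot, mul_inv_eq_one, mul_inv_eq_iff_eq_mul]
  rwa [inf_relIndex_left, inf_relIndex_left] at hmain

/-- **(NO)** for `A ≤ O₂(D)` -/
theorem no_D (hML : MLK.{u, u}) {j : Fin k} (hK : IsKGroup (YY Z j)) {A : Subgroup G}
    (hA : A ≤ o2 (centralizer (ZJ : Set G))) (hA2 : ∀ a ∈ A, a ^ 2 = 1) :
    (centralizer (NN Z j : Set G)).relIndex A ≤ (centralizer (A : Set G)).relIndex (NN Z j) := by
  obtain ⟨T, hT, hBT⟩ := h.exists_T j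
  obtain ⟨m, hm, hm1, hmT⟩ := h.exists_m hT hBT
  exact h.no hML hT hBT hm hm1 hmT hK (hA.trans (h.o2D_le hm hm1)) hA2

/-! ### (E) -/

theorem K_eq : KZ B ZJ = centralizer (ZJ : Set G) ⊔ ⨆ i, L i := by
  apply le_antisymm
  · refine sup_le le_sup_left (iSup_le ?_)
    rintro ⟨⟨L', V'⟩, hb⟩
    obtain ⟨i, -, hle⟩ := h.uni L' V' hb
    refine hle.trans (sup_le (le_sup_of_le_right (le_iSup L i)) (le_sup_of_le_left (centralizer_le ?_)))
    exact_mod_cast (le_sup_right : ZJ ≤ W i ⊔ ZJ)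
  · refine sup_le le_sup_left (iSup_le fun i => ?_)
    exact LevD.blk_le_K0 (V := W i) ⟨⟨_, _, h.bg.fr.blk i⟩, h.bg.block i⟩

/-- **(E)** -/
theorem nonloc (hE : NLoc (KZ B ZJ)) {R : Subgroup G} (hR : IsPGroup 2 R)
    (hD : centralizer (ZJ : Set G) ≤ normalizer (R : Set G)) (hL : ∀ i, L i ≤ normalizer (R : Set G)) : R = ⊥ := by
  rw [h.K_eq] at hE
  exact hE R hR (sup_le hD (iSup_le hL))

end FrQ

end Cfsg.Agent.Omega.EK3.QI
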