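import Cfsg.Agent.Omega.EK3.Star
import Cfsg.Agent.Omega.NO3S.EThree.FrameG
import Cfsg.Agent.MinSimple.MinParabolic

/-!
# EK3: NO-3S, case (E), `k ≥ 3`, `q = 2`: the two vectors (bb #22451 (B2), #23133 (s5); helper712)

Over `Frame.Bg S P B ZJ L W Z C 2`: `Y = C_G(z l : l ≠ j)`, `Zᶜ = ⟨Z l : l ≠ j⟩`, `M = N / Zᶜ` with
`N = ⟨(W i)^Y⟩ (N j) Zᶜ`, the vectors `x = z j`, `p ∈ W i - Z i`.

* `coset` : `B` of odd index in `Y`, `[B, p] ≤ Z₀ ≤ Zᶜ ≤ Z(Y)`, `[c, p] ∈ Zᶜ` ⟹ `[c, p] ∈ Z₀`;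
* `Zs Z j` : `Zᶜ`;  `ZJ_le` : `ZJ ≤ Z j ⊔ Zs Z j`;
* `GT` : the fields of `KL.PlugT.GInT`;  **`gT`** : all of them.
-/

set_option autoImplicit false
set_option linter.unusedSectionVars false
set_option linter.unusedVariables false

namespace Cfsg.Agent.Omega.EK3.Two

open Subgroup Cfsg Cfsg.Agent.ZN.ChoiceBase
open Cfsg.Agent.ZN (zc zl o2)
open Cfsg.Agent.ZN.ChoiceSit (Syl syl_not_dvd)
open Cfsg.Agent.Omega.NO3S.EThree.Frame
open Cfsg.Agent.MinSimple.MinParabolic (IsMinPar)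
open Cfsg.Agent.Omega.EK3.Star (le_cent cent_symm el_mono)

universe u

variable {G : Type u} [Group G]

/-! ### The coset lemma -/

theorem coset [Finite G] {B Y Zc Z₀ : Subgroup G} (hBY : B ≤ Y) (hodd : ¬ 2 ∣ B.relIndex Y)
    (hZ2 : IsPGroup 2 Zc) (hYZ : ∀ c ∈ Y, ∀ z ∈ Zc, c * z = z * c) (hZY : Zc ≤ Y) (h0 : Z₀ ≤ Zc) {p : G}
    (hB : ∀ b ∈ B, b * p * b⁻¹ * p⁻¹ ∈ Z₀) {c : G} (hc : c ∈ Y) (hcp : c * p * c⁻¹ * p⁻¹ ∈ Zc) :
    c * p * c⁻¹ * p⁻¹ ∈ Z₀ := by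
  classical
  have hmul : ∀ a ∈ Y, ∀ b : G, b * p * b⁻¹ * p⁻¹ ∈ Zc →
      a * b * p * (a * b)⁻¹ * p⁻¹ = (b * p * b⁻¹ * p⁻¹) * (a * p * a⁻¹ * p⁻¹) := by
    intro a ha b hb
    have h1 := hYZ a ha _ hb
    calc a * b * p * (a * b)⁻¹ * p⁻¹ = a * (b * p * b⁻¹ * p⁻¹) * p * a⁻¹ * p⁻¹ := by group
      _ = (b * p * b⁻¹ * p⁻¹) * a * p * a⁻¹ * p⁻¹ := by rw [h1]
      _ = _ := by group
  let H : Subgroup G :=
    { carrier := {c | c ∈ Y ∧ c * p * c⁻¹ * p⁻¹ ∈ Zc}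
      one_mem' := ⟨one_mem _, by simp⟩
      mul_mem' := by
        rintro a b ⟨ha, ha'⟩ ⟨hb, hb'⟩
        refine ⟨mul_mem ha hb, ?_⟩
        rw [hmul a ha b hb']
        exact mul_mem hb' ha'
      inv_mem' := by
        rintro a ⟨ha, ha'⟩
        refine ⟨inv_mem ha, ?_⟩
        have h1 := hYZ a ha _ (inv_mem ha')
        have e : a⁻¹ * p * a⁻¹⁻¹ * p⁻¹ = a⁻¹ * ((a * p * a⁻¹ * p⁻¹)⁻¹ * a) := by group
        rw [e, ← h1]
        have e2 : a⁻¹ * (a * (a * p * a⁻¹ * p⁻¹)⁻¹) = (a * p * a⁻¹ * p⁻¹)⁻¹ := by group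
        rw [e2]
        exact inv_mem ha' }
  let f : H →* G :=
    { toFun := fun c => (c : G) * p * (c : G)⁻¹ * p⁻¹
      map_one' := by simp
      map_mul' := by
        rintro ⟨a, ha⟩ ⟨b, hb⟩
        show a * b * p * (a * b)⁻¹ * p⁻¹ = (a * p * a⁻¹ * p⁻¹) * (b * p * b⁻¹ * p⁻¹)
        rw [hmul a ha.1 b hb.2]
        exact hYZ _ (hZY hb.2) _ ha.2 }
  have hBH : B ≤ H := fun b hb => ⟨hBY hb, h0 (hB b hb)⟩
  have hHY : H ≤ Y := fun b hb => hb.1
  have h1 : (Z₀.comap f).index = Z₀.relIndex f.range := Subgroup.index_comap Z₀ f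
  have h2 : IsPGroup 2 f.range := by
    refine hZ2.to_le ?_
    rintro _ ⟨b, rfl⟩
    exact b.2.2
  obtain ⟨n, hn⟩ := IsPGroup.iff_card.1 h2
  have h3 : (Z₀.comap f).index ∣ 2 ^ n := by
    rw [h1, ← hn]
    exact relIndex_dvd_card _ _
  have h4 : (Z₀.comap f).index ∣ B.relIndex Y := by
    have h5 : B.subgroupOf H ≤ Z₀.comap f := fun b hb => hB b hb
    have h6 : (Z₀.comap f).index ∣ (B.subgroupOf H).index := index_dvd_of_le h5
    have h7 := relIndex_mul_relIndex B H Y hBH hHY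
    exact h6.trans ⟨_, h7.symm⟩
  obtain ⟨m, -, hm⟩ := (Nat.dvd_prime_pow Nat.prime_two).1 h3
  have h5 : (Z₀.comap f).index = 1 := by
    rcases m.eq_zero_or_pos with h6 | h6
    · rw [hm, h6, pow_zero]
    · exact absurd ((dvd_pow_self 2 h6.ne').trans (hm ▸ h4)) hodd
  have h6 : (⟨c, hc, hcp⟩ : H) ∈ Z₀.comap f := by
    rw [index_eq_one.1 h5]
    exact mem_top _
  exact h6

theorem cj_sup' (g : G) (H K : Subgroup G) : cj g (H ⊔ K) = cj g H ⊔ cj g K := Subgroup.map_sup _ _ _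

/-- `⟨x ^ Y⟩` -/
def cl (Y : Subgroup G) (x : G) : Subgroup G := ⨆ y : Y, cj (y : G) (zpowers x)

theorem mem_cl (Y : Subgroup G) (x : G) : x ∈ cl Y x := by
  have h1 := le_iSup (fun y : Y => cj (y : G) (zpowers x)) 1
  rw [OneMemClass.coe_one, cj_one] at h1
  exact h1 (mem_zpowers x)

theorem le_normalizer_cl (Y : Subgroup G) (x : G) : Y ≤ normalizer (cl Y x : Set G) := by
  have key : ∀ y ∈ Y, cj y (cl Y x) ≤ cl Y x := by
    intro y hy
    rw [cj_le_iff]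
    refine iSup_le fun t => ?_
    rw [← cj_le_iff, cj_cj]
    exact le_iSup (fun y : Y => cj (y : G) (zpowers x)) ⟨y * t, mul_mem hy t.2⟩
  intro y hy
  rw [mem_normalizer_iff_cj]
  refine le_antisymm (key y hy) ?_
  have h1 := cj_mono y (key y⁻¹ (inv_mem hy))
  rwa [cj_cj_inv] at h1

/-! ### The centre `Zᶜ` -/

variable {ι : Type}

/-- `⟨Z l : l ≠ j⟩` -/
def Zs (Z : ι → Subgroup G) (j : ι) : Subgroup G := ⨆ l : {l : ι // l ≠ j}, Z l

theorem Z_le_Zs {Z : ι → Subgroup G} {j l : ι} (h : l ≠ j) : Z l ≤ Zs Z j :=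
  le_iSup (fun l : {l : ι // l ≠ j} => Z l) ⟨l, h⟩

section bg

variable [Finite G] [Finite ι] {S : Sylow 2 G} {P B ZJ : Subgroup G} {L W Z C : ι → Subgroup G} {q : ℕ}
  (h : Bg S P B ZJ L W Z C q)
include h

theorem Zs_le_ZJ (j : ι) : Zs Z j ≤ ZJ := iSup_le fun l => h.fr.Z_le l

theorem Zs_le_C (j : ι) : Zs Z j ≤ C j :=
  iSup_le fun l => ((h.fr.blk l).ZV).trans (h.fr.WjC j l l.2.symm)

/-- `Z_J = ∏ Z i` -/
theorem ZJ_le_iSup : ZJ ≤ ⨆ i, Z i := by
  classical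
  have : Fintype ι := Fintype.ofFinite ι
  have key : ∀ s : Finset ι, ∀ v ∈ ZJ, ∃ w ∈ (⨆ i, Z i), w ∈ ZJ ∧ ∀ i ∈ s, w⁻¹ * v ∈ C i := by
    intro s
    induction s using Finset.induction_on with
    | empty => exact fun v _ => ⟨1, one_mem _, one_mem _, fun i hi => by simp at hi⟩
    | insert j s hj ih =>
      intro v hv
      obtain ⟨w, hw, hwV, hwC⟩ := ih v hv
      obtain ⟨a, ha, c, hc, hcZ, e⟩ := h.fr.split_ZJ j (mul_mem (inv_mem hwV) hv)
      refine ⟨w * a, mul_mem hw ((le_iSup Z j) ha), mul_mem hwV (h.fr.Z_le j ha), fun i hi => ?_⟩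
      have e1 : (w * a)⁻¹ * v = a⁻¹ * (w⁻¹ * v) := by group
      rw [e1]
      rcases Finset.mem_insert.1 hi with rfl | hi
      · rw [e]
        have : a⁻¹ * (a * c) = c := by group
        rw [this]
        exact hc
      · have hij : i ≠ j := fun e => hj (e ▸ hi)
        exact mul_mem (inv_mem (h.fr.WjC i j hij ((h.fr.blk j).ZV ha))) (hwC i hi)
  intro v hv
  obtain ⟨w, hw, hwV, hwC⟩ := key Finset.univ v hv
  have h1 := h.fr.C0 (w⁻¹ * v) (mul_mem (inv_mem (h.fr.ZJV hwV)) (h.fr.ZJV hv)) fun i => hwC i (Finset.mem_univ i)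
  have h2 : v = w := (inv_mul_eq_one.1 h1).symm
  rw [h2]
  exact hw

theorem ZJ_le (j : ι) : ZJ ≤ Z j ⊔ Zs Z j := by
  refine (ZJ_le_iSup h).trans (iSup_le fun l => ?_)
  by_cases e : l = j
  · subst e
    exact le_sup_left
  · exact (Z_le_Zs e).trans le_sup_right

end bg

/-! ### The fields -/

/-- The fields of `KL.PlugT.GInT` (helper930). -/
structure GT (T C N Z W Sy A : Subgroup G) (x p : G) : Prop where
  TC : T ≤ C
  two : IsPGroup 2 T
  syl : ¬ 2 ∣ T.relIndex C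
  sq : ∀ n ∈ N, n * n = 1
  CN : C ≤ normalizer (N : Set G)
  ZN : Z ≤ N
  CZ : ∀ c ∈ C, ∀ z ∈ Z, c * z = z * c
  xN : x ∈ N
  pN : p ∈ N
  gen : ∀ U : Subgroup G, x ∈ U → p ∈ U → Z ≤ U → C ≤ normalizer (U : Set G) → N ≤ U
  stx : ∀ c ∈ C, c * x * c⁻¹ * x⁻¹ ∈ Z → c * x = x * c
  sty : ∀ c ∈ C, (c ∈ Sy ↔ c * p * c⁻¹ * p⁻¹ ∈ Z)
  SyC : Sy ≤ C
  x1 : x ∉ Z
  p1 : p ∉ Z
  xp : x * p ∉ Z
  ZW : Z ≤ W
  WN : W ≤ N
  xW : x ∈ W
  cW : Z.relIndex W = 4
  nx : ∀ g ∈ C, g ∈ normalizer (T : Set G) → g * x = x * g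
  ny : C ⊓ normalizer (T : Set G) ≤ Sy
  uni : ∀ R : Subgroup G, IsMinPar T R → R ≤ C → (∃ r ∈ R, r * x ≠ x * r) → R ≤ normalizer (W : Set G) ⊓ Sy
  el : ∀ a ∈ A, a * a = 1
  Ax : A ≤ o2 (C ⊓ centralizer ({x} : Set G))
  Ay : A ≤ o2 Sy
  mv : ¬ A ≤ centralizer (N : Set G)
  ex : (centralizer (A : Set G)).relIndex N ≤ (centralizer (N : Set G)).relIndex A
  cA : ∀ a ∈ A, (∀ c ∈ C, a * (c * x * c⁻¹) = c * x * c⁻¹ * a) → a ∈ centralizer (N : Set G)
  KC : IsKGroup C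

/-- the module -/
def Nn (W Z : ι → Subgroup G) (Y N₀ : Subgroup G) (i j : ι) : Subgroup G :=
  (⨆ y : Y, cj (y : G) (W i)) ⊔ N₀ ⊔ Zs Z j

section main

variable [Finite G] [Finite ι] {S : Sylow 2 G} {P B ZJ : Subgroup G} {L W Z C : ι → Subgroup G}
  (h : Bg S P B ZJ L W Z C 2)
include h

theorem card_W (i : ι) : Nat.card (W i) = 4 := by
  rw [(h.fr.blk i).card, h.fr.cardZ]

theorem Z_index (i : ι) : (Z i).relIndex (W i) = 2 := by
  have h1 := Star.card_mul_relIndex (h.fr.blk i).ZV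
  rw [card_W h, h.fr.cardZ] at h1
  omega

/-- `W i = ⟨p⟩ Z i` -/
theorem mem_or {i : ι} {p w : G} (hp : p ∈ W i) (hpZ : p ∉ Z i) (hw : w ∈ W i) (hwZ : w ∉ Z i) : w * p⁻¹ ∈ Z i := by
  have h1 : ((Z i).subgroupOf (W i)).index = 2 := Z_index h i
  have h2 := Subgroup.mul_mem_iff_of_index_two h1 (a := (⟨w, hw⟩ : W i)) (b := (⟨p⁻¹, inv_mem hp⟩ : W i))
  have h3 : (⟨w, hw⟩ : W i) * ⟨p⁻¹, inv_mem hp⟩ ∈ (Z i).subgroupOf (W i) := by
    rw [h2, mem_subgroupOf, mem_subgroupOf]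
    exact ⟨fun h => absurd h hwZ, fun h => absurd (by simpa using inv_mem h) hpZ⟩
  exact h3

/-- `W i ∩ ZJ = Z i` -/
theorem mem_Z_of {i : ι} {p : G} (hp : p ∈ W i) (hJ : p ∈ ZJ) : p ∈ Z i :=
  (h.fr.blk i).toMd.mem_Z_iff.2 ⟨hp, ((h.fr.mem_ZJ p).1 hJ).2⟩

variable {z : ι → G} (hz : ∀ i x, x ∈ Z i ↔ x = 1 ∨ x = z i)
include hz

theorem z_mem (i : ι) : z i ∈ Z i := (hz i _).2 (Or.inr rfl)

theorem z_ne (i : ι) : z i ≠ 1 := by
  intro e
  apply h.Z_ne i
  rw [eq_bot_iff]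
  intro x hx
  rcases (hz i x).1 hx with rfl | rfl
  · exact one_mem _
  · rw [e]
    exact one_mem _

theorem z_notMem_Zs (j : ι) : z j ∉ Zs Z j := by
  intro hc
  have h1 : z j ∈ W j ⊓ C j := ⟨(h.fr.blk j).ZV (z_mem h hz j), Zs_le_C h j hc⟩
  rw [h.fr.dir j, mem_bot] at h1
  exact z_ne h hz j h1

/-- `g` centralises `Z l` iff it commutes with `z l` -/
theorem comm_Z {g : G} {l : ι} (hg : g * z l = z l * g) {x : G} (hx : x ∈ Z l) : g * x = x * g := by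
  rcases (hz l x).1 hx with rfl | rfl
  · simp
  · exact hg

variable {Y N₀ E F : Subgroup G} {i j : ι} (hij : i ≠ j)
  (hY : ∀ x, x ∈ Y ↔ ∀ l, l ≠ j → x * z l = z l * x)
include hij hY

theorem Y_Zs {c x : G} (hc : c ∈ Y) (hx : x ∈ Zs Z j) : c * x = x * c := by
  have h1 : Zs Z j ≤ centralizer ({c} : Set G) := by
    refine iSup_le fun l x hx => ?_
    rw [mem_centralizer_singleton_iff]
    exact (comm_Z h hz ((hY c).1 hc l l.2) hx).symm
  exact (mem_centralizer_singleton_iff.1 (h1 hx)).symm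

/-- **`Stab(x)`** -/
theorem stab_x (hBY : B ≤ Y) (hodd : ¬ 2 ∣ B.relIndex Y) {c : G} (hc : c ∈ Y)
    (hcx : c * z j * c⁻¹ * (z j)⁻¹ ∈ Zs Z j) : c * z j = z j * c := by
  have hZB : Zs Z j ≤ B := (Zs_le_ZJ h j).trans (h.fr.ZJV.trans h.fr.VB)
  have h1 := coset (Z₀ := ⊥) hBY hodd (h.bau_two.to_le hZB) (fun c hc x hx => Y_Zs h hz hij hY hc hx)
    (hZB.trans hBY) bot_le (p := z j) (fun b hb => by
      rw [mem_bot, (h.fr.blk j).cZ b hb _ (z_mem h hz j)]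
      group) hc hcx
  rw [mem_bot] at h1
  have h2 := congrArg (fun t => t * (z j * c)) h1
  simpa [mul_assoc] using h2

/-- **`Stab(y)`** -/
theorem stab_y (hBY : B ≤ Y) (hodd : ¬ 2 ∣ B.relIndex Y) {p : G} (hp : p ∈ W i) (hpZ : p ∉ Z i) {c : G} (hc : c ∈ Y) :
    c ∈ Y ⊓ normalizer (W i : Set G) ↔ c * p * c⁻¹ * p⁻¹ ∈ Zs Z j := by
  have hZB : Zs Z j ≤ B := (Zs_le_ZJ h j).trans (h.fr.ZJV.trans h.fr.VB)
  constructor
  · rintro ⟨-, hn⟩
    have h1 : c * p * c⁻¹ ∈ W i := (mem_normalizer_iff.1 hn p).1 hp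
    have h2 : c * p * c⁻¹ ∉ Z i := by
      intro hc'
      apply hpZ
      have h3 : c * (c * p * c⁻¹) = c * p * c⁻¹ * c := comm_Z h hz ((hY c).1 hc i hij) hc'
      have e : c * p * c⁻¹ = p := by
        have h4 := congrArg (fun t => c⁻¹ * t) h3
        simpa [mul_assoc] using h4
      rwa [e] at hc'
    exact Z_le_Zs hij (mem_or h hp hpZ h1 h2)
  · intro hcp
    have h1 := coset (Z₀ := Z i) hBY hodd (h.bau_two.to_le hZB) (fun c hc x hx => Y_Zs h hz hij hY hc hx)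
      (hZB.trans hBY) (Z_le_Zs hij) (p := p) (fun b hb => (h.fr.blk i).com b hb p hp) hc hcp
    refine mem_inf.2 ⟨hc, ?_⟩
    -- `c W c⁻¹ ≤ W`
    have key : ∀ c : G, c ∈ Y → c * p * c⁻¹ * p⁻¹ ∈ Z i → ∀ w ∈ W i, c * w * c⁻¹ ∈ W i := by
      intro c hc hcp w hw
      have hZc : ∀ x ∈ Z i, c * x * c⁻¹ = x := fun x hx => by
        rw [comm_Z h hz ((hY c).1 hc i hij) hx]
        group
      by_cases hwZ : w ∈ Z i
      · rw [hZc w hwZ]
        exact hw
      · have h2 := mem_or h hp hpZ hw hwZ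
        have e : c * w * c⁻¹ = (c * (w * p⁻¹) * c⁻¹) * (c * p * c⁻¹ * p⁻¹) * p := by group
        rw [e, hZc _ h2]
        exact mul_mem (mul_mem ((h.fr.blk i).ZV h2) ((h.fr.blk i).ZV hcp)) hp
    have hinv : c⁻¹ * p * c⁻¹⁻¹ * p⁻¹ ∈ Z i := by
      have h2 := comm_Z h hz ((hY c).1 hc i hij) (inv_mem h1)
      have e : c⁻¹ * p * c⁻¹⁻¹ * p⁻¹ = c⁻¹ * ((c * p * c⁻¹ * p⁻¹)⁻¹ * c) := by group
      rw [e, ← h2]
      have e2 : c⁻¹ * (c * (c * p * c⁻¹ * p⁻¹)⁻¹) = (c * p * c⁻¹ * p⁻¹)⁻¹ := by group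
      rw [e2]
      exact inv_mem h1
    rw [mem_normalizer_iff]
    intro w
    refine ⟨key c hc h1 w, fun hw => ?_⟩
    have h2 := key c⁻¹ (inv_mem hc) hinv _ hw
    have e : c⁻¹ * (c * w * c⁻¹) * c⁻¹⁻¹ = w := by group
    rwa [e] at h2

/-- `N_Y(B)` fixes `x` -/
theorem norm_x {g : G} (hg : g ∈ Y) (hgB : g ∈ normalizer (B : Set G)) : g * z j = z j * g := by
  obtain ⟨-, h1⟩ := h.nrm g hgB
  obtain ⟨l, hl, -⟩ := h1 j
  have h2 : l = j := by
    by_contra hne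
    have h3 : cj g (Z l) = Z l := by
      refine cj_eq_of_mem_normalizer (centralizer_le_normalizer _ ?_)
      rw [mem_centralizer_iff]
      intro x hx
      exact (comm_Z h hz ((hY g).1 hg l hne) hx).symm
    have h4 : cj g (Z j) = cj g (Z l) := hl.trans h3.symm
    have h5 := congrArg (cj g⁻¹) h4
    rw [cj_inv_cj, cj_inv_cj] at h5
    exact hne (h.Z_inj h5).symm
  rw [h2] at hl
  have h3 : g * z j * g⁻¹ ∈ Z j := by
    rw [← hl]
    exact ⟨z j, z_mem h hz j, rfl⟩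
  rcases (hz j _).1 h3 with h4 | h4
  · exact absurd (by
      have := congrArg (fun t => g⁻¹ * t * g) h4
      simpa [mul_assoc] using this) (z_ne h hz j)
  · have := congrArg (fun t => t * g) h4
    simpa [mul_assoc] using this

/-- **The two vectors: all fields of `KL.PlugT.GInT`.** -/
theorem gT (hsyl : Syl B Y) (hst : Y ⊓ centralizer ({z j} : Set G) = centralizer (ZJ : Set G))
    (hpar : ∀ R : Subgroup G, IsMinPar B R → R ≤ Y → (∃ r ∈ R, r * z j ≠ z j * r) → R ≤ normalizer (W j : Set G))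
    (hU : ∀ R : Subgroup G, IsMinPar B R → R ≤ Y → (∃ r ∈ R, r * z j ≠ z j * r) → ∀ r ∈ R, ∀ v ∈ W i,
      r * v * r⁻¹ * v⁻¹ ∈ Zs Z j)
    (hnB : ∀ g ∈ Y, g ∈ normalizer (B : Set G) → ∀ v ∈ W i, g * v * g⁻¹ * v⁻¹ ∈ Zs Z j)
    (hE : IsElementaryAbelian 2 E) (hYE : Y ≤ normalizer (E : Set G)) (hWE : W i ≤ E) (hNE : N₀ ≤ E) (hZE : ZJ ≤ E)
    (hzN : z j ∈ N₀) (hYN : Y ≤ normalizer (N₀ : Set G)) (hWN : W j ≤ N₀)
    (hgen : ∀ U : Subgroup G, z j ∈ U → Y ≤ normalizer (U : Set G) → N₀ ≤ U)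
    (hF : IsElementaryAbelian 2 F) (hFO : F ≤ o2 (centralizer (ZJ : Set G)))
    (hFy : F ≤ o2 (Y ⊓ centralizer (W i : Set G))) (hFm : ¬ F ≤ centralizer (N₀ : Set G))
    (hFc : F ⊓ centralizer (N₀ : Set G) ≤ centralizer (E : Set G))
    (hFe : (centralizer (F : Set G)).relIndex E ≤ (centralizer (E : Set G)).relIndex F)
    (hK : IsKGroup Y) {p : G} (hp : p ∈ W i) (hpZ : p ∉ Z i) :
    GT B Y (Nn W Z Y N₀ i j) (Zs Z j) (W j ⊔ Zs Z j) (Y ⊓ normalizer (W i : Set G)) F (z j) p := by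
  have hBY : B ≤ Y := hsyl.1
  have hodd : ¬ 2 ∣ B.relIndex Y := syl_not_dvd hsyl
  have hZsN : Zs Z j ≤ Nn W Z Y N₀ i j := le_sup_right
  have hN₀N : N₀ ≤ Nn W Z Y N₀ i j := le_sup_right.trans le_sup_left
  have hsup : (⨆ y : Y, cj (y : G) (W i)) ≤ Nn W Z Y N₀ i j := le_sup_left.trans le_sup_left
  have hWiN : W i ≤ Nn W Z Y N₀ i j := by
    have h1 := le_iSup (fun y : Y => cj (y : G) (W i)) 1
    rw [OneMemClass.coe_one, cj_one] at h1
    exact h1.trans hsup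
  have hNnE : Nn W Z Y N₀ i j ≤ E := by
    refine sup_le (sup_le (iSup_le fun y => ?_) hNE) ((Zs_le_ZJ h j).trans hZE)
    have h1 := cj_mono (y : G) hWE
    rwa [cj_eq_of_mem_normalizer (hYE y.2)] at h1
  have hnorm : ∀ U : Subgroup G, (∀ y ∈ Y, cj y U ≤ U) → Y ≤ normalizer (U : Set G) := by
    intro U hU y hy
    rw [mem_normalizer_iff_cj]
    refine le_antisymm (hU y hy) ?_
    have h1 := cj_mono y (hU y⁻¹ (inv_mem hy))
    rwa [cj_cj_inv] at h1
  have hYZs : ∀ y ∈ Y, cj y (Zs Z j) = Zs Z j := by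
    intro y hy
    refine cj_eq_of_mem_normalizer (centralizer_le_normalizer _ ?_)
    rw [mem_centralizer_iff]
    exact fun x hx => (Y_Zs h hz hij hY hy hx).symm
  have hCN : Y ≤ normalizer (Nn W Z Y N₀ i j : Set G) := by
    refine hnorm _ fun y hy => ?_
    rw [Nn, cj_sup', cj_sup', cj_eq_of_mem_normalizer (hYN hy), hYZs y hy]
    refine sup_le_sup_right (sup_le_sup_right ?_ _) _
    rw [cj_le_iff]
    refine iSup_le fun t => ?_
    rw [← cj_le_iff, cj_cj]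
    exact le_iSup (fun y : Y => cj (y : G) (W i)) ⟨y * t, mul_mem hy t.2⟩
  have hZJN : ZJ ≤ Nn W Z Y N₀ i j := by
    refine (ZJ_le h j).trans (sup_le ?_ hZsN)
    intro x hx
    rcases (hz j x).1 hx with rfl | rfl
    · exact one_mem _
    · exact hN₀N hzN
  have hpJ : p ∉ ZJ := fun hc => hpZ (mem_Z_of h hp hc)
  exact
    { TC := hBY
      two := h.bau_two
      syl := hodd
      sq := fun n hn => by
        rw [← pow_two]
        exact hE.2 n (hNnE hn)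
      CN := hCN
      ZN := hZsN
      CZ := fun c hc x hx => Y_Zs h hz hij hY hc hx
      xN := hN₀N hzN
      pN := hWiN hp
      gen := by
        intro U hxU hpU hZU hU
        have h1 : N₀ ≤ U := hgen U hxU hU
        have h2 : W i ≤ U := by
          intro w hw
          by_cases hwZ : w ∈ Z i
          · exact hZU (Z_le_Zs hij hwZ)
          · have h3 := mem_or h hp hpZ hw hwZ
            have e : w = w * p⁻¹ * p := by group
            rw [e]
            exact mul_mem (hZU (Z_le_Zs hij h3)) hpU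
        refine sup_le (sup_le (iSup_le fun y => ?_) h1) hZU
        have h3 := cj_mono (y : G) h2
        rwa [cj_eq_of_mem_normalizer (hU y.2)] at h3
      stx := fun c hc hcx => stab_x h hz hij hY hBY hodd hc hcx
      sty := fun c hc => stab_y h hz hij hY hBY hodd hp hpZ hc
      SyC := inf_le_left
      x1 := z_notMem_Zs h hz j
      p1 := fun hc => hpJ (Zs_le_ZJ h j hc)
      xp := fun hc => hpJ (by
        have h1 := mul_mem (inv_mem (h.fr.Z_le j (z_mem h hz j))) (Zs_le_ZJ h j hc)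
        have e : (z j)⁻¹ * (z j * p) = p := by group
        rwa [e] at h1)
      ZW := le_sup_right
      WN := sup_le (hWN.trans hN₀N) hZsN
      xW := (le_sup_left : W j ≤ W j ⊔ Zs Z j) ((h.fr.blk j).ZV (z_mem h hz j))
      cW := by
        have h1 : Disjoint (W j) (Zs Z j) := by
          rw [disjoint_iff, eq_bot_iff]
          exact (inf_le_inf_left _ (Zs_le_C h j)).trans (h.fr.dir j).le
        have h2 : Zs Z j ≤ centralizer (W j : Set G) := by
          intro x hx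
          rw [mem_centralizer_iff]
          intro w hw
          exact h.fr.Vc (h.fr.WV j hw) (h.fr.ZJV (Zs_le_ZJ h j hx))
        have h3 := Star.card_mul_relIndex (le_sup_right : Zs Z j ≤ W j ⊔ Zs Z j)
        have h4 := NoFF.ThmJFam.card_sup_inf (A := W j) (B := Zs Z j) (cent_symm h2)
        rw [disjoint_iff.1 h1, card_bot, mul_one, card_W h] at h4
        rw [h4, mul_comm] at h3
        exact Nat.eq_of_mul_eq_mul_right Nat.card_pos h3
      nx := fun g hg hgB => norm_x h hz hij hY hg hgB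
      ny := fun g hg => (stab_y h hz hij hY hBY hodd hp hpZ hg.1).2 (hnB g hg.1 hg.2 p hp)
      uni := by
        intro R hR hRY hmv
        have h1 : R ≤ normalizer (W j : Set G) := hpar R hR hRY hmv
        refine le_inf (fun r hr => ?_) fun r hr =>
          (stab_y h hz hij hY hBY hodd hp hpZ (hRY hr)).2 (hU R hR hRY hmv r hr p hp)
        rw [mem_normalizer_iff_cj, cj_sup', cj_eq_of_mem_normalizer (h1 hr), hYZs r (hRY hr)]
      el := fun a ha => by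
        rw [← pow_two]
        exact hF.2 a ha
      Ax := by
        rw [hst]
        exact hFO
      Ay := hFy.trans Star.o2_cent_le
      mv := fun hc => hFm (hc.trans (centralizer_le hN₀N))
      ex := by
        have h1 : (centralizer (F : Set G)).relIndex (Nn W Z Y N₀ i j) ≤ (centralizer (F : Set G)).relIndex E :=
          relIndex_le_of_le_right hNnE index_ne_zero_of_finite
        have h2 : (centralizer (E : Set G)).relIndex F = (centralizer (Nn W Z Y N₀ i j : Set G)).relIndex F := by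
          rw [← inf_relIndex_right (centralizer (E : Set G)),
            ← inf_relIndex_right (centralizer (Nn W Z Y N₀ i j : Set G))]
          congr 1
          refine le_antisymm (inf_le_inf_right _ (centralizer_le hNnE)) (le_inf ?_ inf_le_right)
          refine le_trans ?_ hFc
          exact le_inf inf_le_right (inf_le_left.trans (centralizer_le hN₀N))
        rw [← h2]
        exact h1.trans hFe
      cA := by
        intro a ha hac
        have h1 : N₀ ≤ cl Y (z j) := hgen _ (mem_cl Y (z j)) (le_normalizer_cl Y (z j))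
        have h2 : cl Y (z j) ≤ centralizer ({a} : Set G) := by
          refine iSup_le fun y => ?_
          rw [cj_le_iff, zpowers_le, ← SetLike.mem_coe]
          show z j ∈ cj (y : G)⁻¹ (centralizer ({a} : Set G))
          rw [mem_cj, inv_inv, mem_centralizer_singleton_iff]
          exact (hac y y.2).symm
        have h3 : a ∈ centralizer (N₀ : Set G) := by
          rw [mem_centralizer_iff]
          intro n hn
          exact mem_centralizer_singleton_iff.1 (h2 (h1 hn))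
        exact centralizer_le hNnE (hFc ⟨ha, h3⟩)
      KC := hK }

end main

end Cfsg.Agent.Omega.EK3.Two
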