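import Cfsg.Agent.Omega.EK3.FrStar
import Cfsg.Agent.Omega.EK3.BaseE
import Cfsg.Agent.Omega.EK3.Two
import Cfsg.Agent.Omega.KL.PlugGT

/-!
# (E), `k ≥ 3`, `q = 2` (THEOREM K3, helper474 #22123, #22451, #23133): the end over `EK3.Fr` (helper520)

* `HU B W Z z` : the property (U): `[R, W i] ≤ Zᶜ = ⟨Z l : l ≠ j⟩` for the minimal parabolics `R` over `B` in `YY z j` which
  move `z j`, and for `N(B)`;
* `Fr.eq_Yc`, `Fr.eq_Nc` : the groups of `BaseE`;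
* `Fr.gInT` : the input of THEOREM KL, from the output `F` of STAR;
* **`Fr.false`** : `Fr`, `NLoc (D ⊔ ⨆ L i)`, `HU` : contradiction, from THEOREM ML and THEOREM KL.
-/

set_option autoImplicit false
set_option linter.unusedSectionVars false

namespace Cfsg.Agent.Omega.EK3

open Subgroup Cfsg Cfsg.Agent.ZN.ChoiceBase
open Cfsg.Agent.ZN (zc zl o2)
open Cfsg.Agent.Omega.OM Cfsg.Agent.Omega.OM.Uni
open Cfsg.Agent.Omega.NO3S.EThree.Frame
open Cfsg.Agent.Omega.Node.MultiOf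
open Cfsg.Agent.MinSimple.MinParabolic (IsMinPar)
open Cfsg.Agent.Omega.EK3.StarE (EE EE_mono le_EE norm_EE)
open Cfsg.Agent.Omega.EK3.Two (Zs Nn)

universe u

variable {G : Type u} [Group G]

/-- **(U)** -/
def HU (B : Subgroup G) {k : ℕ} (W Z : Fin k → Subgroup G) (z : Fin k → G) : Prop :=
  ∀ i j, i ≠ j →
    (∀ R : Subgroup G, IsMinPar B R → R ≤ YY z j → R ≤ normalizer (W j : Set G) →
      ¬ R ≤ centralizer (Z j : Set G) → ∀ r ∈ R, ∀ v ∈ W i, r * v * r⁻¹ * v⁻¹ ∈ Zs Z j) ∧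
      ∀ g ∈ YY z j ⊓ normalizer (B : Set G), ∀ v ∈ W i, g * v * g⁻¹ * v⁻¹ ∈ Zs Z j

namespace Fr

variable [Finite G] {S : Sylow 2 G} {P K B ZJ : Subgroup G} {k : ℕ} {L W Z C : Fin k → Subgroup G}
    {z : Fin k → G} (h : Fr S P K B ZJ L W Z C z)

theorem eq_Yc (z : Fin k → G) (j : Fin k) : YY z j = Yc z j := EK3.eq_Yc fun _ => mem_YY

theorem eq_Nc (z : Fin k → G) (j : Fin k) : NN z j = Nc z j := by
  unfold NN Nc
  rw [eq_Yc]

include h

/-- some `p ∈ W i - Z i` -/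
theorem exists_p (i : Fin k) : ∃ p ∈ W i, p ∉ Z i := by
  by_contra hcon
  push Not at hcon
  have h1 : Nat.card (W i) ≤ Nat.card (Z i) := Nat.card_le_card_of_injective _ (inclusion_injective hcon)
  rw [h.card_W, h.bg.fr.cardZ] at h1
  omega

/-- **The input of THEOREM KL.** -/
theorem gInT (hU : HU B W Z z) {i j : Fin k} {F : Subgroup G} (o : StarOut ZJ W z i j F) {p : G} (hp : p ∈ W i)
    (hpZ : p ∉ Z i) :
    KL.PlugGT.GInT B (YY z j) (Nn W Z (YY z j) (NN z j) i j) (Zs Z j) (W j ⊔ Zs Z j)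
      (YY z j ⊓ normalizer (W i : Set G)) F (z j) p := by
  have hk : ∀ i j : Fin k, ∃ l, l ≠ i ∧ l ≠ j := fun i j => by
    obtain ⟨l, hl⟩ := MainS.exists_third h.three i j
    rw [Set.mem_compl_iff, Set.mem_insert_iff, Set.mem_singleton_iff, not_or] at hl
    exact ⟨l, hl.1, hl.2⟩
  have hNE : NN z j ≤ EE ZJ (YY z i ⊔ YY z j) := by
    rw [eq_Nc, eq_Yc, eq_Yc]
    exact N_le_E' h.bg h.hz hk i j
  have hWE : W i ≤ EE ZJ (YY z i ⊔ YY z j) := by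
    rw [eq_Yc, eq_Yc]
    exact (W_le_EE h.bg h.hz i).trans (EE_mono le_sup_left)
  have hE : IsElementaryAbelian 2 (EE ZJ (YY z i ⊔ YY z j)) := by
    rw [eq_Yc, eq_Yc]
    exact eab_EE h.bg h.hz hk i j
  have t := Two.gT h.bg h.hz o.ne (fun _ => mem_YY) (h.syl j) (h.stab j)
    (fun R hR hRY hm => by
      rcases h.par hR hRY with h1 | h1
      · obtain ⟨r, hr, hne⟩ := hm
        exact absurd (mem_centralizer_singleton_iff.1 (h.D_le_C j (h1 hr))) hne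
      · exact h1.1)
    (fun R hR hRY hm => by
      obtain ⟨r, hr, hne⟩ := hm
      have hD : ¬ R ≤ centralizer (ZJ : Set G) := fun h1 =>
        hne (mem_centralizer_singleton_iff.1 (h.D_le_C j (h1 hr)))
      refine (hU i j o.ne).1 R hR hRY ((h.par hR hRY).resolve_left hD).1 fun h1 => hne ?_
      exact (mem_centralizer_iff.1 (h1 hr) _ (h.mem_Z j)).symm)
    (fun g hg hgB => (hU i j o.ne).2 g ⟨hg, hgB⟩) hE (le_sup_right.trans (norm_EE ZJ _)) hWE hNE (le_EE _ _)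
    (mem_NN z j) (le_normalizer_NN z j) (h.W_le_NN j) (fun U h1 h2 => NN_le h1 h2) o.el o.FO o.low o.mv o.cent
    (o.ex _ hNE le_rfl).ge (h.kgroup j) hp hpZ
  exact ⟨t.TC, t.two, t.syl, t.sq, t.CN, t.ZN, t.CZ, t.xN, t.pN, t.gen, t.cA, t.stx, t.sty, t.SyC, t.x1, t.p1, t.xp,
    t.ZW, t.WN, t.xW, t.cW, t.nx, t.ny, t.uni, t.el, t.Ax, t.Ay, t.mv, t.ex, t.KC⟩

/-- **(E), `k ≥ 3`, `q = 2`, over `Fr`.** -/
theorem false (hML : ML.Final.MLK.{u, u}) (hKL : KL.Quo.NoInp.{u, u})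
    (hn : NLoc (centralizer (ZJ : Set G) ⊔ ⨆ i, L i)) (hU : HU B W Z z) : False := by
  obtain ⟨i, j, F, o⟩ := h.exists_star hML hn
  obtain ⟨p, hp, hpZ⟩ := h.exists_p i
  exact (h.gInT hU o hp hpZ).false hML hKL

end Fr

end Cfsg.Agent.Omega.EK3
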