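import Cfsg.Agent.Omega.EK3.UFixX
import Cfsg.Agent.Omega.EK3.Inst
import Cfsg.Agent.Omega.Node.MulC

/-!
# NO-3S, case (E), `k ≥ 3`, `q = 2`: `V_i^R ⊆ V_P` over the general frame `MulG` (`HypL` and the case (L) of GammaFF)

* `exists_BO_top`; `exists_idx_V`; `hV_G`; **`UIn.uni_of_G`** : (U) over `MulG` and `UniV`, every stage;
* `exists_fr_G` : the frame `EK3.Fr`; `UIn.of_fr` : `UIn` for `Y = YY z j`.
-/

set_option autoImplicit false
set_option linter.unusedSectionVars false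

namespace Cfsg.Agent.Omega.EK3.UFix

open Subgroup Cfsg Cfsg.Agent.ZN.ChoiceBase
open Cfsg.Agent.ZN (jj zj bau zc zl o2)
open Cfsg.Agent.ZN.ChoiceSit (Syl exists_syl syl_conj)
open Cfsg.Agent.MinSimple.MinParabolic (IsMinPar)
open Cfsg.Agent.Omega.MinPar (IsParS)
open Cfsg.Agent.Omega.NO3S (HypJ HypN Hyp HypL)
open Cfsg.Agent.Omega.NO3S.Level (lev nxt Lev BO)
open Cfsg.Agent.Omega.NO3S.EThree.Frame
open Cfsg.Agent.Omega.OM Cfsg.Agent.Omega.OM.Uni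
open Cfsg.Agent.Omega.OM.Lev.Uni (FrL)
open Cfsg.Agent.Omega.Node.MultiOf
open Cfsg.Agent.Omega.Node.MulG

universe u

variable {G : Type u} [Group G] [Finite G] {S : Sylow 2 G} {P K' B ZJ : Subgroup G} {k : ℕ}
  {L W Z C : Fin k → Subgroup G}

/-- the modules of a second frame over `(B, Z_J)` are the same -/
theorem exists_idx_V (h : Bg S P B ZJ L W Z C 2) (hu : UniV S P B ZJ L W) {L' W' Z' C' : Fin k → Subgroup G}
    (h' : Bg S P B ZJ L' W' Z' C' 2) (i : Fin k) : ∃ m, W' m = W i ∧ Z' m = Z i := by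
  have h1 : ∀ m, ∃ i, W' m = W i := fun m => by
    obtain ⟨i, e, -⟩ := hu (L' m) (W' m) ⟨⟨Z' m, 2, h'.fr.blk m⟩, h'.block m⟩ (h'.fr.WV m)
    exact ⟨i, e⟩
  choose f hf using h1
  have hinj : Function.Injective f := fun a b hab => h'.W_inj (by rw [hf a, hf b, hab])
  obtain ⟨m, hm⟩ := (Finite.injective_iff_surjective.1 hinj) i
  have e : W' m = W i := by rw [hf m, hm]
  refine ⟨m, e, ?_⟩
  ext v
  rw [(h'.fr.blk m).toMd.mem_Z_iff, (h.fr.blk i).toMd.mem_Z_iff, e]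

theorem exists_BO_top (hG : IsCharacteristicTwoType G) (hP : IsParS (S : Subgroup G) P) {K₀ : Subgroup G}
    (t : Top S P K₀) : ∃ A ∈ BO (S : Subgroup G) K₀, ¬ A ≤ o2 P := by
  by_contra hcon
  push Not at hcon
  apply t.nxt
  refine sup_le ?_ (sSup_le hcon)
  rw [← IsParS.inf_centralizer S hG hP]
  exact inf_le_inf_left _ (centralizer_le
    ((hP.isLoc.zl_le S hG).trans (t.lev.zc_o2_le t.le (hP.isLoc.o2_le S))))

/-- **`V_i^R ⊆ V_P`**, general frame -/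
theorem hV_G (h : MulG S P K' B ZJ L W Z C 2) (hk : 2 ≤ k) (hu : UniV S P B ZJ L W) {i j : Fin k}
    {R : Subgroup G} (hRi : R ≤ centralizer (Z i : Set G))
    (hT0 : R ≤ normalizer ((B ⊓ centralizer (W j : Set G) : Subgroup G) : Set G)) :
    ∀ r ∈ R, ∀ v ∈ W i, (∀ x ∈ B ⊓ centralizer (W j : Set G),
      x * (r * v * r⁻¹) * x⁻¹ * (r * v * r⁻¹)⁻¹ ∈ Z i) → r * v * r⁻¹ ∈ zl (S : Subgroup G) P := by
  intro r hr v hv hx
  have hbg := h.bg
  have hvV := hbg.fr.WV i hv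
  have hQT : o2 P ≤ B ⊓ centralizer (W j : Set G) := fun x hx =>
    ⟨hbg.fr.QB hx, mem_centralizer_iff.2 fun w hw => (hbg.fr.cQ hx (hbg.fr.WV j hw)).symm⟩
  have hvT : v ∈ B ⊓ centralizer (W j : Set G) :=
    ⟨hbg.fr.VB hvV, mem_centralizer_iff.2 fun w hw => hbg.fr.Vc (hbg.fr.WV j hw) hvV⟩
  have hrT : r * v * r⁻¹ ∈ B ⊓ centralizer (W j : Set G) := (mem_normalizer_iff.1 (hT0 hr) v).1 hvT
  have hrn : r ∈ normalizer (Z i : Set G) := centralizer_le_normalizer _ (hRi hr)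
  have hQ : r * v * r⁻¹ ∈ o2 P := by
    refine (hbg.fr.mem_Q _ hrT.1).2 fun w hw => ?_
    have h1 := hbg.comm i hrn (one_mem (normalizer (Z i : Set G)))
    rw [cj_one] at h1
    exact (mem_centralizer_iff.1 (h1 ⟨v, hvV, rfl⟩) w hw).symm
  have h2 : (r * v * r⁻¹) ^ 2 = 1 := by
    rw [conj_pow, hbg.fr.Vsq hvV, mul_one, mul_inv_cancel]
  obtain ⟨F, _, _, _, hF, ⟨N⟩⟩ := h.nat
  have hE : ∀ x ∈ o2 P, r * v * r⁻¹ * x * (r * v * r⁻¹)⁻¹ * x⁻¹ ∈ Z i := by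
    intro x hx'
    have h3 := inv_mem (hx x (hQT hx'))
    have e : (x * (r * v * r⁻¹) * x⁻¹ * (r * v * r⁻¹)⁻¹)⁻¹ = r * v * r⁻¹ * x * (r * v * r⁻¹)⁻¹ * x⁻¹ := by group
    rwa [e] at h3
  cases h.stg with
  | neg hj =>
    have hJ : HypJ S P := ⟨hbg.hyp, hj⟩
    obtain ⟨L', Z', A, hB, -⟩ := exists_bs hJ hk N.toNatK
    rw [hF] at hB
    have hl : Line S P L' _ Z' _ A 2 := ⟨hB.hyp, hB.fr, hB.two⟩
    have hZJ : Z i ≤ zj (S : Subgroup G) := hbg.fr.Z_le i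
    have hZ2 : Nat.card (Z i) = 2 := hbg.fr.cardZ i
    obtain ⟨z, hz, hz1⟩ : ∃ z ∈ Z i, z ≠ 1 := by
      by_contra hcon
      push Not at hcon
      exact hbg.Z_ne i ((eq_bot_iff_forall _).2 hcon)
    have h5 := mt (hB.fr.C0 z (hbg.fr.ZV i hz)) hz1
    push Not at h5
    obtain ⟨m, hm⟩ := h5
    refine hl.fix (i := m) hZJ ?_ hQ h2 hE
    rw [eq_bot_iff]
    rintro x ⟨hx1, hx2⟩
    rw [mem_bot]
    by_contra hne
    exact hm (OM.UniPlus.eq_of_card_two hZ2 hx1 hz hne hz1 ▸ hx2)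
  | lev K₀ t =>
    have hG := hbg.hyp.ctx.char2
    obtain ⟨M, L', Z', A, -, hfr, hbg', -⟩ :=
      Lev.Main.bg_K hbg.hyp t.lev t.le (exists_BO_top hG hbg.hyp.toHyp.star t) hk N rfl
    rw [hF] at hfr hbg'
    obtain ⟨m, -, hm⟩ := exists_idx_V hbg hu hbg' i
    have hlevQ := t.le.trans hQT
    have hX : zc K₀ ≤ K₀ := MinSimple.VModule.zc_le _
    have hrl : r ∈ normalizer (K₀ : Set G) := by
      rw [mem_normalizer_iff_cj]
      refine t.wc.eq r ?_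
      refine (cj_mono r hlevQ).trans ?_
      rw [cj_eq_of_mem_normalizer (hT0 hr)]
      exact inf_le_left.trans hbg.BS
    have hrX : r ∈ normalizer (zc K₀ : Set G) := NO3S.Level.normalizer_le_zc _ hrl
    refine FixXQ.fixX hfr (hX.trans (t.le.trans hbg.fr.QB)) m ((mem_normalizer_iff.1 hrX v).1 (hfr.VX hvV)) ?_
    intro o ho
    rw [hm]
    exact hx o (hQT ho)

/-- **(U)**, general frame: `R` a minimal parabolic over `B` in `Y`, normalising `V_j`, moving `Z j`, fixes `V_i` modulo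
`Z^j`. -/
theorem UIn.uni_of_G {i j : Fin k} {Y : Subgroup G} (u : UIn S P B ZJ L W Z C i j Y)
    (h : MulG S P K' B ZJ L W Z C 2) (hk : 2 ≤ k) (hu : UniV S P B ZJ L W) {R : Subgroup G} (hmin : IsMinPar B R)
    (hRY : R ≤ Y) (hRW : R ≤ normalizer (W j : Set G)) (hmv : ¬ R ≤ centralizer (Z j : Set G)) :
    ∀ r ∈ R, ∀ v ∈ W i, r * v * r⁻¹ * v⁻¹ ∈ Zo Z j := by
  have hsylR : Syl B R := ⟨hmin.le, u.syl.2.1, fun Q hQ h2 hle => u.syl.2.2 Q (hQ.trans hRY) h2 hle⟩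
  have hT0 := norm_T0 hsylR hmin hRW (u.bg.fr.blk j).ZV
    (fun b hb => mem_centralizer_iff.2 fun z hz => ((u.bg.fr.blk j).cZ b hb z hz).symm) hmv
  exact fun r hr => (u.uni hmin hRY hRW hmv (hV_G h hk hu (hRY.trans (u.cen i u.ij)) hT0) hr).2

/-- `UIn` for `Y = YY z j` -/
theorem UIn.of_fr {z : Fin k → G} (h : Fr S P K' B ZJ L W Z C z) {i j : Fin k} (hij : i ≠ j) :
    UIn S P B ZJ L W Z C i j (YY z j) where
  bg := h.bg
  ij := hij
  cen := fun l hl => by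
    intro y hy
    rw [mem_centralizer_iff]
    intro x hx
    rcases (h.hz l x).1 hx with rfl | rfl
    · simp
    · exact (mem_YY.1 hy l hl).symm
  PY := by
    rintro y ⟨-, hy⟩
    exact mem_YY.2 fun l hl =>
      (mem_centralizer_iff.1 hy _ (h.bg.fr.WjC j l (Ne.symm hl) (h.mem_W l))).symm
  syl := h.syl j

end Cfsg.Agent.Omega.EK3.UFix

namespace Cfsg.Agent.Omega.EK3

open Subgroup Cfsg Cfsg.Agent.ZN.ChoiceBase
open Cfsg.Agent.Omega.OM
open Cfsg.Agent.Omega.NO3S.EThree.Frame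
open Cfsg.Agent.Omega.Node.MultiOf
open Cfsg.Agent.Omega.Node.MulG

universe u

variable {G : Type u} [Group G] [Finite G] {S : Sylow 2 G} {P K' B ZJ : Subgroup G} {k : ℕ}
  {L W Z C : Fin k → Subgroup G}

/-- the frame from `MulG` -/
theorem exists_fr_G (h : MulG S P K' B ZJ L W Z C 2) (hk : 3 ≤ k) (hu : UniTwo B ZJ L W)
    (hb : TC.OfMul.BlkS K' B B) : ∃ z : Fin k → G, Fr S P K' B ZJ L W Z C z :=
  exists_fr_bg h.bg h.lb hk hu hb

end Cfsg.Agent.Omega.EK3
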