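import Cfsg.Agent.Omega.EK3.Glue
import Cfsg.Agent.Omega.EK3.UFixG

/-!
# (E), `k ≥ 3`, `q = 2`: the end over the general frame `MulG` (`HypL` and the case (L) of GammaFF)

* `hU_G` : (U) from `MulG` and `UniV`;
* **`false_G`** : the end with the weakest hypotheses (UNI+ for blocks with module in `V_P`);
* **`eEndK_of`** : `MulC.EEndK K` from THEOREM ML and THEOREM KL; `efrK_of_G` : `OfMul.EFrK K`;
  `eC_three_of` : the case (L).
-/

set_option autoImplicit false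
set_option linter.unusedSectionVars false

namespace Cfsg.Agent.Omega.EK3

open Subgroup Cfsg Cfsg.Agent.ZN.ChoiceBase
open Cfsg.Agent.Omega.OM Cfsg.Agent.Omega.OM.Uni
open Cfsg.Agent.Omega.NO3S.EThree.Frame
open Cfsg.Agent.Omega.Node.MultiOf Cfsg.Agent.Omega.Node.MulG
open Cfsg.Agent.Omega.Node
open Cfsg.Agent.Omega.Frame (Cls)
open Cfsg.Agent.ZN (zc zl o2)
open Cfsg.Agent.ZN.ChoiceSit (Syl)
open Cfsg.Agent.MinSimple.MinParabolic (IsMinPar)

universe u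

theorem hU_G {G : Type u} [Group G] [Finite G] {S : Sylow 2 G} {P K B ZJ : Subgroup G} {k : ℕ}
    {L W Z C : Fin k → Subgroup G} {z : Fin k → G} (h : Fr S P K B ZJ L W Z C z) (hM : MulG S P K B ZJ L W Z C 2)
    (hu : UniV S P B ZJ L W) : HU B W Z z := fun i j hij =>
  ⟨fun R hR hRY hRW hmv =>
    (UFix.UIn.of_fr h hij).uni_of_G hM (by have := h.three; omega) hu hR hRY hRW hmv,
    (UFix.UIn.of_fr h hij).nB_of⟩

/-- **(E), `k ≥ 3`, `q = 2`, over `MulG`, the weakest form**: UNI+ only for the blocks with module in `V_P`, block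
generation only for the minimal parabolics `R` over `B` in `C_G(Z l : l ≠ j)`, `⟨C_G(Z_J), L_1, .., L_k⟩` nonlocal. -/
theorem false_G {G : Type u} [Group G] [Finite G] {S : Sylow 2 G} {P K B ZJ : Subgroup G} {k : ℕ}
    {L W Z C : Fin k → Subgroup G} (hML : ML.Final.MLK.{u, u}) (hKL : KL.Quo.NoInp.{u, u})
    (hM : MulG S P K B ZJ L W Z C 2) (hk : 3 ≤ k) (hu : UniV S P B ZJ L W)
    (hb : ∀ (j : Fin k) (R : Subgroup G), (∀ l, l ≠ j → R ≤ centralizer (Z l : Set G)) → IsMinPar B R → Syl B R →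
      R ⊓ centralizer (o2 R : Set G) ≤ o2 R → ¬ K ≤ o2 R → ¬ R ≤ centralizer (zc B : Set G) →
      ∃ L' V' : Subgroup G, FBl B L' V' ∧ V' ≤ zl (S : Subgroup G) P ∧ L' ≤ R ∧ R ≤ L' ⊔ B)
    (hn : NLoc (centralizer (ZJ : Set G) ⊔ ⨆ i, L i)) : False := by
  obtain ⟨z, h⟩ := exists_fr_V hM.bg hM.lb hk hu hb
  exact h.false hML hKL hn (hU_G h hM hu)

/-- **(E), `k ≥ 3`, `q = 2`, over `MulG`, UNI+ and block generation.** -/
theorem eEndK_of (hML : ML.Final.MLK.{u, u}) (hKL : KL.Quo.NoInp.{u, u}) (K : Cls.{u}) : MulC.EEndK K := by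
  intro G _ _ _ S P K' B ZJ k L W Z C hk hM hn hu hb
  obtain ⟨z, h⟩ := exists_fr_G hM hk hu hb
  exact (h.false hML hKL (nonloc_of hu hn) (hU_G h hM hu.toV)).elim

theorem efrK_of_G (hML : ML.Final.MLK.{u, u}) (hKL : KL.Quo.NoInp.{u, u}) (K : Cls.{u}) : OfMul.EFrK K :=
  MulC.eFrK_of_end (eEndK_of hML hKL K)

/-- **the case (L), `k ≥ 3`, `q = 2`** -/
theorem eC_three_of (hML : ML.Final.MLK.{u, u}) (hKL : KL.Quo.NoInp.{u, u}) {K : Cls.{u}} (hU : MulC.UniC K) :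
    MulC.EC K fun k q => 3 ≤ k ∧ q = 2 :=
  MulC.eC_three hU (eEndK_of hML hKL K)

end Cfsg.Agent.Omega.EK3
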