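import Cfsg.Agent.Omega.EK3.UFix
import Cfsg.Agent.Omega.OM.FixLem
import Cfsg.Agent.Omega.OM.Lev.FixXQ
import Cfsg.Agent.Omega.Node.MultiOf

/-!
# NO-3S, case (E), `k ≥ 3`, `q = 2`: `V_i^R ⊆ V_P` for `R` normalising `C_B(V_j)`, every stage (helper3)

The hypothesis `hV` of `UIn.uni` (`EK3/UFix.lean`) over `Mul` and `UniTwo`: stage `-1`: LEMMA FIX (#19750 (1)), stage
`n`: FIX-X (#22160).

* `exists_idx` : two frames over the same `B`, `Z_J` have the same modules `W i` (UNI+);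
* `hV_of` : `R ≤ C(Z i)` normalises `C_B(W j)`, `[C_B(W j), v ^ r] ≤ Z i` : `v ^ r ∈ V_P`;
* **`uni_of`** : (U) over `Mul` and `UniTwo`, every stage.
-/

set_option autoImplicit false
set_option linter.unusedSectionVars false

namespace Cfsg.Agent.Omega.EK3.UFix

open Subgroup Cfsg Cfsg.Agent.ZN.ChoiceBase
open Cfsg.Agent.ZN (jj zj bau zc zl o2)
open Cfsg.Agent.ZN.ChoiceSit (Syl exists_syl syl_conj)
open Cfsg.Agent.MinSimple.MinParabolic (IsMinPar)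
open Cfsg.Agent.Omega.NO3S (HypJ HypN Hyp HypL)
open Cfsg.Agent.Omega.NO3S.Level (lev lev_wc lev_isLev)
open Cfsg.Agent.Omega.NO3S.EThree.Frame
open Cfsg.Agent.Omega.OM Cfsg.Agent.Omega.OM.Uni
open Cfsg.Agent.Omega.OM.Lev.Uni (FrL)
open Cfsg.Agent.Omega.Node.MultiOf

universe u

variable {G : Type u} [Group G] [Finite G] {S : Sylow 2 G} {P K' B ZJ : Subgroup G} {k : ℕ}
  {L W Z C : Fin k → Subgroup G}

/-- the modules of a second frame over `(B, Z_J)` are the same -/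
theorem exists_idx (h : Bg S P B ZJ L W Z C 2) (hu : UniTwo B ZJ L W) {L' W' Z' C' : Fin k → Subgroup G}
    (h' : Bg S P B ZJ L' W' Z' C' 2) (i : Fin k) : ∃ m, W' m = W i ∧ Z' m = Z i := by
  have h1 : ∀ m, ∃ i, W' m = W i := fun m => by
    obtain ⟨i, e, -⟩ := hu (L' m) (W' m) ⟨⟨Z' m, 2, h'.fr.blk m⟩, h'.block m⟩
    exact ⟨i, e⟩
  choose f hf using h1
  have hinj : Function.Injective f := fun a b hab => h'.W_inj (by rw [hf a, hf b, hab])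
  obtain ⟨m, hm⟩ := (Finite.injective_iff_surjective.1 hinj) i
  have e : W' m = W i := by rw [hf m, hm]
  refine ⟨m, e, ?_⟩
  ext v
  rw [(h'.fr.blk m).toMd.mem_Z_iff, (h.fr.blk i).toMd.mem_Z_iff, e]

/-- **`V_i^R ⊆ V_P`**, every stage -/
theorem hV_of (h : Mul S P K' B ZJ L W Z C 2) (hk : 2 ≤ k) (hu : UniTwo B ZJ L W) {i j : Fin k} (_ : i ≠ j)
    {R : Subgroup G} (hRi : R ≤ centralizer (Z i : Set G))
    (hT0 : R ≤ normalizer ((B ⊓ centralizer (W j : Set G) : Subgroup G) : Set G)) :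
    ∀ r ∈ R, ∀ v ∈ W i, (∀ x ∈ B ⊓ centralizer (W j : Set G),
      x * (r * v * r⁻¹) * x⁻¹ * (r * v * r⁻¹)⁻¹ ∈ Z i) → r * v * r⁻¹ ∈ zl (S : Subgroup G) P := by
  intro r hr v hv hx
  have hbg := h.bg
  have hvV := hbg.fr.WV i hv
  have hQT : o2 P ≤ B ⊓ centralizer (W j : Set G) := fun x hx =>
    ⟨hbg.fr.QB hx, mem_centralizer_iff.2 fun w hw => (hbg.fr.cQ hx (hbg.fr.WV j hw)).symm⟩
  have hvT : v ∈ B ⊓ centralizer (W j : Set G) :=
    ⟨hbg.fr.VB hvV, mem_centralizer_iff.2 fun w hw => hbg.fr.Vc (hbg.fr.WV j hw) hvV⟩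
  have hrT : r * v * r⁻¹ ∈ B ⊓ centralizer (W j : Set G) := (mem_normalizer_iff.1 (hT0 hr) v).1 hvT
  have hrn : r ∈ normalizer (Z i : Set G) := centralizer_le_normalizer _ (hRi hr)
  have hQ : r * v * r⁻¹ ∈ o2 P := by
    refine (hbg.fr.mem_Q _ hrT.1).2 fun w hw => ?_
    have h1 := hbg.comm i hrn (one_mem (normalizer (Z i : Set G)))
    rw [cj_one] at h1
    exact (mem_centralizer_iff.1 (h1 ⟨v, hvV, rfl⟩) w hw).symm
  have h2 : (r * v * r⁻¹) ^ 2 = 1 := by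
    rw [conj_pow, hbg.fr.Vsq hvV, mul_one, mul_inv_cancel]
  obtain ⟨F, _, _, _, hF, ⟨N⟩⟩ := h.nat
  have hE : ∀ x ∈ o2 P, r * v * r⁻¹ * x * (r * v * r⁻¹)⁻¹ * x⁻¹ ∈ Z i := by
    intro x hx'
    have h3 := inv_mem (hx x (hQT hx'))
    have e : (x * (r * v * r⁻¹) * x⁻¹ * (r * v * r⁻¹)⁻¹)⁻¹ = r * v * r⁻¹ * x * (r * v * r⁻¹)⁻¹ * x⁻¹ := by group
    rwa [e] at h3
  cases h.stg with
  | neg hj =>
    have hJ : HypJ S P := ⟨h.hyp.toHypN, hj⟩
    obtain ⟨L', Z', A, hB, -⟩ := exists_bs hJ hk N.toNatK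
    rw [hF] at hB
    have hl : Line S P L' _ Z' _ A 2 := ⟨hB.hyp, hB.fr, hB.two⟩
    have hZJ : Z i ≤ zj (S : Subgroup G) := hbg.fr.Z_le i
    have hZ2 : Nat.card (Z i) = 2 := hbg.fr.cardZ i
    obtain ⟨z, hz, hz1⟩ : ∃ z ∈ Z i, z ≠ 1 := by
      by_contra hcon
      push Not at hcon
      exact hbg.Z_ne i ((eq_bot_iff_forall _).2 hcon)
    have h5 := mt (hB.fr.C0 z (hbg.fr.ZV i hz)) hz1
    push Not at h5
    obtain ⟨m, hm⟩ := h5
    refine hl.fix (i := m) hZJ ?_ hQ h2 hE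
    rw [eq_bot_iff]
    rintro x ⟨hx1, hx2⟩
    rw [mem_bot]
    by_contra hne
    exact hm (OM.UniPlus.eq_of_card_two hZ2 hx1 hz hne hz1 ▸ hx2)
  | lev n hall hn hn1 =>
    obtain ⟨M, L', Z', A, -, hfr, hbg', -⟩ := Lev.Main.bg_lev h.hyp.toHypN hn hn1 hk N rfl
    rw [hF] at hfr hbg'
    obtain ⟨m, -, hm⟩ := exists_idx hbg hu hbg' i
    have hlevQ := hn.trans hQT
    have hX : zc (lev (S : Subgroup G) n) ≤ lev (S : Subgroup G) n := MinSimple.VModule.zc_le _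
    have hrl : r ∈ normalizer (lev (S : Subgroup G) n : Set G) := by
      rw [mem_normalizer_iff_cj]
      refine (lev_wc n).eq r ?_
      refine (cj_mono r hlevQ).trans ?_
      rw [cj_eq_of_mem_normalizer (hT0 hr)]
      exact inf_le_left.trans hbg.BS
    have hrX : r ∈ normalizer (zc (lev (S : Subgroup G) n) : Set G) := NO3S.Level.normalizer_le_zc _ hrl
    refine FixXQ.fixX hfr (hX.trans (hn.trans hbg.fr.QB)) m ((mem_normalizer_iff.1 hrX v).1 (hfr.VX hvV)) ?_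
    intro o ho
    rw [hm]
    exact hx o (hQT ho)

/-- **(U)**, every stage: `R` a minimal parabolic over `B` in `Y`, normalising `V_j`, moving `Z j`, fixes `V_i` modulo
`Z^j`. -/
theorem UIn.uni_of {i j : Fin k} {Y : Subgroup G} (u : UIn S P B ZJ L W Z C i j Y) (h : Mul S P K' B ZJ L W Z C 2)
    (hk : 2 ≤ k) (hu : UniTwo B ZJ L W) {R : Subgroup G} (hmin : IsMinPar B R) (hRY : R ≤ Y)
    (hRW : R ≤ normalizer (W j : Set G)) (hmv : ¬ R ≤ centralizer (Z j : Set G)) :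
    ∀ r ∈ R, ∀ v ∈ W i, r * v * r⁻¹ * v⁻¹ ∈ Zo Z j := by
  have hsylR : Syl B R := ⟨hmin.le, u.syl.2.1, fun Q hQ h2 hle => u.syl.2.2 Q (hQ.trans hRY) h2 hle⟩
  have hT0 := norm_T0 hsylR hmin hRW (u.bg.fr.blk j).ZV
    (fun b hb => mem_centralizer_iff.2 fun z hz => ((u.bg.fr.blk j).cZ b hb z hz).symm) hmv
  exact fun r hr => (u.uni hmin hRY hRW hmv (hV_of h hk hu u.ij (hRY.trans (u.cen i u.ij)) hT0) hr).2

/-- `N_Y(B)` fixes `V_i` modulo `Z^j` -/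
theorem UIn.nB_of {i j : Fin k} {Y : Subgroup G} (u : UIn S P B ZJ L W Z C i j Y) :
    ∀ g ∈ Y ⊓ normalizer (B : Set G), ∀ v ∈ W i, g * v * g⁻¹ * v⁻¹ ∈ Zo Z j :=
  fun _ hg => (u.nB hg).2

/-- the stabiliser of `V_i Z^j / Z^j` (elementwise) normalises `V_i` -/
theorem UIn.G0_norm {i j : Fin k} {Y : Subgroup G} (u : UIn S P B ZJ L W Z C i j Y) :
    UIn.G0 Y (W i) (Zo Z j) u.cenZo ≤ normalizer (W i : Set G) := by
  have hZi := le_Zo_of (Z := Z) u.ij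
  have hsyl : Syl B (UIn.G0 Y (W i) (Zo Z j) u.cenZo) :=
    ⟨u.B_G0, u.syl.2.1, fun Q hQ h2 hle => u.syl.2.2 Q (hQ.trans fun g hg => hg.1) h2 hle⟩
  -- `K = {g | [g, V_i] ≤ Z i}`
  let K : Subgroup G :=
    { carrier := {g | g ∈ Y ∧ ∀ v ∈ W i, g * v * g⁻¹ * v⁻¹ ∈ Z i}
      one_mem' := ⟨one_mem _, fun v _ => by
        have e : 1 * v * 1⁻¹ * v⁻¹ = 1 := by group
        rw [e]; exact one_mem _⟩
      mul_mem' := by
        rintro a b ⟨ha, ha'⟩ ⟨hb, hb'⟩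
        refine ⟨mul_mem ha hb, fun v hv => ?_⟩
        have h1 := mem_centralizer_iff.1 (u.cen i u.ij ha) _ (hb' v hv)
        have e : a * b * v * (a * b)⁻¹ * v⁻¹ = (a * (b * v * b⁻¹ * v⁻¹)) * a⁻¹ * (a * v * a⁻¹ * v⁻¹) := by group
        rw [e, ← h1, mul_inv_cancel_right]
        exact mul_mem (hb' v hv) (ha' v hv)
      inv_mem' := by
        rintro a ⟨ha, ha'⟩
        refine ⟨inv_mem ha, fun v hv => ?_⟩
        have h1 := mem_centralizer_iff.1 (u.cen i u.ij (inv_mem ha)) _ (inv_mem (ha' v hv))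
        have e : a⁻¹ * v * a⁻¹⁻¹ * v⁻¹ = a⁻¹ * (a * v * a⁻¹ * v⁻¹)⁻¹ * a := by group
        rw [e, ← h1, inv_mul_cancel_right]
        exact inv_mem (ha' v hv) }
  have hcen := u.cenZo
  have key : UIn.G0 Y (W i) (Zo Z j) u.cenZo ≤ K := by
    refine le_of_sq hsyl (fun b hb => ⟨u.syl.1 hb, fun v hv => (u.bg.fr.blk i).com b hb v hv⟩) ?_ ?_
    · intro n hn k hk _
      refine ⟨mul_mem (mul_mem hn.1 hk.1) (inv_mem hn.1), fun v hv => ?_⟩
      have hf := (inv_mem hn : n⁻¹ ∈ UIn.G0 Y (W i) (Zo Z j) u.cenZo).2 v hv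
      have hζ := hk.2 v hv
      set f := n⁻¹ * v * n⁻¹⁻¹ * v⁻¹ with hfe
      set ζ := k * v * k⁻¹ * v⁻¹ with hζe
      have h1 : f * k = k * f := mem_centralizer_iff.1 (hcen hk.1) f hf
      have h2 : ζ * n = n * ζ := mem_centralizer_iff.1 (hcen hn.1) ζ (hZi hζ)
      have h3 : f * ζ = ζ * f := u.bg.fr.Vc (u.Zo_V hf) (u.Zo_V (hZi hζ))
      have e1 : n⁻¹ * v * n = f * v := by rw [hfe]; group
      have e2 : k * v * k⁻¹ = ζ * v := by rw [hζe]; group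
      have e3 : n * k * n⁻¹ * v * (n * k * n⁻¹)⁻¹ * v⁻¹ = ζ := by
        calc n * k * n⁻¹ * v * (n * k * n⁻¹)⁻¹ * v⁻¹ = n * (k * (n⁻¹ * v * n) * k⁻¹) * n⁻¹ * v⁻¹ := by group
          _ = n * (k * (f * v) * k⁻¹) * n⁻¹ * v⁻¹ := by rw [e1]
          _ = n * ((k * f) * v * k⁻¹) * n⁻¹ * v⁻¹ := by group
          _ = n * ((f * k) * v * k⁻¹) * n⁻¹ * v⁻¹ := by rw [h1]
          _ = n * (f * (k * v * k⁻¹)) * n⁻¹ * v⁻¹ := by group
          _ = n * (f * (ζ * v)) * n⁻¹ * v⁻¹ := by rw [e2]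
          _ = n * ((f * ζ) * v) * n⁻¹ * v⁻¹ := by group
          _ = n * ((ζ * f) * v) * n⁻¹ * v⁻¹ := by rw [h3]
          _ = (n * ζ) * (f * v) * n⁻¹ * v⁻¹ := by group
          _ = (ζ * n) * (f * v) * n⁻¹ * v⁻¹ := by rw [h2]
          _ = (ζ * n) * (n⁻¹ * v * n) * n⁻¹ * v⁻¹ := by rw [e1]
          _ = ζ := by group
      rw [e3]
      exact hζ
    · intro n hn
      refine ⟨mul_mem hn.1 hn.1, fun v hv => ?_⟩
      have hf := hn.2 v hv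
      obtain ⟨f, hfe⟩ : ∃ f, f = n * v * n⁻¹ * v⁻¹ := ⟨_, rfl⟩
      rw [← hfe] at hf
      have h1 : f * n = n * f := mem_centralizer_iff.1 (hcen hn.1) f hf
      have e1 : n * v * n⁻¹ = f * v := by rw [hfe]; group
      have e3 : n * n * v * (n * n)⁻¹ * v⁻¹ = f ^ 2 := by
        calc n * n * v * (n * n)⁻¹ * v⁻¹ = n * (n * v * n⁻¹) * n⁻¹ * v⁻¹ := by group
          _ = n * (f * v) * n⁻¹ * v⁻¹ := by rw [e1]
          _ = (n * f) * v * n⁻¹ * v⁻¹ := by group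
          _ = (f * n) * v * n⁻¹ * v⁻¹ := by rw [h1]
          _ = f * (n * v * n⁻¹) * v⁻¹ := by group
          _ = f * (f * v) * v⁻¹ := by rw [e1]
          _ = f ^ 2 := by rw [pow_two]; group
      rw [e3, u.bg.fr.Vsq (u.Zo_V hf)]
      exact one_mem _
  intro g hg
  have h1 := key hg
  rw [mem_normalizer_iff_cj]
  refine Subgroup.eq_of_le_of_card_ge ?_ (by rw [card_cj])
  rintro _ ⟨v, hv, rfl⟩
  have h2 := mul_mem ((u.bg.fr.blk i).ZV (h1.2 v hv)) hv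
  rwa [inv_mul_cancel_right] at h2

end Cfsg.Agent.Omega.EK3.UFix
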