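import Cfsg.Agent.Omega.EK3.Glue
import Cfsg.Agent.Omega.EK3.UFixX
import Cfsg.Agent.Omega.EK3.OfMul

/-!
# (E), `k ≥ 3`, `q = 2`: the end over `Mul` (helper520)

* `Fr.uIn` : the frame of `EK3.UFix` from `EK3.Fr`;
* `hU_of` : (U) from `Mul` and `UniTwo`;
* **`efrK_of`** : `OfMul.EFrK K` from THEOREM ML and THEOREM KL; **`eOf_three_of`** : `EOf K (3 ≤ k ∧ q = 2)`.
-/

set_option autoImplicit false
set_option linter.unusedSectionVars false

namespace Cfsg.Agent.Omega.EK3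

open Subgroup Cfsg Cfsg.Agent.ZN.ChoiceBase
open Cfsg.Agent.ZN (zc zl o2)
open Cfsg.Agent.Omega.OM Cfsg.Agent.Omega.OM.Uni
open Cfsg.Agent.Omega.NO3S.EThree.Frame
open Cfsg.Agent.Omega.Node.MultiOf
open Cfsg.Agent.Omega.Frame (Cls)
open Cfsg.Agent.MinSimple.MinParabolic (IsMinPar)

universe u

theorem Fr.uIn {G : Type u} [Group G] [Finite G] {S : Sylow 2 G} {P K B ZJ : Subgroup G} {k : ℕ}
    {L W Z C : Fin k → Subgroup G} {z : Fin k → G} (h : Fr S P K B ZJ L W Z C z) {i j : Fin k} (hij : i ≠ j) :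
    UFix.UIn S P B ZJ L W Z C i j (YY z j) where
  bg := h.bg
  ij := hij
  cen := fun l hl => by
    intro y hy
    rw [mem_centralizer_iff]
    intro x hx
    rcases (h.hz l x).1 hx with rfl | rfl
    · simp
    · exact (mem_YY.1 hy l hl).symm
  PY := fun x hx => mem_YY.2 fun l hl =>
    (mem_centralizer_iff.1 hx.2 _ (h.bg.fr.WjC j l hl.symm (h.mem_W l))).symm
  syl := h.syl j

theorem hU_of {G : Type u} [Group G] [Finite G] {S : Sylow 2 G} {P K B ZJ : Subgroup G} {k : ℕ}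
    {L W Z C : Fin k → Subgroup G} {z : Fin k → G} (h : Fr S P K B ZJ L W Z C z) (hM : Mul S P K B ZJ L W Z C 2)
    (hu : UniTwo B ZJ L W) : HU B W Z z := fun i j hij =>
  ⟨fun R hR hRY hRW hmv =>
    (h.uIn hij).uni_of hM (by have := h.three; omega) hu hR hRY hRW hmv, (h.uIn hij).nB_of⟩

/-- **(E), `k ≥ 3`, `q = 2`, over `Mul`, UNI+ and block generation.** -/
theorem efrK_of (hML : ML.Final.MLK.{u, u}) (hKL : KL.Quo.NoInp.{u, u}) (K : Cls.{u}) : OfMul.EFrK K := by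
  intro G _ _ _ S P K' B ZJ k L W Z C hk hM hn hu hb
  obtain ⟨z, h⟩ := exists_fr hM hk hu hb
  exact (h.false hML hKL (nonloc_of hu hn) (hU_of h hM hu)).elim

/-- **(E), `k ≥ 3`, `q = 2`.** -/
theorem eOf_three_of (hML : ML.Final.MLK.{u, u}) (hKL : KL.Quo.NoInp.{u, u}) {K : Cls.{u}}
    (hL : OfMul.UniLevK K) : EOf K fun k q => 3 ≤ k ∧ q = 2 :=
  OfMul.eOf_three hL (efrK_of hML hKL K)

end Cfsg.Agent.Omega.EK3
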