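import Cfsg.Agent.Omega.EK3.ClQ
import Cfsg.Agent.Omega.EK3.BlkUniQ
import Cfsg.Agent.Omega.TC.OfMul

/-!
# The frame of row (8), `EOf (3 ≤ k ∧ 4 ≤ q)` (TEXT K3Q, bb #22703): `Y_j = C_G(Z_l : l ≠ j)`

`YY Z j = C_G(Z_l : l ≠ j)`, `D = C_G(Z_J)`, `NN Z j = ⟨Z_j^{Y_j}⟩`, `T` a Sylow 2-subgroup of `Y_j` over `B`.

* `FrQ` : the frame: `Bg`, `LB`, (TI), `UniTwo`, `BlkS`, `4 ≤ q`, `3 ≤ k`;
* `FrQ.D_le`, `FrQ.L_le`, `FrQ.stab` : `C_{Y_j}(Z_j) = D`;  `FrQ.norm_B`, `FrQ.norm_ZJ` : `N(B)`, `N(Z_J)` in `Y_j`;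
* `FrQ.exists_T`, `FrQ.T_norm`, `FrQ.T_W`, `FrQ.exists_m` : Sylow groups of `Y_j`, the vector `m ∈ C_{Z_j}(T)`;
* `FrQ.char2`, `FrQ.par` : **the minimal parabolics over `T` in `Y_j`**;  `FrQ.Y_le` : `Y_j = ⟨D, L_j, N_{Y_j}(B)⟩`;
* `FrQ.W_le_N`, `FrQ.NN_le_zc`, `FrQ.NN_comm`, `FrQ.NN_sq`, `FrQ.Q_eq` : `O₂(Y_j) = O₂(D) ∩ C(N_j)`.
-/

set_option autoImplicit false
set_option linter.unusedVariables false
set_option linter.unusedSectionVars false

namespace Cfsg.Agent.Omega.EK3.QI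

open Subgroup Cfsg Cfsg.Agent.ZN.ChoiceBase Cfsg.Agent.Omega.EK3.Q
open Cfsg.Agent.ZN (jj zj bau zc zl o2)
open Cfsg.Agent.ZN.ChoiceSit (Syl exists_syl syl_conj isPGroup_o2 le_o2 le_normalizer_o2 o2_le_syl syl_not_dvd)
open Cfsg.Agent.MinSimple.MinParabolic (IsMinPar)
open Cfsg.Agent.Omega
open Cfsg.Agent.Omega.OM
open Cfsg.Agent.Omega.OM.Uni (FB Fr)
open Cfsg.Agent.Omega.OM.UniPlus (NB)
open Cfsg.Agent.Omega.NO3S.EThree.Frame
open Cfsg.Agent.Omega.NO3S.EMany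
open Cfsg.Agent.Omega.Node.MultiOf (UniTwo FBl)
open Cfsg.Agent.Omega.TC.OfMul (BlkS)

universe u

variable {G : Type u} [Group G]

/-- `C_G(Z_l : l ≠ j)` -/
def YY {k : ℕ} (Z : Fin k → Subgroup G) (j : Fin k) : Subgroup G := ⨅ l : {l : Fin k // l ≠ j}, centralizer (Z l : Set G)

theorem mem_YY {k : ℕ} {Z : Fin k → Subgroup G} {j : Fin k} {x : G} :
    x ∈ YY Z j ↔ ∀ l, l ≠ j → ∀ z ∈ Z l, x * z = z * x := by
  unfold YY
  rw [mem_iInf]
  constructor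
  · exact fun h l hl z hz => (mem_centralizer_iff.1 (h ⟨l, hl⟩) z hz).symm
  · exact fun h l => mem_centralizer_iff.2 fun z hz => (h l l.2 z hz).symm

theorem YY_le {k : ℕ} {Z : Fin k → Subgroup G} {j l : Fin k} (hl : l ≠ j) : YY Z j ≤ centralizer (Z l : Set G) :=
  fun _ hx => mem_centralizer_iff.2 fun z hz => (mem_YY.1 hx l hl z hz).symm

theorem YY_le_N {k : ℕ} {Z : Fin k → Subgroup G} {j l : Fin k} (hl : l ≠ j) : YY Z j ≤ normalizer (Z l : Set G) :=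
  (YY_le hl).trans (centralizer_le_normalizer _)

/-- `⟨Z_j^{Y_j}⟩` -/
def NN {k : ℕ} (Z : Fin k → Subgroup G) (j : Fin k) : Subgroup G := cls (Z j) (YY Z j)

/-- **The frame of row (8).** -/
structure FrQ [Finite G] (S : Sylow 2 G) (P K B ZJ : Subgroup G) {k : ℕ} (L W Z C : Fin k → Subgroup G) (q : ℕ) :
    Prop where
  bg : Bg S P B ZJ L W Z C q
  lb : LevD.LB S K B ZJ
  ti : ∀ i, TI (Z i)
  uni : UniTwo B ZJ L W
  blk : ∀ T : Subgroup G, IsPGroup 2 T → B ≤ T → BlkS K B T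
  q4 : 4 ≤ q
  three : 3 ≤ k

namespace FrQ

variable [Finite G] {S : Sylow 2 G} {P K B ZJ : Subgroup G} {k : ℕ} {L W Z C : Fin k → Subgroup G} {q : ℕ}
  (h : FrQ S P K B ZJ L W Z C q)
include h

theorem D_le (j : Fin k) : centralizer (ZJ : Set G) ≤ YY Z j := fun x hx =>
  mem_YY.2 fun l _ z hz => (mem_centralizer_iff.1 hx z (h.bg.fr.Z_le l hz)).symm

theorem L_le (j : Fin k) : L j ≤ YY Z j := fun x hx => mem_YY.2 fun l hl z hz =>
  h.bg.fr.LC j x hx z (h.bg.fr.Z_le l hz) (h.bg.fr.WjC j l hl.symm ((h.bg.fr.blk l).ZV hz))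

/-- `Z_J` is generated by the `Z_l` -/
theorem ZJ_le : ZJ ≤ ⨆ l, Z l := by
  have hk := h.three
  let i : Fin k := ⟨0, by omega⟩
  intro z hz
  obtain ⟨w, hw, c, hc, hcJ, rfl⟩ := h.bg.fr.split_ZJ i hz
  refine mul_mem ((le_iSup Z i) hw) ?_
  have h1 := h.bg.ZC_le i (mem_inf.2 ⟨hcJ, hc⟩)
  exact (iSup_le fun l : {l : Fin k // l ≠ i} => le_iSup Z (l : Fin k)) h1

theorem stab (j : Fin k) : YY Z j ⊓ centralizer (Z j : Set G) = centralizer (ZJ : Set G) := by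
  apply le_antisymm
  · rintro x ⟨hx, hxj⟩
    have h1 : (⨆ l, Z l) ≤ centralizer ({x} : Set G) := iSup_le fun l z hz => by
      rw [mem_centralizer_singleton_iff]
      by_cases hl : l = j
      · subst hl
        exact mem_centralizer_iff.1 hxj z hz
      · exact (mem_YY.1 hx l hl z hz).symm
    refine mem_centralizer_iff.2 fun z hz => ?_
    exact mem_centralizer_singleton_iff.1 (h1 (h.ZJ_le hz))
  · exact le_inf (h.D_le j) (centralizer_le (h.bg.fr.Z_le j))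

/-- `N_{Y_j}(B)` normalises all `Z l`, `W l` -/
theorem norm_B (j : Fin k) {n : G} (hn : n ∈ YY Z j) (hB : n ∈ normalizer (B : Set G)) (l : Fin k) :
    n ∈ normalizer (Z l : Set G) ∧ n ∈ normalizer (W l : Set G) := by
  have h1 : cj n (Z l) = Z l := by
    by_cases hl : l = j
    · subst hl
      obtain ⟨m, hm, -⟩ := (h.bg.norm hB).2 l
      by_cases hml : m = l
      · rw [hm, hml]
      · exfalso
        have h2 : cj n (Z m) = Z m := mem_normalizer_iff_cj.1 (YY_le_N hml hn)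
        have h3 := hm.trans h2.symm
        have h4 := congrArg (cj n⁻¹) h3
        rw [cj_inv_cj, cj_inv_cj] at h4
        exact hml (h.bg.Z_inj h4).symm
    · exact mem_normalizer_iff_cj.1 (YY_le_N hl hn)
  exact ⟨mem_normalizer_iff_cj.2 h1, mem_normalizer_iff_cj.2 (h.bg.cj_W hB h1)⟩

/-- `N_{Y_j}(Z_J) = D N_{Y_j}(B)` -/
theorem norm_ZJ (j : Fin k) {y : G} (hy : y ∈ YY Z j) (hJ : y ∈ normalizer (ZJ : Set G)) :
    ∃ d ∈ centralizer (ZJ : Set G), ∃ n ∈ YY Z j, n ∈ normalizer (B : Set G) ∧ y = d * n := by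
  obtain ⟨d, hd, hdy⟩ := FourQ.exists_frattini h.bg hJ
  exact ⟨d⁻¹, inv_mem hd, d * y, mul_mem (h.D_le j hd) hy, hdy, by group⟩

theorem norm_Z (j : Fin k) {y : G} (hy : y ∈ YY Z j) (hJ : y ∈ normalizer (ZJ : Set G)) : y ∈ normalizer (Z j : Set G) := by
  obtain ⟨d, hd, n, hn, hnB, rfl⟩ := h.norm_ZJ j hy hJ
  refine mul_mem ?_ (h.norm_B j hn hnB j).1
  exact centralizer_le_normalizer _ (centralizer_le (h.bg.fr.Z_le j) hd)

/-- an element of `Y_j` normalising `Z_j` normalises `Z_J` -/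
theorem norm_ZJ' (j : Fin k) {y : G} (hy : y ∈ YY Z j) (hj : y ∈ normalizer (Z j : Set G)) :
    y ∈ normalizer (ZJ : Set G) := by
  have h1 : ZJ = ⨆ l, Z l := le_antisymm h.ZJ_le (iSup_le h.bg.fr.Z_le)
  rw [mem_normalizer_iff_cj, h1]
  have h2 : cj y (⨆ l, Z l) = ⨆ l, cj y (Z l) := Subgroup.map_iSup _ _
  rw [h2]
  congr 1
  funext l
  by_cases hl : l = j
  · rw [hl]; exact mem_normalizer_iff_cj.1 hj
  · exact mem_normalizer_iff_cj.1 (YY_le_N hl hy)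

/-! ### Sylow groups -/

theorem B_le (j : Fin k) : B ≤ YY Z j := fun b hb => mem_YY.2 fun l _ z hz => (h.bg.fr.blk l).cZ b hb z hz

theorem exists_T (j : Fin k) : ∃ T, Syl T (YY Z j) ∧ B ≤ T := exists_syl h.bg.bau_two (h.B_le j)

theorem char2 (j : Fin k) : YY Z j ⊓ centralizer (o2 (YY Z j) : Set G) ≤ o2 (YY Z j) := by
  have hk := h.three
  obtain ⟨i, hi⟩ := h.bg.two j
  -- `A = ∏_{l ≠ j} Z_l`
  set A : Subgroup G := ⨆ l : {l : Fin k // l ≠ j}, Z l with hA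
  have hAJ : A ≤ ZJ := iSup_le fun l => h.bg.fr.Z_le l
  have hA2 : IsPGroup 2 A := h.bg.bau_two.to_le (hAJ.trans (h.bg.fr.ZJV.trans h.bg.fr.VB))
  have hA1 : A ≠ ⊥ := fun e => h.bg.Z_ne i (le_bot_iff.1 (e ▸ le_iSup (fun l : {l : Fin k // l ≠ j} => Z l) ⟨i, hi⟩))
  have hY : YY Z j = centralizer (A : Set G) := by
    ext x
    rw [mem_YY, mem_centralizer_iff]
    constructor
    · intro hx z hz
      have h1 : A ≤ centralizer ({x} : Set G) := iSup_le fun l z hz => by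
        rw [mem_centralizer_singleton_iff]
        exact (hx l l.2 z hz).symm
      exact mem_centralizer_singleton_iff.1 (h1 hz)
    · exact fun hx l hl z hz => (hx z ((le_iSup (fun l : {l : Fin k // l ≠ j} => Z l) ⟨l, hl⟩) hz)).symm
  rw [hY]
  exact Swap.char2_cent h.bg.hyp.ctx.char2 hA2 hA1

section T

variable {j : Fin k} {T : Subgroup G} (hT : Syl T (YY Z j)) (hBT : B ≤ T)
include hT hBT

theorem T_norm_B : T ≤ normalizer (B : Set G) := h.bg.le_norm_B hT.2.1 hBT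

theorem T_Z (l : Fin k) : T ≤ normalizer (Z l : Set G) := fun _ ht => (h.norm_B j (hT.1 ht) (h.T_norm_B hT hBT ht) l).1

theorem T_W (l : Fin k) : T ≤ normalizer (W l : Set G) := fun _ ht => (h.norm_B j (hT.1 ht) (h.T_norm_B hT hBT ht) l).2

omit hBT in
/-- a 2-subgroup over `T` of a subgroup of `Y_j` -/
theorem syl_of {R : Subgroup G} (hTR : T ≤ R) (hR : R ≤ YY Z j) : Syl T R :=
  ⟨hTR, hT.2.1, fun Q hQ h2 hle => hT.2.2 Q (hQ.trans hR) h2 hle⟩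

/-- the vector `m` -/
theorem exists_m : ∃ m ∈ Z j, m ≠ 1 ∧ T ≤ centralizer ({m} : Set G) := by
  obtain ⟨m, hm, hm1, hf⟩ := Four.exists_fix hT.2.1 (h.bg.Z_two j) (h.bg.Z_ne j)
    fun x hx v hv => (mem_normalizer_iff.1 (h.T_Z hT hBT j hx) v).1 hv
  refine ⟨m, hm, hm1, fun t ht => ?_⟩
  rw [mem_centralizer_singleton_iff]
  exact mul_inv_eq_iff_eq_mul.1 (hf t ht)

omit hT hBT in
/-- (TI) -/
theorem cent_m {m : G} (hm : m ∈ Z j) (hm1 : m ≠ 1) : centralizer ({m} : Set G) ≤ normalizer (Z j : Set G) := by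
  intro x hx
  rw [mem_normalizer_iff_cj]
  refine h.ti j x fun hbot => hm1 ?_
  have h1 : m ∈ cj x (Z j) ⊓ Z j := by
    refine mem_inf.2 ⟨⟨m, hm, ?_⟩, hm⟩
    have := mem_centralizer_singleton_iff.1 hx
    show x * m * x⁻¹ = m
    rw [this]; group
  rwa [hbot, mem_bot] at h1

omit h in
theorem zc_of {m : G} (hmT : m ∈ T) (hm2 : m ^ 2 = 1) (hc : T ≤ centralizer ({m} : Set G)) : m ∈ zc T :=
  mem_zc.2 ⟨hmT, hm2, fun x hx => mem_centralizer_singleton_iff.1 (hc hx)⟩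

omit hT in
theorem m_zc {m : G} (hm : m ∈ Z j) (hc : T ≤ centralizer ({m} : Set G)) : m ∈ zc T :=
  mem_zc.2 ⟨hBT ((h.bg.fr.blk j).VB ((h.bg.fr.blk j).ZV hm)), h.bg.fr.Vsq (h.bg.fr.ZV j hm),
    fun x hx => mem_centralizer_singleton_iff.1 (hc hx)⟩

/-- **The minimal parabolics over `T` in `Y_j`.** -/
theorem par {R : Subgroup G} (hR : IsMinPar T R) (hRY : R ≤ YY Z j) :
    R ≤ normalizer (Z j : Set G) ∨ ∃ L' : Subgroup G, L' ≤ R ∧ R ≤ L' ⊔ T ∧ NB B L' (W j) (Z j) q ∧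
      L' ≤ L j ⊔ centralizer ((W j ⊔ ZJ : Subgroup G) : Set G) := by
  have hTR := h.syl_of hT hR.le hRY
  by_cases hK : K ≤ o2 R
  · left
    have h1 : R ≤ normalizer (ZJ : Set G) :=
      (le_normalizer_o2 R).trans (h.lb.nrm _ (isPGroup_o2 R) hK)
    exact fun r hr => h.norm_Z j (hRY hr) (h1 hr)
  obtain ⟨m, hm, hm1, hmT⟩ := h.exists_m hT hBT
  by_cases hZ : R ≤ centralizer (zc T : Set G)
  · left
    refine (hZ.trans (centralizer_le ?_)).trans (h.cent_m hm hm1)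
    exact Set.singleton_subset_iff.2 (h.m_zc hBT hm hmT)
  right
  have hc : R ⊓ centralizer (o2 R : Set G) ≤ o2 R :=
    MinSimple.Basic.char2_of_le (h.char2 j) ((o2_le_syl hT).trans hR.le) hRY
  obtain ⟨L', V', hbl, h1, h2⟩ := h.blk T hT.2.1 hBT R hR hTR hc hK hZ
  obtain ⟨i, rfl, hle⟩ := h.uni L' _ hbl
  obtain ⟨⟨Z', q', hF⟩, -⟩ := hbl
  have hZ' : Z' = Z i := by
    ext x
    rw [hF.toMd.mem_Z_iff, (h.bg.fr.blk i).toMd.mem_Z_iff]
  subst hZ'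
  have hq' : q' = q := by
    have h3 := hF.card
    rw [(h.bg.fr.blk i).card, h.bg.fr.cardZ] at h3
    have h4 := h.q4
    exact (Nat.eq_of_mul_eq_mul_left (by omega) h3).symm
  subst hq'
  have hN : NB B L' (W i) (Z i) q' := ⟨hF, h.bg.fr.cardZ i⟩
  have hij : i = j := by
    by_contra hij
    obtain ⟨l, hl, hne⟩ := AltQ.exists_ne hN
    exact hne (mem_normalizer_iff_cj.1 (YY_le_N hij (hRY (h1 hl))))
  subst hij
  exact ⟨L', h1, h2, hN, hle⟩

/-- `Y_j = ⟨D, L_j, N_{Y_j}(B)⟩` -/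
theorem Y_le' : YY Z j ≤ centralizer (ZJ : Set G) ⊔ L j ⊔ (YY Z j ⊓ normalizer (B : Set G)) := by
  have hTB := h.T_norm_B hT hBT
  refine MinSimple.MinParabolic.le_of_forall hT.1 ?_ fun R hR hRY => ?_
  · rintro n ⟨hn, hnT⟩
    refine mem_sup_right (mem_inf.2 ⟨hn, ?_⟩)
    rw [mem_normalizer_iff_cj]
    refine h.bg.wc T hT.2.1 hBT n ?_
    rw [← mem_normalizer_iff_cj.1 hnT]
    exact cj_mono n hBT
  · rcases h.par hT hBT hR hRY with h1 | ⟨L', h1, h2, -, h3⟩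
    · intro y hy
      obtain ⟨d, hd, n, hn, hnB, rfl⟩ := h.norm_ZJ j (hRY hy) (h.norm_ZJ' j (hRY hy) (h1 hy))
      exact mul_mem (mem_sup_left (mem_sup_left hd)) (mem_sup_right (mem_inf.2 ⟨hn, hnB⟩))
    · refine h2.trans (sup_le (h3.trans ?_) ?_)
      · refine sup_le (le_sup_of_le_left le_sup_right) (le_sup_of_le_left (le_sup_of_le_left ?_))
        exact centralizer_le (by exact_mod_cast (le_sup_right : ZJ ≤ W j ⊔ ZJ))
      · exact le_sup_of_le_right (le_inf hT.1 hTB)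

end T

theorem Y_le (j : Fin k) : YY Z j ≤ centralizer (ZJ : Set G) ⊔ L j ⊔ (YY Z j ⊓ normalizer (B : Set G)) := by
  obtain ⟨T, hT, hBT⟩ := h.exists_T j
  exact h.Y_le' hT hBT

/-! ### `N_j` -/

theorem Z_le_N (j : Fin k) : Z j ≤ NN Z j := le_cls _ _

theorem N_norm (j : Fin k) : YY Z j ≤ normalizer (NN Z j : Set G) := cls_self_norm _ _

theorem W_le_N (j : Fin k) : W j ≤ NN Z j := by
  obtain ⟨k, hk, hne⟩ := AltQ.exists_ne (FourQ.nb h.bg j)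
  rw [← AltQ.sup_eq (FourQ.nb h.bg j) hk hne]
  exact sup_le (h.Z_le_N j) (cj_le_cls (h.L_le j hk))

theorem NN_le_zc (j : Fin k) : NN Z j ≤ zc (o2 (YY Z j)) := by
  obtain ⟨T, hT, hBT⟩ := h.exists_T j
  obtain ⟨m, hm, hm1, hmT⟩ := h.exists_m hT hBT
  have h1 := MinSimple.VModule.zl_le_zc hT.1 hT.2.1 (syl_not_dvd hT) (h.char2 j)
  have h2 : m ∈ zl T (YY Z j) := MinSimple.VModule.zc_le_zl _ _ (h.m_zc hBT hm hmT)
  refine cls_min ?_ ((le_normalizer_o2 _).trans (MinSimple.VModule.normalizer_le_normalizer_zc _))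
  refine le_trans (fun z hz => ?_) h1
  by_cases hz1 : z = 1
  · rw [hz1]; exact one_mem _
  obtain ⟨l, hl, e⟩ := AltQ.trL (FourQ.nb h.bg j) (FourQ.rt h.bg j) ((h.bg.fr.blk j).ZV hz) hz1 hm hm1
  rw [← e]
  exact (mem_normalizer_iff.1 (MinSimple.VModule.le_normalizer_zl T (YY Z j) (h.L_le j hl)) m).1 h2

theorem NN_sq (j : Fin k) {x : G} (hx : x ∈ NN Z j) : x ^ 2 = 1 := (mem_zc.1 (h.NN_le_zc j hx)).2.1

theorem NN_comm (j : Fin k) : NN Z j ≤ centralizer (NN Z j : Set G) := fun x hx =>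
  mem_centralizer_iff.2 fun y hy =>
    ((mem_zc.1 (h.NN_le_zc j hx)).2.2 y (mem_zc.1 (h.NN_le_zc j hy)).1)

theorem NN_le_o2 (j : Fin k) : NN Z j ≤ o2 (YY Z j) := fun x hx => (mem_zc.1 (h.NN_le_zc j hx)).1

theorem o2_cent_N (j : Fin k) : o2 (YY Z j) ≤ centralizer (NN Z j : Set G) := fun x hx =>
  mem_centralizer_iff.2 fun y hy => ((mem_zc.1 (h.NN_le_zc j hy)).2.2 x hx).symm

theorem o2_le_D (j : Fin k) : o2 (YY Z j) ≤ centralizer (ZJ : Set G) := by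
  rw [← h.stab j]
  exact le_inf (MinSimple.VModule.o2_le _) ((h.o2_cent_N j).trans (centralizer_le (h.Z_le_N j)))

/-- `O₂(Y_j) = O₂(D) ∩ C(N_j)` -/
theorem Q_eq (j : Fin k) : o2 (YY Z j) = o2 (centralizer (ZJ : Set G)) ⊓ centralizer (NN Z j : Set G) := by
  apply le_antisymm
  · refine le_inf (le_o2 (isPGroup_o2 _) (h.o2_le_D j) ?_) (h.o2_cent_N j)
    exact (h.D_le j).trans (le_normalizer_o2 _)
  · -- `C := C_{Y_j}(N_j) ≤ D`
    set C' : Subgroup G := YY Z j ⊓ centralizer (NN Z j : Set G) with hC'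
    have hCD : C' ≤ centralizer (ZJ : Set G) := by
      rw [← h.stab j]
      exact inf_le_inf_left _ (centralizer_le (h.Z_le_N j))
    have hCn : YY Z j ≤ normalizer (C' : Set G) := by
      intro y hy
      rw [mem_normalizer_iff_cj, hC', cj_inf, cj_eq_of_mem_normalizer (Subgroup.le_normalizer hy), cj_centralizer,
        cj_eq_of_mem_normalizer (h.N_norm j hy)]
    have h1 : o2 (centralizer (ZJ : Set G)) ⊓ centralizer (NN Z j : Set G) ≤ o2 C' := by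
      refine le_o2 ((isPGroup_o2 _).to_le inf_le_left) (inf_le_inf_right _ ((MinSimple.VModule.o2_le _).trans (h.D_le j))) ?_
      intro c hc
      rw [mem_normalizer_iff_cj, cj_inf, cj_eq_of_mem_normalizer (le_normalizer_o2 _ (hCD hc)), cj_centralizer,
        cj_eq_of_mem_normalizer (h.N_norm j hc.1)]
    refine h1.trans (le_o2 (isPGroup_o2 _) ((MinSimple.VModule.o2_le _).trans inf_le_left) ?_)
    intro y hy
    rw [mem_normalizer_iff_cj, ← pCore_cj, cj_eq_of_mem_normalizer (hCn hy)]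

end FrQ

end Cfsg.Agent.Omega.EK3.QI
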