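import Cfsg.Agent.Omega.OM.Uni

/-!
# LINE INEQUALITY (bb OMEGA #22703 (0''))

`W` abelian, generated by subgroups `V i`, each a module with one full root group (`Uni.Md`) for a group `B i ≥ A`.
Then `|A : C_A(W)| ≤ |W : C_W(A)|`.
-/

set_option autoImplicit false

namespace Cfsg.Agent.Omega.EK3

open Subgroup Cfsg Cfsg.Agent.ZN.ChoiceBase
open Cfsg.Agent.Omega.SQ1.Bau (card_sup_comm elem_comm)
open Cfsg.Agent.Omega.OM.Uni (Md)

universe u

variable {G : Type u} [Group G] [Finite G]

/-- **LINE INEQUALITY**: `|A| |C_W(A)| ≤ |W| |C_A(W)|`. -/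
theorem line_ineq {ι : Sort*} {B V Z : ι → Subgroup G} {q : ℕ} (hM : ∀ i, Md (B i) (V i) (Z i) q) {W : Subgroup G}
    (hVW : ∀ i, V i ≤ W) (hW : W ≤ ⨆ i, V i) (hWc : ∀ x ∈ W, ∀ y ∈ W, x * y = y * x) {A : Subgroup G}
    (hA : ∀ i, A ≤ B i) :
    Nat.card A * Nat.card ↥(W ⊓ centralizer (A : Set G)) ≤ Nat.card W * Nat.card ↥(A ⊓ centralizer (W : Set G)) := by
  induction hn : Nat.card A using Nat.strong_induction_on generalizing A with
  | _ n ih =>
    subst hn
    by_cases hcase : ∀ i, ∀ a ∈ A, ∀ v ∈ V i, a * v = v * a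
    · have h1 : A ≤ centralizer (W : Set G) := by
        have h2 : W ≤ centralizer (A : Set G) := hW.trans (iSup_le fun i v hv =>
          mem_centralizer_iff.2 fun a ha => hcase i a ha v hv)
        exact fun a ha => mem_centralizer_iff.2 fun w hw => (mem_centralizer_iff.1 (h2 hw) a ha).symm
      rw [inf_eq_left.2 h1, mul_comm (Nat.card W)]
      exact Nat.mul_le_mul_left _ (Subgroup.card_le_of_le inf_le_left)
    · push Not at hcase
      obtain ⟨i, a₀, ha₀, v₀, hv₀, hne⟩ := hcase
      set A₁ := A ⊓ centralizer (V i : Set G) with hA₁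
      set X := W ⊓ centralizer (A : Set G) with hX
      have hlt : Nat.card A₁ < Nat.card A := by
        rcases lt_or_eq_of_le (Subgroup.card_le_of_le (inf_le_left : A₁ ≤ A)) with h1 | h1
        · exact h1
        · exfalso
          have h2 : A₁ = A := Subgroup.eq_of_le_of_card_ge inf_le_left h1.ge
          rw [← h2] at ha₀
          exact hne (mem_centralizer_iff.1 ha₀.2 v₀ hv₀).symm
      have h1 := ih _ hlt (A := A₁) (fun j => inf_le_left.trans (hA j)) rfl
      have h2 : A₁ ⊓ centralizer (W : Set G) ≤ A ⊓ centralizer (W : Set G) := inf_le_inf_right _ inf_le_left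
      have h3 : Nat.card A ≤ q * Nat.card A₁ := (hM i).card_le (hA i)
      -- `|V X| ≥ q |X|`
      have h4 := card_sup_comm (A := V i) (B := X) fun x hx y hy => hWc x (hVW i hx) y (mem_inf.1 hy).1
      have h5 : V i ⊓ X ≤ Z i := by
        intro x hx
        have hx' := mem_inf.1 hx
        exact (hM i).mem_Z (hA i ha₀) (fun h => hne (h v₀ hv₀)) hx'.1
          (mem_centralizer_iff.1 (mem_inf.1 hx'.2).2 a₀ ha₀)
      have h6 : q * Nat.card X ≤ Nat.card ↥(V i ⊔ X) := by
        have hp : 0 < Nat.card (Z i) := Nat.card_pos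
        refine Nat.le_of_mul_le_mul_right ?_ hp
        calc q * Nat.card X * Nat.card (Z i) = Nat.card (V i) * Nat.card X := by rw [(hM i).card]; ring
          _ = Nat.card ↥(V i ⊔ X) * Nat.card ↥(V i ⊓ X) := h4.symm
          _ ≤ Nat.card ↥(V i ⊔ X) * Nat.card (Z i) := Nat.mul_le_mul_left _ (Subgroup.card_le_of_le h5)
      have h7 : V i ⊔ X ≤ W ⊓ centralizer (A₁ : Set G) := by
        refine sup_le (le_inf (hVW i) fun v hv => mem_centralizer_iff.2 fun a ha => ?_)
          (inf_le_inf_left _ (centralizer_le inf_le_left))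
        exact (mem_centralizer_iff.1 (mem_inf.1 ha).2 v hv).symm
      calc Nat.card A * Nat.card X ≤ (q * Nat.card A₁) * Nat.card X := Nat.mul_le_mul_right _ h3
        _ = Nat.card A₁ * (q * Nat.card X) := by ring
        _ ≤ Nat.card A₁ * Nat.card ↥(W ⊓ centralizer (A₁ : Set G)) :=
          Nat.mul_le_mul_left _ (h6.trans (Subgroup.card_le_of_le h7))
        _ ≤ Nat.card W * Nat.card ↥(A₁ ⊓ centralizer (W : Set G)) := h1
        _ ≤ _ := Nat.mul_le_mul_left _ (Subgroup.card_le_of_le h2)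

omit [Finite G] in
theorem card_mul_relIdx {H K : Subgroup G} (h : H ≤ K) : Nat.card H * H.relIndex K = Nat.card K := by
  rw [← Nat.card_congr (Subgroup.subgroupOfEquivOfLe h).toEquiv, relIndex, Subgroup.card_mul_index]

/-- LINE INEQUALITY, in terms of indices. -/
theorem line_relIndex {ι : Sort*} {B V Z : ι → Subgroup G} {q : ℕ} (hM : ∀ i, Md (B i) (V i) (Z i) q)
    {W : Subgroup G} (hVW : ∀ i, V i ≤ W) (hW : W ≤ ⨆ i, V i) (hWc : ∀ x ∈ W, ∀ y ∈ W, x * y = y * x)
    {A : Subgroup G} (hA : ∀ i, A ≤ B i) :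
    (centralizer (W : Set G)).relIndex A ≤ (centralizer (A : Set G)).relIndex W := by
  have h1 := line_ineq hM hVW hW hWc hA
  have h2 : Nat.card ↥(A ⊓ centralizer (W : Set G)) * (centralizer (W : Set G)).relIndex A = Nat.card A := by
    rw [inf_comm, ← Subgroup.inf_relIndex_right (centralizer (W : Set G)) A]
    exact card_mul_relIdx inf_le_right
  have h3 : Nat.card ↥(W ⊓ centralizer (A : Set G)) * (centralizer (A : Set G)).relIndex W = Nat.card W := by
    rw [inf_comm, ← Subgroup.inf_relIndex_right (centralizer (A : Set G)) W]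
    exact card_mul_relIdx inf_le_right
  rw [← h2, ← h3] at h1
  have hp : 0 < Nat.card ↥(A ⊓ centralizer (W : Set G)) * Nat.card ↥(W ⊓ centralizer (A : Set G)) :=
    Nat.mul_pos Nat.card_pos Nat.card_pos
  refine Nat.le_of_mul_le_mul_left ?_ hp
  calc _ = Nat.card ↥(A ⊓ centralizer (W : Set G)) * (centralizer (W : Set G)).relIndex A *
        Nat.card ↥(W ⊓ centralizer (A : Set G)) := by ring
    _ ≤ _ := h1
    _ = _ := by ring

end Cfsg.Agent.Omega.EK3
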