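import Cfsg.Agent.ZN.ChoiceSit
import Cfsg.Agent.MinSimple.Basic
import Cfsg.Agent.PLocal.ElemAbSup
import Cfsg.Agent.Omega.NO3b.UMethod
import Cfsg.Agent.Omega.NoFF.ThmJFam

/-!
# EK3: NO-3S, case (E), `k ≥ 3`: LEMMA STAR and the low exact group (helper712; bb #22451, STAR')

Abstract: `D`, `O = O₂(D)`, `L j`, `Y j = ⟨D, L j⟩`, `N j ≤ O` el. ab., normal in `Y j`, `Q j = O ∩ C(N j)` normal in
`Y j`, `E i j` el. ab., `≤ O`, normal in `⟨Y i, Y j⟩`, `V i ≤ N i ≤ E i j`.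

* `rank_cent` : `A ∈ AA O`, `N ≤ O` el. ab., (NO) for `A` on `N` ⟹ `C_A(N) N ∈ AA O` and `A` is exact on `N`;
* `SIn` : the input;  `SIn.exists_AA` : `⋂ Q l` contains members of `AA O`;
* `SIn.exists_move` : **(s1)** : `A₁ ∈ AA O`, `A₁ ≤ ⋂ Q l`, `x ∈ L i`, `A₁ˣ` moves `N j`;
* `SIn.oneway` : **case 1** : `[V i ^ Y j, A] ≤ N j`;
* **`SIn.star`** : STAR' from GAUSS' and (4')(a)(b);
* **`low`** : `A₁ˣ ≤ O₂(C_{Y j}(V i)) ∩ O₂(N_{Y j}(V i))`.
-/

set_option autoImplicit false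
set_option linter.unusedSectionVars false
set_option linter.unusedVariables false

namespace Cfsg.Agent.Omega.EK3.Star

open Subgroup Cfsg Cfsg.Agent.ZN.ChoiceBase Cfsg.Agent.ZN.ChoiceSit
open Cfsg.Agent.ZN (zc zl o2)
open Cfsg.Agent.MinSimple.VModule (o2_isPGroup le_o2 o2_le)
open scoped commutatorElement

universe u

variable {G : Type u} [Group G]

theorem card_mul_relIndex {H K : Subgroup G} (h : H ≤ K) : Nat.card H * H.relIndex K = Nat.card K := by
  have h1 := relIndex_mul_relIndex (⊥ : Subgroup G) H K bot_le h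
  rwa [relIndex_bot_left, relIndex_bot_left] at h1

theorem le_cent {A : Subgroup G} (h : IsElementaryAbelian 2 A) : A ≤ centralizer (A : Set G) := by
  intro x hx
  rw [mem_centralizer_iff]
  intro y hy
  have := h.1.is_comm.comm ⟨y, hy⟩ ⟨x, hx⟩
  exact congrArg Subtype.val this

theorem cent_symm {A B : Subgroup G} (h : A ≤ centralizer (B : Set G)) : B ≤ centralizer (A : Set G) :=
  fun x hx => mem_centralizer_iff.2 fun y hy => (mem_centralizer_iff.1 (h hy) x hx).symm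

theorem el_mono {A B : Subgroup G} (hB : IsElementaryAbelian 2 B) (h : A ≤ B) : IsElementaryAbelian 2 A := by
  refine ⟨⟨⟨fun x y => ?_⟩⟩, fun a ha => hB.2 a (h ha)⟩
  exact Subtype.ext (mem_centralizer_iff.1 (le_cent hB (h y.2)) x (h x.2))

/-- **(1) RANK** -/
theorem rank_cent [Finite G] {O N A : Subgroup G} (hA : A ∈ AA O) (hN : IsElementaryAbelian 2 N) (hNO : N ≤ O)
    (no : (centralizer (N : Set G)).relIndex A ≤ (centralizer (A : Set G)).relIndex N) :
    (A ⊓ centralizer (N : Set G)) ⊔ N ∈ AA O ∧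
      (centralizer (N : Set G)).relIndex A = (centralizer (A : Set G)).relIndex N ∧
      A ⊓ N = N ⊓ centralizer (A : Set G) := by
  set C := A ⊓ centralizer (N : Set G) with hC
  have hNc := le_cent hN
  have hAc := le_cent hA.1
  have hel : IsElementaryAbelian 2 (C ⊔ N : Subgroup G) :=
    PLocal.ElemAbSup.isElementaryAbelian_sup (el_mono hA.1 inf_le_left) hN (cent_symm inf_le_right)
  have hEO : C ⊔ N ≤ O := sup_le (inf_le_left.trans hA.2.1) hNO
  have h1 : Nat.card (C ⊔ N : Subgroup G) ≤ Nat.card A := hA.2.2 _ hel hEO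
  have h2 := NoFF.ThmJFam.card_sup_inf (A := C) (B := N) inf_le_right
  have hCN : C ⊓ N = A ⊓ N := le_antisymm (inf_le_inf_right _ inf_le_left)
    (le_inf (le_inf inf_le_left (inf_le_right.trans hNc)) inf_le_right)
  rw [hCN] at h2
  have h3 : Nat.card C * (centralizer (N : Set G)).relIndex A = Nat.card A := by
    rw [← card_mul_relIndex (inf_le_left : C ≤ A)]
    congr 1
    rw [inf_relIndex_left]
  have h4 : Nat.card (N ⊓ centralizer (A : Set G) : Subgroup G) * (centralizer (A : Set G)).relIndex N = Nat.card N := by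
    rw [← card_mul_relIndex (inf_le_left : N ⊓ centralizer (A : Set G) ≤ N)]
    congr 1
    rw [inf_relIndex_left]
  have h5 : A ⊓ N ≤ N ⊓ centralizer (A : Set G) := le_inf inf_le_right (inf_le_left.trans hAc)
  have h6 : Nat.card (A ⊓ N : Subgroup G) ≤ Nat.card (N ⊓ centralizer (A : Set G) : Subgroup G) :=
    Nat.le_of_dvd Nat.card_pos (card_dvd_of_le h5)
  have p1 : 0 < Nat.card C := Nat.card_pos
  have p2 : 0 < Nat.card (A ⊓ N : Subgroup G) := Nat.card_pos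
  have p3 : 0 < (centralizer (A : Set G)).relIndex N := Nat.pos_of_ne_zero (by
    intro e; rw [e, mul_zero] at h4; exact Nat.card_pos.ne' h4.symm)
  set a := Nat.card A
  set c := Nat.card C
  set n := Nat.card N
  set i := Nat.card (A ⊓ N : Subgroup G)
  set d := Nat.card (N ⊓ centralizer (A : Set G) : Subgroup G)
  set r := (centralizer (N : Set G)).relIndex A
  set s := (centralizer (A : Set G)).relIndex N
  set e := Nat.card (C ⊔ N : Subgroup G)
  -- `e i = c n`, `e ≤ a = c r`, `r ≤ s`, `n = d s`, `i ≤ d`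
  have k1 : c * n ≤ c * r * i := by
    rw [← h2, h3]
    exact Nat.mul_le_mul_right _ h1
  have k2 : c * (d * s) ≤ c * (r * i) := by
    rw [h4, ← mul_assoc]
    exact k1
  have k3 : d * s ≤ r * i := Nat.le_of_mul_le_mul_left k2 p1
  have k4 : r * i ≤ s * i := Nat.mul_le_mul_right _ no
  have k5 : s * i ≤ s * d := Nat.mul_le_mul_left _ h6
  have k6 : r * i = s * i := by
    rw [mul_comm d s] at k3
    exact le_antisymm k4 (k5.trans k3)
  have k7 : s * i = s * d := by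
    rw [mul_comm d s] at k3
    exact le_antisymm k5 (k3.trans k4)
  have hrs : r = s := Nat.eq_of_mul_eq_mul_right p2 k6
  have hid : i = d := Nat.eq_of_mul_eq_mul_left p3 k7
  have hea : e = a := by
    apply Nat.eq_of_mul_eq_mul_right p2
    rw [h2, ← h3, ← h4, ← hid, hrs]
    ring
  refine ⟨⟨hel, hEO, fun B hB hBO => ?_⟩, hrs, ?_⟩
  · show Nat.card B ≤ e
    rw [hea]
    exact hA.2.2 B hB hBO
  · exact eq_of_le_of_card_ge h5 hid.ge

/-- the standard count for `A ∈ AA O` on `W ≤ O` -/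
theorem rank_le [Finite G] {O W A : Subgroup G} (hA : A ∈ AA O) (hW : IsElementaryAbelian 2 W) (hWO : W ≤ O) :
    (centralizer (A : Set G)).relIndex W ≤ (centralizer (W : Set G)).relIndex A := by
  set C := A ⊓ centralizer (W : Set G) with hC
  have hWc := le_cent hW
  have hAc := le_cent hA.1
  have hel : IsElementaryAbelian 2 (C ⊔ W : Subgroup G) :=
    PLocal.ElemAbSup.isElementaryAbelian_sup (el_mono hA.1 inf_le_left) hW (cent_symm inf_le_right)
  have h1 : Nat.card (C ⊔ W : Subgroup G) ≤ Nat.card A := hA.2.2 _ hel (sup_le (inf_le_left.trans hA.2.1) hWO)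
  have h2 := NoFF.ThmJFam.card_sup_inf (A := C) (B := W) inf_le_right
  have hCW : C ⊓ W = A ⊓ W := le_antisymm (inf_le_inf_right _ inf_le_left)
    (le_inf (le_inf inf_le_left (inf_le_right.trans hWc)) inf_le_right)
  rw [hCW] at h2
  have h3 : Nat.card C * (centralizer (W : Set G)).relIndex A = Nat.card A := by
    rw [← card_mul_relIndex (inf_le_left : C ≤ A)]
    congr 1
    rw [inf_relIndex_left]
  have h4 : Nat.card (W ⊓ centralizer (A : Set G) : Subgroup G) * (centralizer (A : Set G)).relIndex W = Nat.card W := by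
    rw [← card_mul_relIndex (inf_le_left : W ⊓ centralizer (A : Set G) ≤ W)]
    congr 1
    rw [inf_relIndex_left]
  have h5 : A ⊓ W ≤ W ⊓ centralizer (A : Set G) := le_inf inf_le_right (inf_le_left.trans hAc)
  have h6 : Nat.card (A ⊓ W : Subgroup G) ≤ Nat.card (W ⊓ centralizer (A : Set G) : Subgroup G) :=
    Nat.le_of_dvd Nat.card_pos (card_dvd_of_le h5)
  have p1 : 0 < Nat.card C := Nat.card_pos
  have p2 : 0 < Nat.card (A ⊓ W : Subgroup G) := Nat.card_pos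
  set a := Nat.card A
  set c := Nat.card C
  set n := Nat.card W
  set i := Nat.card (A ⊓ W : Subgroup G)
  set d := Nat.card (W ⊓ centralizer (A : Set G) : Subgroup G)
  set r := (centralizer (W : Set G)).relIndex A
  set s := (centralizer (A : Set G)).relIndex W
  set e := Nat.card (C ⊔ W : Subgroup G)
  -- `e i = c d s`, `e ≤ c r`, `i ≤ d`
  have k1 : c * (d * s) ≤ c * (r * i) := by
    rw [h4, ← h2, ← mul_assoc, h3]
    exact Nat.mul_le_mul_right _ h1
  have k2 : d * s ≤ r * i := Nat.le_of_mul_le_mul_left k1 p1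
  have k3 : i * s ≤ i * r := (Nat.mul_le_mul_right _ h6).trans (k2.trans (mul_comm r i).le)
  exact Nat.le_of_mul_le_mul_left k3 p2

/-- **Transfer**: `A ∈ AA O` exact on `N ≤ W`, `C_A(N)` centralises `W`: `W = N C_W(A)` -/
theorem le_sup_of_exact [Finite G] {O W N A : Subgroup G} (hA : A ∈ AA O) (hW : IsElementaryAbelian 2 W)
    (hWO : W ≤ O) (hNW : N ≤ W)
    (hex : (centralizer (N : Set G)).relIndex A = (centralizer (A : Set G)).relIndex N)
    (hc : A ⊓ centralizer (N : Set G) ≤ centralizer (W : Set G)) :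
    W ≤ N ⊔ (W ⊓ centralizer (A : Set G)) := by
  have h1 := rank_le hA hW hWO
  have h2 : (centralizer (W : Set G)).relIndex A = (centralizer (N : Set G)).relIndex A := by
    rw [← inf_relIndex_right (centralizer (W : Set G)), ← inf_relIndex_right (centralizer (N : Set G))]
    congr 1
    exact le_antisymm (inf_le_inf_right _ (centralizer_le hNW)) (le_inf (by rw [inf_comm]; exact hc) inf_le_right)
  rw [h2, hex] at h1
  set C := W ⊓ centralizer (A : Set G) with hC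
  -- `|W : C| ≤ |N : N ∩ C|`
  have h3 : C.relIndex W = (centralizer (A : Set G)).relIndex W := inf_relIndex_left _ _
  have h4 : (centralizer (A : Set G)).relIndex N = C.relIndex N := by
    rw [← inf_relIndex_right C, ← inf_relIndex_right (centralizer (A : Set G))]
    congr 1
    apply le_antisymm
    · exact le_inf (le_inf (inf_le_right.trans hNW) inf_le_left) inf_le_right
    · exact inf_le_inf_right _ inf_le_right
  have h5 : C.relIndex N ≤ C.relIndex (N ⊔ C) := relIndex_le_of_le_right le_sup_left index_ne_zero_of_finite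
  have h6 := relIndex_mul_relIndex C (N ⊔ C) W le_sup_right (sup_le hNW inf_le_left)
  rw [h3] at h6
  rw [h4] at h1
  have p : 0 < C.relIndex (N ⊔ C) := Nat.pos_of_ne_zero index_ne_zero_of_finite
  have h7 : C.relIndex (N ⊔ C) * (N ⊔ C).relIndex W ≤ C.relIndex (N ⊔ C) * 1 := by
    rw [h6, mul_one]
    exact h1.trans h5
  have h8 := Nat.le_of_mul_le_mul_left h7 p
  have h9 : (N ⊔ C).relIndex W ≠ 0 := index_ne_zero_of_finite
  exact relIndex_eq_one.1 (by omega)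

/-- then `[W, A] ≤ N` if `A` normalises `N` -/
theorem comm_mem_of_le_sup {W N A : Subgroup G} (hW : IsElementaryAbelian 2 W) (hNW : N ≤ W)
    (hAN : A ≤ normalizer (N : Set G)) (hle : W ≤ N ⊔ (W ⊓ centralizer (A : Set G))) {w a : G} (hw : w ∈ W)
    (ha : a ∈ A) : ⁅w, a⁆ ∈ N := by
  have hn : N ≤ normalizer ((W ⊓ centralizer (A : Set G) : Subgroup G) : Set G) :=
    (hNW.trans ((le_cent hW).trans (centralizer_le inf_le_left))).trans (centralizer_le_normalizer _)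
  have h1 : w ∈ ((N ⊔ (W ⊓ centralizer (A : Set G)) : Subgroup G) : Set G) := hle hw
  rw [coe_mul_of_left_le_normalizer_right N _ hn] at h1
  obtain ⟨v, hv, c, hc, rfl⟩ := Set.mem_mul.mp h1
  have h2 := mem_centralizer_iff.1 hc.2 a ha
  have e : ⁅v * c, a⁆ = v * (a * v⁻¹ * a⁻¹) := by
    rw [commutatorElement_def]
    calc v * c * a * (v * c)⁻¹ * a⁻¹ = v * (c * a) * c⁻¹ * v⁻¹ * a⁻¹ := by group
      _ = v * (a * c) * c⁻¹ * v⁻¹ * a⁻¹ := by rw [h2]
      _ = v * (a * v⁻¹ * a⁻¹) := by group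
  show ⁅v * c, a⁆ ∈ N
  rw [e]
  exact mul_mem hv ((mem_normalizer_iff.1 (hAN ha) _).1 (inv_mem hv))

variable {ι : Type*}

/-- **The input of STAR'.** -/
structure SIn (D O ZJ : Subgroup G) (L Y N V : ι → Subgroup G) (E : ι → ι → Subgroup G) : Prop where
  two : IsPGroup 2 O
  OD : O ≤ D
  nO : D ≤ normalizer (O : Set G)
  Yeq : ∀ j, Y j = D ⊔ L j
  NO : ∀ j, N j ≤ O
  Nel : ∀ j, IsElementaryAbelian 2 (N j)
  NN : ∀ i j, N i ≤ centralizer (N j : Set G)
  ne : ∃ j, N j ≠ ⊥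
  YN : ∀ j, Y j ≤ normalizer (N j : Set G)
  YQ : ∀ j, Y j ≤ normalizer ((O ⊓ centralizer (N j : Set G) : Subgroup G) : Set G)
  /-- (NO) -/
  no : ∀ j, ∀ A : Subgroup G, IsElementaryAbelian 2 A → A ≤ O →
    (centralizer (N j : Set G)).relIndex A ≤ (centralizer (A : Set G)).relIndex (N j)
  VN : ∀ i, V i ≤ N i
  Eel : ∀ i j, i ≠ j → IsElementaryAbelian 2 (E i j)
  EO : ∀ i j, i ≠ j → E i j ≤ O
  Esymm : ∀ i j, i ≠ j → E i j = E j i
  EY : ∀ i j, i ≠ j → Y j ≤ normalizer (E i j : Set G)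
  NE : ∀ i j, i ≠ j → N j ≤ E i j
  /-- `⟨D, L i⟩` is not 2-local -/
  nl : ∀ R : Subgroup G, IsPGroup 2 R → R ≠ ⊥ → D ≤ normalizer (R : Set G) →
    ∃ i, ¬ L i ≤ normalizer (R : Set G)

namespace SIn

variable {D O ZJ : Subgroup G} {L Y N V : ι → Subgroup G} {E : ι → ι → Subgroup G}
  (h : SIn D O ZJ L Y N V E)
include h

theorem DY (j : ι) : D ≤ Y j := by
  rw [h.Yeq j]
  exact le_sup_left

theorem LY (j : ι) : L j ≤ Y j := by
  rw [h.Yeq j]
  exact le_sup_right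

variable [Finite G]

/-- the step `A ↦ C_A(N j) N j` -/
theorem step {A : Subgroup G} (hA : A ∈ AA O) (j : ι) : (A ⊓ centralizer (N j : Set G)) ⊔ N j ∈ AA O :=
  (rank_cent hA (h.Nel j) (h.NO j) (h.no j A hA.1 hA.2.1)).1

theorem exact {A : Subgroup G} (hA : A ∈ AA O) (j : ι) :
    (centralizer (N j : Set G)).relIndex A = (centralizer (A : Set G)).relIndex (N j) :=
  (rank_cent hA (h.Nel j) (h.NO j) (h.no j A hA.1 hA.2.1)).2.1

/-- `⋂ Q l` contains members of `AA O` -/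
theorem exists_AA [Finite ι] : ∃ A ∈ AA O, ∀ l, A ≤ centralizer (N l : Set G) := by
  classical
  have := Fintype.ofFinite ι
  have key : ∀ s : Finset ι, ∃ A ∈ AA O, ∀ l ∈ s, A ≤ centralizer (N l : Set G) := by
    intro s
    induction s using Finset.induction_on with
    | empty =>
      obtain ⟨A, hA⟩ := AA_nonempty O
      exact ⟨A, hA, fun l hl => absurd hl (Finset.notMem_empty l)⟩
    | insert j s hj ih =>
      obtain ⟨A, hA, hs⟩ := ih
      refine ⟨_, h.step hA j, fun l hl => ?_⟩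
      rcases Finset.mem_insert.1 hl with rfl | hl
      · exact sup_le inf_le_right (h.NN _ _)
      · exact sup_le (inf_le_left.trans (hs l hl)) (h.NN _ _)
  obtain ⟨A, hA, hs⟩ := key Finset.univ
  exact ⟨A, hA, fun l => hs l (Finset.mem_univ l)⟩

theorem AA_ne {A : Subgroup G} (hA : A ∈ AA O) : A ≠ ⊥ := by
  rintro rfl
  obtain ⟨j, hj⟩ := h.ne
  have h1 := hA.2.2 (N j) (h.Nel j) (h.NO j)
  rw [card_bot] at h1
  exact hj (card_eq_one.1 (le_antisymm h1 Nat.card_pos))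

/-- conjugates under `Y j` of a group in `Q j` -/
theorem cj_mem {A : Subgroup G} (hA : A ∈ AA O) {j : ι} (hj : A ≤ centralizer (N j : Set G)) {y : G} (hy : y ∈ Y j) :
    cj y A ∈ AA O ∧ cj y A ≤ centralizer (N j : Set G) := by
  have h1 : cj y A ≤ O ⊓ centralizer (N j : Set G) := by
    have h2 := cj_mono y (le_inf hA.2.1 hj)
    rwa [cj_eq_of_mem_normalizer (h.YQ j hy)] at h2
  refine ⟨⟨isElementaryAbelian_cj y hA.1, h1.trans inf_le_left, fun B hB hBO => ?_⟩, h1.trans inf_le_right⟩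
  rw [card_cj]
  exact hA.2.2 B hB hBO

/-- conjugates under `D` -/
theorem cj_mem_D {A : Subgroup G} (hA : A ∈ AA O) {y : G} (hy : y ∈ D) : cj y A ∈ AA O := by
  have h1 := cj_mem_AA y hA
  rwa [cj_eq_of_mem_normalizer (h.nO hy)] at h1

/-- **(s1)** -/
theorem exists_move [Finite ι] : ∃ i j, i ≠ j ∧ ∃ A ∈ AA O, (∀ l, A ≤ centralizer (N l : Set G)) ∧ ∃ x ∈ L i,
    ¬ cj x A ≤ centralizer (N j : Set G) := by
  classical
  let 𝒜 : Set (Subgroup G) := {A | A ∈ AA O ∧ ∀ l, A ≤ centralizer (N l : Set G)}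
  have hD : ∀ y ∈ D, ∀ A ∈ 𝒜, cj y A ∈ 𝒜 := by
    intro y hy A hA
    exact ⟨h.cj_mem_D hA.1 hy, fun l => (h.cj_mem hA.1 (hA.2 l) (h.DY l hy)).2⟩
  obtain ⟨A₀, hA₀, hA₀'⟩ := h.exists_AA
  have hle : sSup 𝒜 ≤ O := sSup_le fun A hA => hA.1.2.1
  have hne : sSup 𝒜 ≠ ⊥ := fun e => h.AA_ne hA₀ (le_bot_iff.1 (e ▸ le_sSup (⟨hA₀, hA₀'⟩ : A₀ ∈ 𝒜)))
  have hnorm : ∀ H : Subgroup G, (∀ y ∈ H, ∀ A ∈ 𝒜, cj y A ∈ 𝒜) → H ≤ normalizer ((sSup 𝒜 : Subgroup G) : Set G) := by
    intro H hH y hy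
    rw [mem_normalizer_iff_cj]
    have key : ∀ z ∈ H, cj z (sSup 𝒜) ≤ sSup 𝒜 := by
      intro z hz
      rw [cj_le_iff]
      refine sSup_le fun A hA => ?_
      rw [← cj_le_iff]
      exact le_sSup (hH z hz A hA)
    refine le_antisymm (key y hy) ?_
    have h1 := cj_mono y (key y⁻¹ (inv_mem hy))
    rwa [cj_cj_inv] at h1
  obtain ⟨i, hi⟩ := h.nl (sSup 𝒜) (h.two.to_le hle) hne (hnorm D hD)
  have h1 : ∃ x ∈ L i, ∃ A ∈ 𝒜, cj x A ∉ 𝒜 := by
    by_contra hcon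
    push Not at hcon
    exact hi (hnorm (L i) fun y hy A hA => hcon y hy A hA)
  obtain ⟨x, hx, A, hA, hn⟩ := h1
  have h2 := h.cj_mem hA.1 (hA.2 i) (h.LY i hx)
  have h3 : ∃ j, ¬ cj x A ≤ centralizer (N j : Set G) := by
    by_contra hcon
    push Not at hcon
    exact hn ⟨h2.1, hcon⟩
  obtain ⟨j, hj⟩ := h3
  refine ⟨i, j, ?_, A, hA.1, hA.2, x, hx, hj⟩
  rintro rfl
  exact hj h2.2

/-- `L i` does not normalise `N j` -/
theorem not_norm {A : Subgroup G} {i j : ι} (hj : A ≤ centralizer (N j : Set G)) {x : G} (hx : x ∈ L i)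
    (hn : ¬ cj x A ≤ centralizer (N j : Set G)) : ¬ L i ≤ normalizer (N j : Set G) := by
  intro hc
  apply hn
  have h1 := cj_mono x hj
  rwa [cj_centralizer, cj_eq_of_mem_normalizer (hc hx)] at h1

/-- **case 1** : `AA(Q i ∩ Q j)` is `L j`-invariant -/
theorem oneway {i j : ι} (hij : i ≠ j)
    (hinv : ∀ A ∈ AA O, A ≤ centralizer (N i : Set G) → A ≤ centralizer (N j : Set G) → ∀ y ∈ L j,
      cj y A ≤ centralizer (N i : Set G))
    {A : Subgroup G} (hA : A ∈ AA O) (hAi : A ≤ centralizer (N i : Set G)) {y v a : G} (hy : y ∈ Y j)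
    (hv : v ∈ V i) (ha : a ∈ A) : ⁅y * v * y⁻¹, a⁆ ∈ N j := by
  classical
  let 𝒜 : Set (Subgroup G) := {A | A ∈ AA O ∧ A ≤ centralizer (N i : Set G) ∧ A ≤ centralizer (N j : Set G)}
  -- `𝒜` is `Y j`-invariant
  have hYj : ∀ y ∈ Y j, ∀ B ∈ 𝒜, cj y B ∈ 𝒜 := by
    let H : Subgroup G :=
      { carrier := {y | (∀ B ∈ 𝒜, cj y B ∈ 𝒜) ∧ ∀ B ∈ 𝒜, cj y⁻¹ B ∈ 𝒜}
        one_mem' := ⟨fun B hB => by rwa [cj_one], fun B hB => by rwa [inv_one, cj_one]⟩
        mul_mem' := by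
          rintro a b ⟨ha, ha'⟩ ⟨hb, hb'⟩
          refine ⟨fun B hB => ?_, fun B hB => ?_⟩
          · rw [← cj_cj]
            exact ha _ (hb B hB)
          · rw [mul_inv_rev, ← cj_cj]
            exact hb' _ (ha' B hB)
        inv_mem' := by
          rintro a ⟨ha, ha'⟩
          exact ⟨ha', by rwa [inv_inv]⟩ }
    have h1 : D ≤ H := by
      have key : ∀ y ∈ D, ∀ B ∈ 𝒜, cj y B ∈ 𝒜 := fun y hy B hB =>
        ⟨h.cj_mem_D hB.1 hy, (h.cj_mem hB.1 hB.2.1 (h.DY i hy)).2, (h.cj_mem hB.1 hB.2.2 (h.DY j hy)).2⟩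
      exact fun y hy => ⟨key y hy, key y⁻¹ (inv_mem hy)⟩
    have h2 : L j ≤ H := by
      have key : ∀ y ∈ L j, ∀ B ∈ 𝒜, cj y B ∈ 𝒜 := fun y hy B hB =>
        ⟨(h.cj_mem hB.1 hB.2.2 (h.LY j hy)).1, hinv B hB.1 hB.2.1 hB.2.2 y hy,
          (h.cj_mem hB.1 hB.2.2 (h.LY j hy)).2⟩
      exact fun y hy => ⟨key y hy, key y⁻¹ (inv_mem hy)⟩
    have h3 : Y j ≤ H := by
      rw [h.Yeq j]
      exact sup_le h1 h2
    exact fun y hy => (h3 hy).1
  -- `W = E ∩ C(𝒜)`
  set W := E i j ⊓ centralizer ((sSup 𝒜 : Subgroup G) : Set G) with hW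
  have hWel : IsElementaryAbelian 2 W := el_mono (h.Eel i j hij) inf_le_left
  have hWO : W ≤ O := inf_le_left.trans (h.EO i j hij)
  have hcent : ∀ U : Subgroup G, (∀ B ∈ 𝒜, B ≤ centralizer (U : Set G)) →
      U ≤ centralizer ((sSup 𝒜 : Subgroup G) : Set G) := by
    intro U hU
    exact cent_symm (sSup_le hU)
  have hNW : N j ≤ W := le_inf (h.NE i j hij) (hcent _ fun B hB => hB.2.2)
  have hNiW : N i ≤ W := le_inf (by rw [h.Esymm i j hij]; exact h.NE j i hij.symm) (hcent _ fun B hB => hB.2.1)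
  have hS : Y j ≤ normalizer ((sSup 𝒜 : Subgroup G) : Set G) := by
    intro y hy
    rw [mem_normalizer_iff_cj]
    have key : ∀ z ∈ Y j, cj z (sSup 𝒜) ≤ sSup 𝒜 := by
      intro z hz
      rw [cj_le_iff]
      refine sSup_le fun A hA => ?_
      rw [← cj_le_iff]
      exact le_sSup (hYj z hz A hA)
    refine le_antisymm (key y hy) ?_
    have h1 := cj_mono y (key y⁻¹ (inv_mem hy))
    rwa [cj_cj_inv] at h1
  have hWn : Y j ≤ normalizer (W : Set G) := by
    intro y hy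
    rw [mem_normalizer_iff_cj, hW, cj_inf, cj_centralizer, cj_eq_of_mem_normalizer (h.EY i j hij hy),
      cj_eq_of_mem_normalizer (hS hy)]
  have hw : y * v * y⁻¹ ∈ W := (mem_normalizer_iff.1 (hWn hy) v).1 (hNiW (h.VN i hv))
  -- `C_A(N j)` centralises `W`
  have hc : A ⊓ centralizer (N j : Set G) ≤ centralizer (W : Set G) := by
    have h1 : (A ⊓ centralizer (N j : Set G)) ⊔ N j ∈ 𝒜 :=
      ⟨h.step hA j, sup_le (inf_le_left.trans hAi) (h.NN _ _), sup_le inf_le_right (h.NN _ _)⟩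
    have h2 : A ⊓ centralizer (N j : Set G) ≤ sSup 𝒜 := le_sup_left.trans (le_sSup h1)
    exact h2.trans (cent_symm inf_le_right)
  have hle := le_sup_of_exact hA hWel hWO hNW (h.exact hA j) hc
  have hAN : A ≤ normalizer (N j : Set G) := (hA.2.1.trans h.OD).trans ((h.DY j).trans (h.YN j))
  exact comm_mem_of_le_sup hWel hNW hAN hle hw ha

/-- **STAR'.** `gauss` = GAUSS' (3), `lever` = (4')(a)(b). -/
theorem star [Finite ι]
    (gauss : ∀ i j, i ≠ j → ∀ A : Subgroup G, A ≤ O →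
      (∀ y ∈ Y j, ∀ v ∈ V i, ∀ a ∈ A, ⁅y * v * y⁻¹, a⁆ ∈ N j) → ¬ A ≤ centralizer (N j : Set G) →
      V i ≤ N j ⊔ ZJ ∨ L i ≤ normalizer (N j : Set G))
    (lever : ∀ i j, i ≠ j → (∃ A ∈ AA O, ¬ A ≤ centralizer (N j : Set G)) →
      ∃ F ≤ O, (¬ F ≤ centralizer (N i : Set G) ∧ ∀ e ∈ E i j, ∀ f ∈ F, ⁅e, f⁆ ∈ N i) ∨
        (¬ F ≤ centralizer (N j : Set G) ∧ ∀ e ∈ E i j, ∀ f ∈ F, ⁅e, f⁆ ∈ N j)) :
    ∃ i j, i ≠ j ∧ V i ≤ N j ⊔ ZJ ∧ ∃ A ∈ AA O, A ≤ centralizer (N i : Set G) ∧ A ≤ centralizer (N j : Set G) ∧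
      ∃ x ∈ L i, ¬ cj x A ≤ centralizer (N j : Set G) := by
  obtain ⟨i, j, hij, A, hA, hAl, x, hx, hn⟩ := h.exists_move
  by_cases hc : ∀ A ∈ AA O, A ≤ centralizer (N i : Set G) → A ≤ centralizer (N j : Set G) → ∀ y ∈ L j,
      cj y A ≤ centralizer (N i : Set G)
  · refine ⟨i, j, hij, ?_, A, hA, hAl i, hAl j, x, hx, hn⟩
    have h1 := h.cj_mem hA (hAl i) (h.LY i hx)
    rcases gauss i j hij (cj x A) h1.1.2.1 (fun y hy v hv a ha => h.oneway hij hc h1.1 h1.2 hy hv ha) hn with h2 | h2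
    · exact h2
    · exact absurd h2 (h.not_norm (hAl j) hx hn)
  · push Not at hc
    obtain ⟨A', hA', hA'i, hA'j, y, hy, hn'⟩ := hc
    have h1 := h.cj_mem hA (hAl i) (h.LY i hx)
    obtain ⟨F, hFO, hF⟩ := lever i j hij ⟨_, h1.1, hn⟩
    have hV : ∀ {a b : ι}, a ≠ b → ∀ z ∈ Y b, ∀ v ∈ V a, z * v * z⁻¹ ∈ E a b := by
      intro a b hab z hz v hv
      have h2 : v ∈ E a b := by
        rw [h.Esymm a b hab]
        exact h.NE b a hab.symm (h.VN a hv)
      exact (mem_normalizer_iff.1 (h.EY a b hab hz) v).1 h2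
    rcases hF with ⟨hm, hF⟩ | ⟨hm, hF⟩
    · -- `F` moves `N i`
      refine ⟨j, i, hij.symm, ?_, A', hA', hA'j, hA'i, y, hy, hn'⟩
      rcases gauss j i hij.symm F hFO (fun z hz v hv a ha => hF _ (by
        rw [h.Esymm i j hij]; exact hV hij.symm z hz v hv) a ha) hm with h2 | h2
      · exact h2
      · exact absurd h2 (h.not_norm hA'i hy hn')
    · refine ⟨i, j, hij, ?_, A, hA, hAl i, hAl j, x, hx, hn⟩
      rcases gauss i j hij F hFO (fun z hz v hv a ha => hF _ (hV hij z hz v hv) a ha) hm with h2 | h2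
      · exact h2
      · exact absurd h2 (h.not_norm (hAl j) hx hn)

end SIn

/-- **LOW**: `A₁ˣ ≤ O₂(C_{Y}(V))`, `x ∈ L`. Here `Y = Y j`, `N = N j`, `Z = Z j`, `L = L i`, `V = V i`. -/
theorem low {D Y L N V Z A : Subgroup G} (hDY : D ≤ Y) (hZN : Z ≤ N) (hYN : Y ≤ normalizer (N : Set G))
    (hst : Y ⊓ centralizer (Z : Set G) ≤ D) (hC : L ≤ normalizer ((Y ⊓ centralizer (V : Set G) : Subgroup G) : Set G))
    (hZ : L ≤ centralizer (Z : Set G)) (hA : A ≤ centralizer (N : Set G)) {x : G} (hx : x ∈ L)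
    (hAO : cj x A ≤ o2 D) (hAV : cj x A ≤ centralizer (V : Set G)) :
    cj x A ≤ o2 (Y ⊓ centralizer (V : Set G)) := by
  set C' := Y ⊓ centralizer (V : Set G) with hC'
  have hAC : cj x A ≤ C' := le_inf ((hAO.trans (MinSimple.VModule.o2_le D)).trans hDY) hAV
  let S : Set G := {g | ∃ c ∈ C', ∃ z ∈ Z, c * z * c⁻¹ = g}
  -- `A` centralises `S`
  have h1 : cj x A ≤ centralizer S := by
    rintro _ ⟨a, ha, rfl⟩
    rw [mem_centralizer_iff]
    rintro _ ⟨c, hc, z, hz, rfl⟩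
    have hc' : x⁻¹ * c * x ∈ C' := by
      have := (mem_normalizer_iff.1 (hC (inv_mem hx)) c).1 hc
      rwa [inv_inv] at this
    have hzx : x⁻¹ * z * x = z := by
      have := mem_centralizer_iff.1 (hZ hx) z hz
      rw [mul_assoc, this]; group
    have h2 : (x⁻¹ * c * x) * z * (x⁻¹ * c * x)⁻¹ ∈ N :=
      (mem_normalizer_iff.1 (hYN hc'.1) z).1 (hZN hz)
    have h3 := mem_centralizer_iff.1 (hA ha) _ h2
    have e1 : (x⁻¹ * c * x) * z * (x⁻¹ * c * x)⁻¹ = x⁻¹ * (c * z * c⁻¹) * x := by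
      conv_lhs => rw [← hzx]
      group
    rw [e1] at h3
    show c * z * c⁻¹ * (x * a * x⁻¹) = x * a * x⁻¹ * (c * z * c⁻¹)
    calc c * z * c⁻¹ * (x * a * x⁻¹) = x * (x⁻¹ * (c * z * c⁻¹) * x * a) * x⁻¹ := by group
      _ = x * (a * (x⁻¹ * (c * z * c⁻¹) * x)) * x⁻¹ := by rw [h3]
      _ = _ := by group
  set K := C' ⊓ centralizer S with hK
  have hKD : K ≤ D := by
    intro k hk
    apply hst
    refine mem_inf.2 ⟨hk.1.1, ?_⟩
    rw [mem_centralizer_iff]
    intro z hz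
    have h2 := mem_centralizer_iff.1 hk.2 z ⟨1, one_mem _, z, hz, by group⟩
    exact h2
  have hKn : C' ≤ normalizer (K : Set G) := by
    have key : ∀ g ∈ C', ∀ k ∈ K, g * k * g⁻¹ ∈ K := by
      intro g hg k hk
      refine mem_inf.2 ⟨mul_mem (mul_mem hg hk.1) (inv_mem hg), ?_⟩
      rw [mem_centralizer_iff]
      rintro _ ⟨c, hc, z, hz, rfl⟩
      have h2 := mem_centralizer_iff.1 hk.2 (g⁻¹ * c * z * (g⁻¹ * c)⁻¹)
        ⟨g⁻¹ * c, mul_mem (inv_mem hg) hc, z, hz, rfl⟩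
      calc c * z * c⁻¹ * (g * k * g⁻¹) = g * (g⁻¹ * c * z * (g⁻¹ * c)⁻¹ * k) * g⁻¹ := by group
        _ = g * (k * (g⁻¹ * c * z * (g⁻¹ * c)⁻¹)) * g⁻¹ := by rw [h2]
        _ = _ := by group
    intro g hg
    rw [mem_normalizer_iff]
    intro k
    refine ⟨key g hg k, fun hk => ?_⟩
    have h2 := key g⁻¹ (inv_mem hg) _ hk
    have e : g⁻¹ * (g * k * g⁻¹) * g⁻¹⁻¹ = k := by group
    rwa [e] at h2
  have h2 : cj x A ≤ o2 D ⊓ K := le_inf hAO (le_inf hAC h1)
  have h3 : o2 D ⊓ K ≤ o2 K := by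
    refine le_o2 inf_le_right ((o2_isPGroup D).to_le inf_le_left) ?_
    have h4 : K ≤ normalizer (o2 D : Set G) := hKD.trans (MinSimple.VModule.le_normalizer_o2 D)
    intro g hg
    rw [mem_normalizer_iff]
    intro a
    have h5 := mem_normalizer_iff.1 (h4 hg) a
    have h6 := mem_normalizer_iff.1 (le_normalizer (H := K) hg) a
    exact ⟨fun ha => ⟨h5.1 ha.1, h6.1 ha.2⟩, fun ha => ⟨h5.2 ha.1, h6.2 ha.2⟩⟩
  exact h2.trans (h3.trans (NO3b.UMethod.o2_le_o2_of_normal inf_le_left hKn))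

/-- the stabiliser of `V` -/
theorem o2_cent_le {Y V : Subgroup G} :
    o2 (Y ⊓ centralizer (V : Set G)) ≤ o2 (Y ⊓ normalizer (V : Set G)) := by
  refine NO3b.UMethod.o2_le_o2_of_normal (inf_le_inf_left _ (centralizer_le_normalizer _)) ?_
  intro g hg
  rw [mem_normalizer_iff_cj, cj_inf, cj_centralizer, cj_eq_of_mem_normalizer (le_normalizer hg.1),
    cj_eq_of_mem_normalizer hg.2]

end Cfsg.Agent.Omega.EK3.Star
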