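import Cfsg.Agent.Omega.EK3.Star
import Cfsg.Agent.Omega.EK3.Lever

/-!
# EK3: one minimal offender, conjugated by `x ∈ L i`, is low for `z j` and for `V i` (bb #23133 (s1)-(s4); helper712)

Over `Star.SIn`, with `E i j ≤ ⟨ZJ ^ ⟨Y i, Y j⟩⟩`:

* `Out` : the output;
* **`SIn.exists_out`** : for some `i ≠ j` there is a minimal offender `F ≤ O` of `E i j` which centralises `N i`, moves `N j`,
  `[E i j, F] ≤ N j`, `C_F(N j)` centralises `E i j`, `F` is exact on `N j` and on `E i j`, `F ≤ O₂(C_{Y j}(V i))`.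

No GAUSS, no LEMMA FIX, no `V i ≤ N j ZJ`.
-/

set_option autoImplicit false
set_option linter.unusedSectionVars false
set_option linter.unusedVariables false

namespace Cfsg.Agent.Omega.EK3.Star

open Subgroup Cfsg Cfsg.Agent.ZN.ChoiceBase Cfsg.Agent.ZN.ChoiceSit
open Cfsg.Agent.ZN (zc zl o2)
open Cfsg.Agent.Omega.NO3S.EThree
open Cfsg.Agent.MinSimple.VModule (o2_isPGroup le_o2 o2_le)
open scoped commutatorElement

universe u

variable {G : Type u} [Group G] {ι : Type*}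

/-- **The output of (s1)-(s4).** -/
structure Out (D O : Subgroup G) (L Y N V : ι → Subgroup G) (E : Subgroup G) (i j : ι) (F : Subgroup G) : Prop where
  FO : F ≤ O
  el : IsElementaryAbelian 2 F
  ci : F ≤ centralizer (N i : Set G)
  mv : ¬ F ≤ centralizer (N j : Set G)
  /-- `[E, F] ≤ N j` -/
  comm : ∀ e ∈ E, ∀ f ∈ F, ⁅e, f⁆ ∈ N j
  /-- `E = N j C_E(F)` -/
  sup : E ≤ N j ⊔ (E ⊓ centralizer (F : Set G))
  /-- `C_F(N j) ≤ C(E)` -/
  cent : F ⊓ centralizer (N j : Set G) ≤ centralizer (E : Set G)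
  /-- exact on `E` -/
  exE : (centralizer (E : Set G)).relIndex F = (centralizer (F : Set G)).relIndex E
  /-- exact on `N j` -/
  exN : (centralizer (N j : Set G)).relIndex F = (centralizer (F : Set G)).relIndex (N j)
  eqEN : (centralizer (F : Set G)).relIndex E = (centralizer (F : Set G)).relIndex (N j)
  /-- `F` is a conjugate of a group which centralises `N j`, by an element of `L i` -/
  ex : ∃ F₀ : Subgroup G, F₀ ≤ O ∧ F₀ ≤ centralizer (N i : Set G) ∧ F₀ ≤ centralizer (N j : Set G) ∧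
    ∃ x ∈ L i, F = cj x F₀

namespace SIn

variable {D O ZJ : Subgroup G} {L Y N V : ι → Subgroup G} {E : ι → ι → Subgroup G}
  (h : SIn D O ZJ L Y N V E)
include h

theorem YiE {i j : ι} (hij : i ≠ j) : Y i ≤ normalizer (E i j : Set G) := by
  rw [h.Esymm i j hij]
  exact h.EY j i hij.symm

theorem NiE {i j : ι} (hij : i ≠ j) : N i ≤ E i j := by
  rw [h.Esymm i j hij]
  exact h.NE j i hij.symm

variable [Finite G]

/-- the minimal offender -/
theorem exists_F [Finite ι] (hDZ : D ≤ centralizer (ZJ : Set G))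
    (gen : ∀ i j, i ≠ j → E i j ≤ ⨆ y : (Y i ⊔ Y j : Subgroup G), cj (y : G) ZJ) :
    ∃ i j, i ≠ j ∧ ∃ F₀ : Subgroup G, IsElementaryAbelian 2 F₀ ∧ MinOff (E i j) F₀ ∧ F₀ ≤ O ∧
      F₀ ≤ centralizer (N i : Set G) ∧ F₀ ≤ centralizer (N j : Set G) ∧ ∃ x ∈ L i,
        ¬ cj x F₀ ≤ centralizer (N j : Set G) := by
  classical
  obtain ⟨i, j, hij, A, hA, hAl, x, hx, hn⟩ := h.exists_move
  -- `A` offends `E i j`
  have hAE : ¬ A ≤ centralizer (E i j : Set G) := by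
    intro hc
    apply hn
    have h1 := cj_mono x hc
    rw [cj_centralizer, cj_eq_of_mem_normalizer (h.YiE hij (h.LY i hx))] at h1
    exact h1.trans (centralizer_le (h.NE i j hij))
  have hAn : A ≤ normalizer (E i j : Set G) := ((hA.2.1.trans h.OD).trans (h.DY j)).trans (h.EY i j hij)
  obtain ⟨F, hFA, hF⟩ := (Lever.offd_of_AA (h.Eel i j hij) (h.EO i j hij) hA hAn hAE).exists_min
  let 𝓔 : Set (Subgroup G) := {F | IsElementaryAbelian 2 F ∧ MinOff (E i j) F ∧ F ≤ O ∧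
    F ≤ centralizer (N i : Set G) ∧ F ≤ centralizer (N j : Set G)}
  have hFE : F ∈ 𝓔 := ⟨el_mono hA.1 hFA, hF, hFA.trans hA.2.1, hFA.trans (hAl i), hFA.trans (hAl j)⟩
  by_contra hcon
  push Not at hcon
  -- `𝓔` is invariant
  have hYi : ∀ y ∈ Y i, ∀ F ∈ 𝓔, IsElementaryAbelian 2 (cj y F) ∧ MinOff (E i j) (cj y F) ∧ cj y F ≤ O ∧
      cj y F ≤ centralizer (N i : Set G) := by
    intro y hy F hF
    have h1 : cj y F ≤ O ⊓ centralizer (N i : Set G) := by
      have h2 := cj_mono y (le_inf hF.2.2.1 hF.2.2.2.1)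
      rwa [cj_eq_of_mem_normalizer (h.YQ i hy)] at h2
    have h3 := Lever.minOff_cj hF.2.1 y
    rw [cj_eq_of_mem_normalizer (h.YiE hij hy)] at h3
    exact ⟨isElementaryAbelian_cj y hF.1, h3, h1.trans inf_le_left, h1.trans inf_le_right⟩
  have hYj : ∀ y ∈ Y j, ∀ F ∈ 𝓔, IsElementaryAbelian 2 (cj y F) ∧ MinOff (E i j) (cj y F) ∧ cj y F ≤ O ∧
      cj y F ≤ centralizer (N j : Set G) := by
    intro y hy F hF
    have h1 : cj y F ≤ O ⊓ centralizer (N j : Set G) := by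
      have h2 := cj_mono y (le_inf hF.2.2.1 hF.2.2.2.2)
      rwa [cj_eq_of_mem_normalizer (h.YQ j hy)] at h2
    have h3 := Lever.minOff_cj hF.2.1 y
    rw [cj_eq_of_mem_normalizer (h.EY i j hij hy)] at h3
    exact ⟨isElementaryAbelian_cj y hF.1, h3, h1.trans inf_le_left, h1.trans inf_le_right⟩
  let H : Subgroup G :=
    { carrier := {y | (∀ B ∈ 𝓔, cj y B ∈ 𝓔) ∧ ∀ B ∈ 𝓔, cj y⁻¹ B ∈ 𝓔}
      one_mem' := ⟨fun B hB => by rwa [cj_one], fun B hB => by rwa [inv_one, cj_one]⟩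
      mul_mem' := by
        rintro a b ⟨ha, ha'⟩ ⟨hb, hb'⟩
        refine ⟨fun B hB => ?_, fun B hB => ?_⟩
        · rw [← cj_cj]
          exact ha _ (hb B hB)
        · rw [mul_inv_rev, ← cj_cj]
          exact hb' _ (ha' B hB)
      inv_mem' := by
        rintro a ⟨ha, ha'⟩
        exact ⟨ha', by rwa [inv_inv]⟩ }
  have hD : D ≤ H := by
    have key : ∀ y ∈ D, ∀ B ∈ 𝓔, cj y B ∈ 𝓔 := by
      intro y hy B hB
      have h1 := hYi y (h.DY i hy) B hB
      have h2 := hYj y (h.DY j hy) B hB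
      exact ⟨h1.1, h1.2.1, h1.2.2.1, h1.2.2.2, h2.2.2.2⟩
    exact fun y hy => ⟨key y hy, key y⁻¹ (inv_mem hy)⟩
  have hLi : L i ≤ H := by
    have key : ∀ y ∈ L i, ∀ B ∈ 𝓔, cj y B ∈ 𝓔 := by
      intro y hy B hB
      have h1 := hYi y (h.LY i hy) B hB
      exact ⟨h1.1, h1.2.1, h1.2.2.1, h1.2.2.2, hcon i j hij B hB.1 hB.2.1 hB.2.2.1 hB.2.2.2.1 hB.2.2.2.2 y hy⟩
    exact fun y hy => ⟨key y hy, key y⁻¹ (inv_mem hy)⟩
  have hLj : L j ≤ H := by
    have key : ∀ y ∈ L j, ∀ B ∈ 𝓔, cj y B ∈ 𝓔 := by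
      intro y hy B hB
      have h1 := hYj y (h.LY j hy) B hB
      have h2 : MinOff (E j i) B := by
        rw [← h.Esymm i j hij]
        exact hB.2.1
      exact ⟨h1.1, h1.2.1, h1.2.2.1, hcon j i hij.symm B hB.1 h2 hB.2.2.1 hB.2.2.2.2 hB.2.2.2.1 y hy, h1.2.2.2⟩
    exact fun y hy => ⟨key y hy, key y⁻¹ (inv_mem hy)⟩
  have hY : Y i ⊔ Y j ≤ H := by
    rw [h.Yeq i, h.Yeq j]
    exact sup_le (sup_le hD hLi) (sup_le hD hLj)
  -- `F` centralises `E`
  apply hF.mov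
  have h1 : E i j ≤ centralizer (F : Set G) := by
    refine (gen i j hij).trans (iSup_le fun y => ?_)
    have h2 := ((hY y.2).2 F hFE).2.2.1.trans (h.OD.trans hDZ)
    have h3 := cj_mono (y : G) h2
    rw [cj_cj_inv, cj_centralizer] at h3
    exact Subgroup.le_centralizer_iff.1 h3
  exact Subgroup.le_centralizer_iff.1 h1

/-- **(s1)-(s3)** -/
theorem exists_out [Finite ι] (hDZ : D ≤ centralizer (ZJ : Set G))
    (gen : ∀ i j, i ≠ j → E i j ≤ ⨆ y : (Y i ⊔ Y j : Subgroup G), cj (y : G) ZJ) :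
    ∃ i j, i ≠ j ∧ ∃ F : Subgroup G, Out D O L Y N V (E i j) i j F := by
  obtain ⟨i, j, hij, F₀, he, hF₀, hFO, hFi, hFj, x, hx, hn⟩ := h.exists_F hDZ gen
  have h1 : cj x F₀ ≤ O ⊓ centralizer (N i : Set G) := by
    have h2 := cj_mono x (le_inf hFO hFi)
    rwa [cj_eq_of_mem_normalizer (h.YQ i (h.LY i hx))] at h2
  have h3 : MinOff (E i j) (cj x F₀) := by
    have h3 := Lever.minOff_cj hF₀ x
    rwa [cj_eq_of_mem_normalizer (h.YiE hij (h.LY i hx))] at h3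
  have hel := isElementaryAbelian_cj x he
  have hno := h.no j _ hel (h1.trans inf_le_left)
  have hN := h.NE i j hij
  have hE := le_cent (h.Eel i j hij)
  obtain ⟨r1, r2, r3⟩ := h3.relIndex_eq hN hn hno
  refine ⟨i, j, hij, cj x F₀, h1.trans inf_le_left, hel, h1.trans inf_le_right, hn, fun e he f hf => ?_,
    h3.le_sup hN hn hno, h3.inf_le hN hn hno, r1.trans r2.symm, r3, r2, F₀, hFO, hFi, hFj, x, hx, rfl⟩
  have h4 : ⁅e, f⁆ ∈ ⁅E i j, cj x F₀⁆ := commutator_mem_commutator he hf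
  rw [h3.commutator_eq hN hn hno hE] at h4
  have h5 : ⁅N j, cj x F₀⁆ ≤ N j := by
    rw [commutator_le]
    intro n hn x' hx'
    have h6 := (mem_normalizer_iff.1 (h.YN j (h.DY j (h.OD ((h1 hx').1)))) n⁻¹).1 (inv_mem hn)
    rw [commutatorElement_def]
    have e : n * x' * n⁻¹ * x'⁻¹ = n * (x' * n⁻¹ * x'⁻¹) := by group
    rw [e]
    exact mul_mem hn h6
  exact h5 h4

end SIn

/-- **(s4)**: `F ≤ O₂(C_{Y j}(V i))` -/
theorem Out.low {D O : Subgroup G} {L Y N V : ι → Subgroup G} {E : Subgroup G} {i j : ι} {F Z : Subgroup G}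
    (h : Out D O L Y N V E i j F) (hO : O = o2 D) (hDY : D ≤ Y j) (hZN : Z ≤ N j)
    (hYN : Y j ≤ normalizer (N j : Set G)) (hst : Y j ⊓ centralizer (Z : Set G) ≤ D)
    (hC : L i ≤ normalizer ((Y j ⊓ centralizer (V i : Set G) : Subgroup G) : Set G))
    (hZ : L i ≤ centralizer (Z : Set G)) (hVN : V i ≤ N i) : F ≤ o2 (Y j ⊓ centralizer (V i : Set G)) := by
  obtain ⟨F₀, -, -, hFj, x, hx, rfl⟩ := h.ex
  exact Star.low hDY hZN hYN hst hC hZ hFj hx (h.FO.trans hO.le) (h.ci.trans (centralizer_le hVN))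

end Cfsg.Agent.Omega.EK3.Star
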