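import Cfsg.Agent.Omega.EK3.Star
import Cfsg.Agent.Omega.EK3.Lever
import Cfsg.Agent.Omega.EK3.ClQ

/-!
# EK3: case (E), at least three centres, every pair of centres interchanged (bb OMEGA #23621 of helper787, THEOREM S)

Over `Star.SIn`; `lever` = (4')(a)(b) (`Lever.Dt.lever`), `gen` = the quasi-primitivity `Y j = D K` of the normal
subgroups `K ≤ Y j` which move `N j`, `swap` = for `i ≠ j` some `g` normalises `O` and `E i j` and takes `N i` to `N j`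
(no 2-transitivity).

* `exists_mover` : every `N j` is moved by some `A ∈ AA O`;
* `exists_F` : for `i ≠ j` some `F ≤ O` moves `N j` and `[E i j, F] ≤ N j`;
* `norm_pair` : `Y j` normalises `N i N j`;
* **`false_of`** : the contradiction;
* `lever_of` : `lever` from `Lever.Dt`.
-/

set_option autoImplicit false
set_option linter.unusedSectionVars false

namespace Cfsg.Agent.Omega.EK3.Swap

open Subgroup Cfsg Cfsg.Agent.ZN.ChoiceBase Cfsg.Agent.ZN.ChoiceSit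
open Cfsg.Agent.Omega.EK3.Star Cfsg.Agent.Omega.EK3.Lever
open Cfsg.Agent.Omega.NO3S.EThree (Offd)
open scoped commutatorElement

universe u

variable {G : Type u} [Group G] {ι : Type*} {D O ZJ : Subgroup G} {L Y N V : ι → Subgroup G}
  {E : ι → ι → Subgroup G}

/-- every `N j` is moved by some `A ∈ AA O` -/
theorem exists_mover [Finite G] [Finite ι] (h : SIn D O ZJ L Y N V E)
    (swap : ∀ i j, i ≠ j → ∃ g : G, cj g O = O ∧ cj g (N i) = N j ∧ cj g (E i j) = E i j) (j : ι) :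
    ∃ A ∈ AA O, ¬ A ≤ centralizer (N j : Set G) := by
  obtain ⟨i₀, j₀, -, A, hA, hAl, x, hx, hn⟩ := h.exists_move
  have h1 : cj x A ∈ AA O := (h.cj_mem hA (hAl i₀) (h.LY i₀ hx)).1
  by_cases hj : j₀ = j
  · subst hj
    exact ⟨_, h1, hn⟩
  · obtain ⟨g, hgO, hgN, -⟩ := swap j₀ j hj
    refine ⟨cj g (cj x A), ?_, fun hc => hn ?_⟩
    · have h2 := cj_mem_AA g h1
      rwa [hgO] at h2
    · rw [← hgN, ← cj_centralizer] at hc
      have h2 := cj_mono g⁻¹ hc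
      rwa [cj_inv_cj, cj_inv_cj] at h2

/-- for `i ≠ j` some `F ≤ O` moves `N j` and `[E i j, F] ≤ N j` -/
theorem exists_F [Finite G] [Finite ι] (h : SIn D O ZJ L Y N V E)
    (lever : ∀ i j, i ≠ j → (∃ A ∈ AA O, ¬ A ≤ centralizer (N j : Set G)) →
      ∃ F ≤ O, (¬ F ≤ centralizer (N i : Set G) ∧ ∀ e ∈ E i j, ∀ f ∈ F, ⁅e, f⁆ ∈ N i) ∨
        (¬ F ≤ centralizer (N j : Set G) ∧ ∀ e ∈ E i j, ∀ f ∈ F, ⁅e, f⁆ ∈ N j))
    (swap : ∀ i j, i ≠ j → ∃ g : G, cj g O = O ∧ cj g (N i) = N j ∧ cj g (E i j) = E i j)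
    {i j : ι} (hij : i ≠ j) :
    ∃ F ≤ O, ¬ F ≤ centralizer (N j : Set G) ∧ ∀ e ∈ E i j, ∀ f ∈ F, ⁅e, f⁆ ∈ N j := by
  obtain ⟨F, hFO, ⟨h1, h2⟩ | ⟨h1, h2⟩⟩ := lever i j hij (exists_mover h swap j)
  · obtain ⟨g, hgO, hgN, hgE⟩ := swap i j hij
    refine ⟨cj g F, (cj_mono g hFO).trans hgO.le, fun hc => h1 ?_, ?_⟩
    · rw [← hgN, ← cj_centralizer] at hc
      have h3 := cj_mono g⁻¹ hc
      rwa [cj_inv_cj, cj_inv_cj] at h3
    · rintro e he _ ⟨f, hf, rfl⟩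
      have he' : e ∈ cj g (E i j) := by rw [hgE]; exact he
      obtain ⟨e', he', rfl⟩ := he'
      have h3 : (MulAut.conj g) ⁅e', f⁆ ∈ N j := by
        rw [← hgN]
        exact ⟨_, h2 e' he' f hf, rfl⟩
      have h4 : (MulAut.conj g) ⁅e', f⁆ = ⁅(MulAut.conj g) e', (MulAut.conj g) f⁆ := map_commutatorElement _ _ _
      rw [h4] at h3
      exact h3
  · exact ⟨F, hFO, h1, h2⟩

/-- `Y j` normalises `N i N j` -/
theorem norm_pair (h : SIn D O ZJ L Y N V E)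
    (gen : ∀ j, ∀ K : Subgroup G, K ≤ Y j → Y j ≤ normalizer (K : Set G) →
      ¬ K ≤ centralizer (N j : Set G) → Y j ≤ D ⊔ K)
    {i j : ι} (hij : i ≠ j) {F : Subgroup G} (hFO : F ≤ O) (hF : ¬ F ≤ centralizer (N j : Set G))
    (hFE : ∀ e ∈ E i j, ∀ f ∈ F, ⁅e, f⁆ ∈ N j) :
    Y j ≤ normalizer ((N i ⊔ N j : Subgroup G) : Set G) := by
  have hFY : F ≤ Y j := (hFO.trans h.OD).trans (h.DY j)
  have hK1 : Q.cls F (Y j) ≤ Y j := Q.cls_le fun y hy => by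
    have h1 := cj_mono y hFY
    rwa [cj_eq_of_mem_normalizer (Subgroup.le_normalizer hy)] at h1
  have hK2 := gen j _ hK1 (Q.cls_self_norm F (Y j)) fun hc => hF ((Q.le_cls F (Y j)).trans hc)
  have hNi : N i ≤ E i j := by
    rw [h.Esymm i j hij]
    exact h.NE j i hij.symm
  -- the conjugates of the elements of `F` under `Y j`
  have key : ∀ y ∈ Y j, ∀ f ∈ F, ∀ n ∈ N i ⊔ N j, (y * f * y⁻¹) * n * (y * f * y⁻¹)⁻¹ ∈ N i ⊔ N j := by
    intro y hy f hf n hn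
    have hkY : y * f * y⁻¹ ∈ Y j := mul_mem (mul_mem hy (hFY hf)) (inv_mem hy)
    have hNj : ∀ m ∈ N j, (y * f * y⁻¹) * m * (y * f * y⁻¹)⁻¹ ∈ N j := fun m hm =>
      (mem_normalizer_iff.1 (h.YN j hkY) m).1 hm
    have h1 : N i ≤ cj (y * f * y⁻¹)⁻¹ (N i ⊔ N j) := by
      intro m hm
      refine ⟨(y * f * y⁻¹) * m * (y * f * y⁻¹)⁻¹, ?_, ?_⟩
      · have h2 : y⁻¹ * m⁻¹ * y ∈ E i j := by
          have h3 := (mem_normalizer_iff.1 (h.EY i j hij (inv_mem hy)) m⁻¹).1 (hNi (inv_mem hm))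
          rwa [inv_inv] at h3
        have h4 := (mem_normalizer_iff.1 (h.YN j hy) _).1 (hFE _ h2 f hf)
        have h5 : (y * f * y⁻¹) * m * (y * f * y⁻¹)⁻¹ = m * (y * ⁅y⁻¹ * m⁻¹ * y, f⁆ * y⁻¹) := by
          rw [commutatorElement_def]; group
        show (y * f * y⁻¹) * m * (y * f * y⁻¹)⁻¹ ∈ N i ⊔ N j
        rw [h5]
        exact mul_mem (Subgroup.mem_sup_left hm) (Subgroup.mem_sup_right h4)
      · show (y * f * y⁻¹)⁻¹ * ((y * f * y⁻¹) * m * (y * f * y⁻¹)⁻¹) * ((y * f * y⁻¹)⁻¹)⁻¹ = m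
        group
    have h2 : N j ≤ cj (y * f * y⁻¹)⁻¹ (N i ⊔ N j) := by
      intro m hm
      refine ⟨(y * f * y⁻¹) * m * (y * f * y⁻¹)⁻¹, Subgroup.mem_sup_right (hNj m hm), ?_⟩
      show (y * f * y⁻¹)⁻¹ * ((y * f * y⁻¹) * m * (y * f * y⁻¹)⁻¹) * ((y * f * y⁻¹)⁻¹)⁻¹ = m
      group
    obtain ⟨m, hm, hmn⟩ := sup_le h1 h2 hn
    have e : (y * f * y⁻¹) * n * (y * f * y⁻¹)⁻¹ = m := by
      rw [← hmn]
      show (y * f * y⁻¹) * ((y * f * y⁻¹)⁻¹ * m * ((y * f * y⁻¹)⁻¹)⁻¹) * (y * f * y⁻¹)⁻¹ = m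
      group
    rw [e]
    exact hm
  have hK3 : Q.cls F (Y j) ≤ normalizer ((N i ⊔ N j : Subgroup G) : Set G) := by
    refine Q.cls_le fun y hy => ?_
    rintro _ ⟨f, hf, rfl⟩
    refine Q.mem_normalizer_of_cj_le_iff ?_ ?_
    · exact fun n hn => key y hy f hf n hn
    · intro n hn
      have h1 := key y hy f⁻¹ (inv_mem hf) n hn
      have e : y * f⁻¹ * y⁻¹ = (y * f * y⁻¹)⁻¹ := by group
      rw [e, inv_inv] at h1
      exact h1
  have hD : D ≤ normalizer ((N i ⊔ N j : Subgroup G) : Set G) := by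
    intro d hd
    rw [mem_normalizer_iff_cj]
    show (N i ⊔ N j).map _ = N i ⊔ N j
    rw [Subgroup.map_sup]
    exact congrArg₂ (· ⊔ ·) (cj_eq_of_mem_normalizer (h.YN i (h.DY i hd)))
      (cj_eq_of_mem_normalizer (h.YN j (h.DY j hd)))
  exact hK2.trans (sup_le hD hK3)

/-- **THEOREM S, abstract**: every pair of indices is interchanged. -/
theorem false_of [Finite G] [Finite ι] (h : SIn D O ZJ L Y N V E)
    (lever : ∀ i j, i ≠ j → (∃ A ∈ AA O, ¬ A ≤ centralizer (N j : Set G)) →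
      ∃ F ≤ O, (¬ F ≤ centralizer (N i : Set G) ∧ ∀ e ∈ E i j, ∀ f ∈ F, ⁅e, f⁆ ∈ N i) ∨
        (¬ F ≤ centralizer (N j : Set G) ∧ ∀ e ∈ E i j, ∀ f ∈ F, ⁅e, f⁆ ∈ N j))
    (gen : ∀ j, ∀ K : Subgroup G, K ≤ Y j → Y j ≤ normalizer (K : Set G) →
      ¬ K ≤ centralizer (N j : Set G) → Y j ≤ D ⊔ K)
    (swap : ∀ i j, i ≠ j → ∃ g : G, cj g O = O ∧ cj g (N i) = N j ∧ cj g (E i j) = E i j) : False := by
  have hp : ∀ i j, i ≠ j → Y j ≤ normalizer ((N i ⊔ N j : Subgroup G) : Set G) := by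
    intro i j hij
    obtain ⟨F, h1, h2, h3⟩ := exists_F h lever swap hij
    exact norm_pair h gen hij h1 h2 h3
  obtain ⟨j₀, hj₀⟩ := h.ne
  have hY : ∀ j, Y j ≤ normalizer ((⨆ l, N l : Subgroup G) : Set G) := by
    intro j
    have key : ∀ y ∈ Y j, cj y (⨆ l, N l) ≤ ⨆ l, N l := by
      intro y hy
      rw [cj_le_iff]
      refine iSup_le fun l => ?_
      rw [← cj_le_iff]
      by_cases hl : l = j
      · subst hl
        rw [cj_eq_of_mem_normalizer (h.YN l hy)]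
        exact le_iSup N l
      · have h1 : cj y (N l ⊔ N j) = N l ⊔ N j := cj_eq_of_mem_normalizer (hp l j hl hy)
        exact ((cj_mono y le_sup_left).trans h1.le).trans (sup_le (le_iSup N l) (le_iSup N j))
    intro y hy
    rw [mem_normalizer_iff_cj]
    refine le_antisymm (key y hy) ?_
    have h1 := cj_mono y (key y⁻¹ (inv_mem hy))
    rwa [cj_cj_inv] at h1
  obtain ⟨i, hi⟩ := h.nl (⨆ l, N l) (h.two.to_le (iSup_le h.NO))
    (fun e => hj₀ (le_bot_iff.1 (e ▸ le_iSup N j₀))) ((h.DY j₀).trans (hY j₀))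
  exact hi ((h.LY i).trans (hY i))

/-- `lever` from `Lever.Dt`. -/
theorem lever_of [Finite G] (h : SIn D O ZJ L Y N V E) (hOZ : O ≤ centralizer (ZJ : Set G))
    (hgen : ∀ i j, i ≠ j → E i j ≤ ⨆ y : (Y i ⊔ Y j : Subgroup G), cj (y : G) ZJ) (i j : ι) (hij : i ≠ j)
    (hA : ∃ A ∈ AA O, ¬ A ≤ centralizer (N j : Set G)) :
    ∃ F ≤ O, (¬ F ≤ centralizer (N i : Set G) ∧ ∀ e ∈ E i j, ∀ f ∈ F, ⁅e, f⁆ ∈ N i) ∨
      (¬ F ≤ centralizer (N j : Set G) ∧ ∀ e ∈ E i j, ∀ f ∈ F, ⁅e, f⁆ ∈ N j) := by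
  obtain ⟨A, hA, hm⟩ := hA
  have hOY : ∀ l, O ≤ Y l := fun l => h.OD.trans (h.DY l)
  have hEY' : Y i ≤ normalizer (E i j : Set G) := by
    rw [h.Esymm i j hij]
    exact h.EY j i hij.symm
  have hNi : N i ≤ E i j := by
    rw [h.Esymm i j hij]
    exact h.NE j i hij.symm
  have hd : Dt O (E i j) ZJ (fun b : Bool => Y (cond b i j)) (fun b : Bool => N (cond b i j)) := by
    refine ⟨le_cent (h.Eel i j hij), fun b => hOY _, ?_, hOZ, ?_, ?_, fun b => h.YN _, fun b => h.YQ _,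
      fun b => h.no _⟩
    · rintro (_ | _)
      · exact h.EY i j hij
      · exact hEY'
    · refine (hgen i j hij).trans (iSup_le fun y => ?_)
      have hy : (y : G) ∈ (⨆ b : Bool, Y (cond b i j) : Subgroup G) :=
        (sup_le (le_iSup (fun b : Bool => Y (cond b i j)) true)
          (le_iSup (fun b : Bool => Y (cond b i j)) false)) y.2
      exact le_iSup (fun y : (⨆ b : Bool, Y (cond b i j) : Subgroup G) => cj (y : G) ZJ) ⟨y, hy⟩
    · rintro (_ | _)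
      · exact h.NE i j hij
      · exact hNi
  have hoff : Offd (E i j) A := offd_of_AA (h.Eel i j hij) (h.EO i j hij) hA
    ((hA.2.1.trans (hOY j)).trans (h.EY i j hij)) fun hc => hm (hc.trans (centralizer_le (h.NE i j hij)))
  obtain ⟨b, F, hF, -, h1, h2⟩ := hd.lever hA.2.1 hA.1 hoff
  cases b
  · exact ⟨F, hF, Or.inr ⟨h1, h2⟩⟩
  · exact ⟨F, hF, Or.inl ⟨h1, h2⟩⟩

end Cfsg.Agent.Omega.EK3.Swap
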