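import Cfsg.Agent.Omega.EK3.Rank

/-!
# THEOREM N (1b) (helper381 #23328)

Pure group theory. `O` any subgroup, `N ≤ O` elementary abelian with `(NO)`, `A ∈ AA(O)` whose part `A_b := C_A(N)`
centralises `X ≥ N`; `X ≤ X' ≤ C_O(N)` elementary abelian, `A` normalises `N` and `X'`.

* `sup_of` : every elementary abelian `E ≤ O`, `N ≤ E`, centralised by `A_b` is `N C_E(A)`; `comm_mem` : `[E, A] ≤ N`;
* `card_mul_le` : `y ≤ O` a `t.i.` point moved by `A`: `|y| |C_A(y)| ≤ |A|`;
* `oneB` : `y ≤ X` a `t.i.` point with `y ∩ N = 1` moved by `A`; `n ∈ X'` with `[n, A_b] ≤ y`. Then `[n, A_b] = 1` and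
  `[n, A] ≤ N`.
-/

set_option autoImplicit false
set_option linter.unusedSectionVars false

namespace Cfsg.Agent.Omega.EK3.ThN

open Subgroup Cfsg Cfsg.Agent.ZN Cfsg.Agent.Omega.MinPar
open Cfsg.Agent.Omega.NO3S.EThree Cfsg.Agent.Omega.NO3S.EThree.ExactA
open Cfsg.Agent.ZN.ChoiceBase (AA mm mm_eq mem_AA_iff AA_nonempty card_le_mm)
open Cfsg.Agent.Omega.NoFF.Basic (comm_symm comm_mono)
open Cfsg.Agent.Omega.NO3S.ML (card_mul_relIndex card_sup_mul_of_comm)
open Cfsg.Agent.Omega.EK3.Rank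
open scoped commutatorElement

universe u

variable {G : Type u} [Group G]

theorem mem_sup_comm {K L : Subgroup G} (hc : ∀ a ∈ K, ∀ b ∈ L, a * b = b * a) {g : G} (hg : g ∈ K ⊔ L) :
    ∃ a ∈ K, ∃ b ∈ L, g = a * b := by
  rw [Subgroup.sup_eq_closure] at hg
  induction hg using Subgroup.closure_induction with
  | mem x hx =>
    rcases hx with hx | hx
    · exact ⟨x, hx, 1, one_mem _, (mul_one x).symm⟩
    · exact ⟨1, one_mem _, x, hx, (one_mul x).symm⟩
  | one => exact ⟨1, one_mem _, 1, one_mem _, (mul_one 1).symm⟩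
  | mul x y _ _ hx hy =>
    obtain ⟨a, ha, b, hb, rfl⟩ := hx
    obtain ⟨a', ha', b', hb', rfl⟩ := hy
    refine ⟨a * a', mul_mem ha ha', b * b', mul_mem hb hb', ?_⟩
    calc a * b * (a' * b') = a * (b * a') * b' := by group
      _ = a * (a' * b) * b' := by rw [hc a' ha' b hb]
      _ = _ := by group
  | inv x _ hx =>
    obtain ⟨a, ha, b, hb, rfl⟩ := hx
    refine ⟨a⁻¹, inv_mem ha, b⁻¹, inv_mem hb, ?_⟩
    rw [hc a ha b hb]
    group

variable [Finite G]

section sup

variable {O N A : Subgroup G} (hN : IsElementaryAbelian 2 N) (hNO : N ≤ O) (no : NoOn O N) (hA : A ∈ AA O)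
include hN hNO no hA

/-- Every elementary abelian `E ≤ O`, `N ≤ E`, centralised by `C_A(N)` is `N C_E(A)`. -/
theorem sup_of {E : Subgroup G} (hE : IsElementaryAbelian 2 E) (hEO : E ≤ O) (hNE : N ≤ E)
    (hc : A ⊓ centralizer (N : Set G) ≤ centralizer (E : Set G)) : E = N ⊔ (E ⊓ centralizer (A : Set G)) := by
  have hE' := (eab_iff.1 hE).1
  have e1 : A ⊓ centralizer (E : Set G) = A ⊓ centralizer (N : Set G) :=
    le_antisymm (inf_le_inf_left _ (centralizer_le hNE)) (le_inf inf_le_left hc)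
  have e2 : (centralizer (E : Set G)).relIndex A = (centralizer (N : Set G)).relIndex A := by
    rw [← Subgroup.inf_relIndex_left, e1, Subgroup.inf_relIndex_left]
  have h1 := le_of_mem hE hEO hA
  rw [e2, (exch hN hNO no hA).1] at h1
  set D := E ⊓ centralizer (A : Set G) with hD
  have hDN : D ⊓ N = N ⊓ centralizer (A : Set G) := by
    rw [hD]
    refine le_antisymm (le_inf inf_le_right (inf_le_left.trans inf_le_right)) ?_
    exact le_inf (le_inf (inf_le_left.trans hNE) inf_le_right) inf_le_left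
  have h2 : Nat.card (D ⊔ N : Subgroup G) * Nat.card (D ⊓ N : Subgroup G) = Nat.card D * Nat.card N :=
    card_sup_mul_of_comm fun a ha b hb =>
      (mem_centralizer_iff.1 (((inf_le_left.trans hE').trans (centralizer_le hNE)) ha) b hb).symm
  have h3 : Nat.card D * (centralizer (A : Set G)).relIndex E = Nat.card E := by
    rw [hD, ← Subgroup.inf_relIndex_left]
    exact card_mul_relIndex inf_le_left
  have h4 : Nat.card (D ⊓ N : Subgroup G) * (centralizer (A : Set G)).relIndex N = Nat.card N := by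
    rw [hDN, ← Subgroup.inf_relIndex_left]
    exact card_mul_relIndex inf_le_left
  have p1 : 0 < Nat.card (D ⊓ N : Subgroup G) := Nat.card_pos
  have h5 : Nat.card E ≤ Nat.card (D ⊔ N : Subgroup G) := by
    refine Nat.le_of_mul_le_mul_right (c := Nat.card (D ⊓ N : Subgroup G)) ?_ p1
    rw [h2, ← h3, ← h4]
    calc Nat.card D * (centralizer (A : Set G)).relIndex E * Nat.card (D ⊓ N : Subgroup G)
        ≤ Nat.card D * (centralizer (A : Set G)).relIndex N * Nat.card (D ⊓ N : Subgroup G) :=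
          Nat.mul_le_mul_right _ (Nat.mul_le_mul_left _ h1)
      _ = _ := by ring
  have h6 : D ⊔ N ≤ E := sup_le inf_le_left hNE
  rw [sup_comm]
  exact (Subgroup.eq_of_le_of_card_ge h6 h5).symm

/-- `[E, A] ≤ N`. -/
theorem comm_mem {E : Subgroup G} (hE : IsElementaryAbelian 2 E) (hEO : E ≤ O) (hNE : N ≤ E)
    (hc : A ⊓ centralizer (N : Set G) ≤ centralizer (E : Set G)) (hAN : A ≤ normalizer (N : Set G)) {e a : G}
    (he : e ∈ E) (ha : a ∈ A) : ⁅e, a⁆ ∈ N := by
  rw [sup_of hN hNO no hA hE hEO hNE hc] at he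
  have hcomm : ∀ x ∈ N, ∀ z ∈ E ⊓ centralizer (A : Set G), x * z = z * x := fun x hx z hz =>
    (mem_centralizer_iff.1 ((eab_iff.1 hE).1 hz.1) x (hNE hx))
  obtain ⟨x, hx, z, hz, rfl⟩ := mem_sup_comm hcomm he
  have hza : a * z = z * a := (mem_centralizer_iff.1 hz.2 a ha)
  have e1 : ⁅x * z, a⁆ = x * (a * x⁻¹ * a⁻¹) := by
    rw [commutatorElement_def]
    calc x * z * a * (x * z)⁻¹ * a⁻¹ = x * (z * a) * (x * z)⁻¹ * a⁻¹ := by group
      _ = x * (a * z) * (z⁻¹ * x⁻¹) * a⁻¹ := by rw [hza, mul_inv_rev]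
      _ = _ := by group
  rw [e1]
  exact mul_mem hx ((mem_normalizer_iff.1 (hAN ha) x⁻¹).1 (inv_mem hx))

end sup

/-- A `t.i.` point `y ≤ O` moved by `A ∈ AA(O)`: `|y| |C_A(y)| ≤ |A|`. -/
theorem card_mul_le {O A y : Subgroup G} (hA : A ∈ AA O) (hy : IsElementaryAbelian 2 y) (hyO : y ≤ O)
    (hTI : ∀ a ∈ A, ∀ u ∈ y, u ≠ 1 → a * u * a⁻¹ ∈ y → a ∈ centralizer (y : Set G))
    (hmv : ¬ A ≤ centralizer (y : Set G)) :
    Nat.card y * Nat.card (A ⊓ centralizer (y : Set G) : Subgroup G) ≤ Nat.card A := by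
  have hA' := (eab_iff.1 hA.1).1
  set K := A ⊓ centralizer (y : Set G) with hK
  have hKe : IsElementaryAbelian 2 K := eab_mono hA.1 inf_le_left
  have hE : IsElementaryAbelian 2 (K ⊔ y : Subgroup G) := eab_sup hKe hy inf_le_right
  have hEA : Nat.card (K ⊔ y : Subgroup G) ≤ Nat.card A := hA.2.2 _ hE (sup_le (inf_le_left.trans hA.2.1) hyO)
  have hKy : K ⊓ y = ⊥ := by
    rw [eq_bot_iff]
    intro x hx
    by_contra hx1
    refine hmv fun a ha => hTI a ha x hx.2 hx1 ?_
    have : a * x = x * a := (mem_centralizer_iff.1 (hA' hx.1.1) a ha)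
    rw [this, mul_inv_cancel_right]
    exact hx.2
  have h1 : Nat.card (K ⊔ y : Subgroup G) * Nat.card (K ⊓ y : Subgroup G) = Nat.card K * Nat.card y :=
    card_sup_mul_of_comm fun a ha b hb => (mem_centralizer_iff.1 ((inf_le_right : K ≤ _) ha) b hb).symm
  rw [hKy, Subgroup.card_bot, mul_one] at h1
  rw [mul_comm, ← h1]
  exact hEA

/-- **THEOREM N (1b).** -/
theorem oneB_aux {O N X X' A y : Subgroup G} (hN : IsElementaryAbelian 2 N) (hNO : N ≤ O) (no : NoOn O N)
    (hA : A ∈ AA O) (hNX : N ≤ X) (hXX' : X ≤ X') (hX' : IsElementaryAbelian 2 X') (hX'O : X' ≤ O)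
    (hc : A ⊓ centralizer (N : Set G) ≤ centralizer (X : Set G)) (hAN : A ≤ normalizer (N : Set G))
    (hAX' : A ≤ normalizer (X' : Set G)) (hyX : y ≤ X)
    (hTI : ∀ a ∈ A, ∀ u ∈ y, u ≠ 1 → a * u * a⁻¹ ∈ y → a ∈ centralizer (y : Set G))
    (hyN : y ⊓ N = ⊥) (hmv : ¬ A ≤ centralizer (y : Set G)) {n : G} (hn : n ∈ X')
    (hb : ∀ c ∈ A ⊓ centralizer (N : Set G), ⁅n, c⁆ ∈ y) {c₀ : G} (hc₀ : c₀ ∈ A ⊓ centralizer (N : Set G)) :
    ⁅n, c₀⁆ = 1 := by
  by_contra hu1
  have hA' := (eab_iff.1 hA.1).1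
  have hXc := (eab_iff.1 hX').1
  have hNX' : N ≤ X' := hNX.trans hXX'
  have hX : IsElementaryAbelian 2 X := eab_mono hX' hXX'
  have hy : IsElementaryAbelian 2 y := eab_mono hX hyX
  set u := ⁅n, c₀⁆ with hu
  have huy : u ∈ y := hb c₀ hc₀
  -- the conjugates of `n`
  set X'' : Subgroup G := Subgroup.closure {x | ∃ a ∈ A, x = a * n * a⁻¹} with hX''
  have hcj : ∀ a ∈ A, a * n * a⁻¹ ∈ X' := fun a ha => (mem_normalizer_iff.1 (hAX' ha) n).1 hn
  have hXX'' : X'' ≤ X' := by
    rw [hX'', Subgroup.closure_le]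
    rintro x ⟨a, ha, rfl⟩
    exact hcj a ha
  have hnX'' : n ∈ X'' := Subgroup.subset_closure ⟨1, one_mem _, by simp⟩
  have hcom : ∀ a ∈ A, ∀ b ∈ A, a * b = b * a := fun a ha b hb' => (mem_centralizer_iff.1 (hA' hb') a ha)
  have hcomX : ∀ a ∈ X', ∀ b ∈ X', a * b = b * a := fun a ha b hb' => (mem_centralizer_iff.1 (hXc hb') a ha)
  -- the map `x ↦ [x, c₀]`
  have hcomm_mem : ∀ x ∈ X', ∀ c ∈ A, ⁅x, c⁆ ∈ X' := fun x hx c hc' => by
    rw [commutatorElement_def]
    have : x * c * x⁻¹ * c⁻¹ = x * (c * x⁻¹ * c⁻¹) := by group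
    rw [this]
    exact mul_mem hx ((mem_normalizer_iff.1 (hAX' hc') x⁻¹).1 (inv_mem hx))
  have hmul : ∀ x ∈ X', ∀ z ∈ X', ∀ c ∈ A, ⁅x * z, c⁆ = ⁅x, c⁆ * ⁅z, c⁆ := fun x hx z hz c hc' => by
    have h1 : ⁅x * z, c⁆ = x * ⁅z, c⁆ * x⁻¹ * ⁅x, c⁆ := by
      simp only [commutatorElement_def]; group
    rw [h1, hcomX x hx _ (hcomm_mem z hz c hc'), mul_inv_cancel_right]
    exact (hcomX _ (hcomm_mem x hx c hc') _ (hcomm_mem z hz c hc')).symm
  let φ : X'' →* X' :=
    { toFun := fun x => ⟨⁅(x : G), c₀⁆, hcomm_mem x (hXX'' x.2) c₀ hc₀.1⟩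
      map_one' := Subtype.ext (by simp [commutatorElement_def])
      map_mul' := fun x z => Subtype.ext (hmul x (hXX'' x.2) z (hXX'' z.2) c₀ hc₀.1) }
  set I : Subgroup G := φ.range.map X'.subtype with hI
  have hcardI : Nat.card I = Nat.card φ.range :=
    Nat.card_congr (Subgroup.equivMapOfInjective _ _ X'.subtype_injective).symm.toEquiv
  have hker : Nat.card φ.ker = Nat.card (X'' ⊓ centralizer ({c₀} : Set G) : Subgroup G) := by
    have : φ.ker.map X''.subtype = X'' ⊓ centralizer ({c₀} : Set G) := by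
      ext x
      simp only [Subgroup.mem_map, Subgroup.mem_inf, MonoidHom.mem_ker, Subgroup.coe_subtype, Subtype.exists,
        exists_and_right, exists_eq_right]
      constructor
      · rintro ⟨h1, h2⟩
        refine ⟨h1, ?_⟩
        rw [mem_centralizer_singleton_iff]
        have h3 : ⁅x, c₀⁆ = 1 := congrArg Subtype.val h2
        rw [commutatorElement_eq_one_iff_mul_comm] at h3
        exact h3
      · rintro ⟨h1, h2⟩
        refine ⟨h1, Subtype.ext ?_⟩
        rw [mem_centralizer_singleton_iff] at h2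
        exact commutatorElement_eq_one_iff_mul_comm.2 h2
    rw [← this]
    exact Nat.card_congr (Subgroup.equivMapOfInjective _ _ X''.subtype_injective).toEquiv
  have hIX : Nat.card I * Nat.card (X'' ⊓ centralizer ({c₀} : Set G) : Subgroup G) = Nat.card X'' := by
    rw [hcardI, ← hker]
    have h1 := Subgroup.card_mul_index φ.ker
    rw [Subgroup.index_ker] at h1
    rw [mul_comm]
    exact h1
  -- the conjugates of `u` are in `I`
  have huI : ∀ a ∈ A, a * u * a⁻¹ ∈ I := fun a ha => by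
    refine ⟨⟨⁅a * n * a⁻¹, c₀⁆, hcomm_mem _ (hcj a ha) c₀ hc₀.1⟩,
      ⟨⟨a * n * a⁻¹, Subgroup.subset_closure ⟨a, ha, rfl⟩⟩, rfl⟩, ?_⟩
    have e1 : a * c₀ * a⁻¹ = c₀ := by rw [hcom a ha c₀ hc₀.1, mul_inv_cancel_right]
    change ⁅a * n * a⁻¹, c₀⁆ = a * u * a⁻¹
    conv_lhs => rw [← e1]
    rw [hu]
    simp only [commutatorElement_def]
    group
  have huI1 : u ∈ I := by simpa using huI 1 (one_mem _)
  have huN : u ∉ N := fun h => hu1 (by
    have : u ∈ y ⊓ N := ⟨huy, h⟩
    rwa [hyN, Subgroup.mem_bot] at this)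
  have hXO : X ≤ O := hXX'.trans hX'O
  have hcu : ∀ a ∈ A, a * u * a⁻¹ * u⁻¹ ∈ N := fun a ha => by
    have h1 := comm_mem hN hNO no hA hX hXO hNX hc hAN (hyX huy) ha
    have h2 : a * u * a⁻¹ * u⁻¹ = ⁅u, a⁆⁻¹ := by
      simp only [commutatorElement_def]; group
    rw [h2]
    exact inv_mem h1
  -- `|A : C_A(y)| ≤ |I ∩ N|`
  have hcard1 : (centralizer (y : Set G)).relIndex A ≤ Nat.card (I ⊓ N : Subgroup G) := by
    rw [Subgroup.relIndex, Subgroup.index]
    refine Nat.card_le_card_of_injective (fun q => Quotient.liftOn' q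
      (fun a : A => (⟨a * u * (a : G)⁻¹ * u⁻¹, I.mul_mem (huI a a.2) (I.inv_mem huI1), hcu a a.2⟩ : (I ⊓ N : Subgroup G)))
      ?_) ?_
    · intro a b hab
      rw [QuotientGroup.leftRel_apply, mem_subgroupOf] at hab
      apply Subtype.ext
      change (a : G) * u * (a : G)⁻¹ * u⁻¹ = (b : G) * u * (b : G)⁻¹ * u⁻¹
      have h1 : ((a⁻¹ * b : A) : G) * u = u * ((a⁻¹ * b : A) : G) := (mem_centralizer_iff.1 hab u huy).symm
      rw [Subgroup.coe_mul, Subgroup.coe_inv] at h1
      have h2 : (b : G) * u * (b : G)⁻¹ = (a : G) * ((a : G)⁻¹ * b * u) * (b : G)⁻¹ := by group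
      rw [h2, h1]
      group
    · intro p q
      refine Quotient.inductionOn₂' p q fun a b hab => ?_
      rw [Quotient.eq'', QuotientGroup.leftRel_apply, mem_subgroupOf]
      have h0 : (a : G) * u * (a : G)⁻¹ * u⁻¹ = (b : G) * u * (b : G)⁻¹ * u⁻¹ := congrArg Subtype.val hab
      have h1 : (a : G) * u * (a : G)⁻¹ = (b : G) * u * (b : G)⁻¹ := mul_right_cancel h0
      refine hTI _ (a⁻¹ * b).2 u huy hu1 ?_
      rw [Subgroup.coe_mul, Subgroup.coe_inv]
      have h2 : (a : G)⁻¹ * b * u * ((a : G)⁻¹ * b)⁻¹ = (a : G)⁻¹ * ((b : G) * u * (b : G)⁻¹) * a := by group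
      rw [h2, ← h1]
      have h3 : (a : G)⁻¹ * ((a : G) * u * (a : G)⁻¹) * a = u := by group
      rw [h3]
      exact huy
  have hyO : y ≤ O := hyX.trans hXO
  have hcard2 : Nat.card y ≤ (centralizer (y : Set G)).relIndex A := by
    have h1 := card_mul_le hA hy hyO hTI hmv
    have h2 : Nat.card (A ⊓ centralizer (y : Set G) : Subgroup G) * (centralizer (y : Set G)).relIndex A =
        Nat.card A := by
      rw [← Subgroup.inf_relIndex_left]
      exact card_mul_relIndex inf_le_left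
    rw [← h2, mul_comm] at h1
    exact Nat.le_of_mul_le_mul_left h1 Nat.card_pos
  have hcard3 : 2 * Nat.card (I ⊓ N : Subgroup G) ≤ Nat.card I := by
    have hlt : I ⊓ N < I := lt_of_le_of_ne inf_le_left fun h => huN (by
      have : u ∈ I ⊓ N := by rw [h]; exact huI1
      exact this.2)
    have hdvd : Nat.card (I ⊓ N : Subgroup G) ∣ Nat.card I := Subgroup.card_dvd_of_le inf_le_left
    obtain ⟨m, hm⟩ := hdvd
    have hm0 : m ≠ 0 := by
      rintro rfl
      rw [mul_zero] at hm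
      exact (Nat.card_pos (α := I)).ne' hm
    have hm1 : m ≠ 1 := by
      rintro rfl
      rw [mul_one] at hm
      exact hlt.ne (Subgroup.eq_of_le_of_card_ge inf_le_left hm.le)
    rw [hm, mul_comm]
    exact Nat.mul_le_mul_left _ (by omega)
  have h2q : 2 * Nat.card y ≤ Nat.card I :=
    (Nat.mul_le_mul_left 2 (hcard2.trans hcard1)).trans hcard3
  -- Thompson for `C = A_b N`
  set Ab := A ⊓ centralizer (N : Set G) with hAb
  set C := Ab ⊔ N with hC
  have hCA : C ∈ AA O := (exch hN hNO no hA).2.2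
  have hX''e : IsElementaryAbelian 2 X'' := eab_mono hX' hXX''
  have hT := le_of_mem hX''e (hXX''.trans hX'O) hCA
  have hI1 : Nat.card I ≤ (centralizer (C : Set G)).relIndex X'' := by
    have h1 : Nat.card (X'' ⊓ centralizer (C : Set G) : Subgroup G) * (centralizer (C : Set G)).relIndex X'' =
        Nat.card X'' := by
      rw [← Subgroup.inf_relIndex_left]
      exact card_mul_relIndex inf_le_left
    have h2 : X'' ⊓ centralizer (C : Set G) ≤ X'' ⊓ centralizer ({c₀} : Set G) := by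
      refine inf_le_inf_left _ (centralizer_le ?_)
      rw [Set.singleton_subset_iff]
      exact (le_sup_left : Ab ≤ C) hc₀
    have h3 := Subgroup.card_le_of_le h2
    have p : 0 < Nat.card (X'' ⊓ centralizer ({c₀} : Set G) : Subgroup G) := Nat.card_pos
    refine Nat.le_of_mul_le_mul_right (c := Nat.card (X'' ⊓ centralizer ({c₀} : Set G) : Subgroup G)) ?_ p
    rw [hIX, ← h1, mul_comm]
    exact Nat.mul_le_mul_left _ h3
  -- `|C : C_C(X'')| ≤ |y|`
  have hcy : ∀ c ∈ Ab, ∀ v ∈ y, c * v * c⁻¹ = v := fun c hc' v hv => by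
    have : v * c = c * v := mem_centralizer_iff.1 (hc hc') v (hyX hv)
    rw [← this, mul_inv_cancel_right]
  let ψ : Ab →* y :=
    { toFun := fun c => ⟨⁅n, (c : G)⁆, hb c c.2⟩
      map_one' := Subtype.ext (by simp [commutatorElement_def])
      map_mul' := fun c c' => Subtype.ext (by
        have h1 : ⁅n, (c : G) * c'⁆ = ⁅n, (c : G)⁆ * ((c : G) * ⁅n, (c' : G)⁆ * (c : G)⁻¹) := by
          simp only [commutatorElement_def]; group
        change ⁅n, (c : G) * c'⁆ = ⁅n, (c : G)⁆ * ⁅n, (c' : G)⁆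
        rw [h1, hcy c c.2 _ (hb c' c'.2)]) }
  set K : Subgroup G := Ab ⊓ centralizer (X'' : Set G) with hK
  have hker2 : ψ.ker.map Ab.subtype ≤ K := by
    rintro _ ⟨c, hc', rfl⟩
    refine ⟨c.2, ?_⟩
    have h3 : ⁅n, (c : G)⁆ = 1 := congrArg Subtype.val hc'
    rw [commutatorElement_eq_one_iff_mul_comm] at h3
    change (c : G) ∈ centralizer (X'' : Set G)
    rw [hX'', Subgroup.centralizer_closure, mem_centralizer_iff]
    rintro x ⟨a, ha, rfl⟩
    have e1 : a * (c : G) * a⁻¹ = c := by rw [hcom a ha c c.2.1, mul_inv_cancel_right]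
    calc a * n * a⁻¹ * c = a * n * a⁻¹ * (a * c * a⁻¹) := by rw [e1]
      _ = a * (n * c) * a⁻¹ := by group
      _ = a * (c * n) * a⁻¹ := by rw [h3]
      _ = (a * c * a⁻¹) * (a * n * a⁻¹) := by group
      _ = _ := by rw [e1]
  have hAbK : Nat.card Ab ≤ Nat.card K * Nat.card y := by
    have h1 := Subgroup.card_mul_index ψ.ker
    rw [Subgroup.index_ker] at h1
    rw [← h1]
    refine Nat.mul_le_mul ?_ (Nat.card_le_card_of_injective _ ψ.range.subtype_injective)
    rw [Nat.card_congr (Subgroup.equivMapOfInjective ψ.ker Ab.subtype Ab.subtype_injective).toEquiv]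
    exact Subgroup.card_le_of_le hker2
  have hNX''c : N ≤ centralizer (X'' : Set G) := hNX'.trans (hXc.trans (centralizer_le hXX''))
  have hCy : (centralizer (X'' : Set G)).relIndex C ≤ Nat.card y := by
    have h1 : Nat.card (C ⊓ centralizer (X'' : Set G) : Subgroup G) * (centralizer (X'' : Set G)).relIndex C =
        Nat.card C := by
      rw [← Subgroup.inf_relIndex_left]
      exact card_mul_relIndex inf_le_left
    have h2 : K ⊔ N ≤ C ⊓ centralizer (X'' : Set G) :=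
      sup_le (le_inf (inf_le_left.trans le_sup_left) inf_le_right) (le_inf le_sup_right hNX''c)
    have h3 := Subgroup.card_le_of_le h2
    have h4 : Nat.card (K ⊔ N : Subgroup G) * Nat.card (K ⊓ N : Subgroup G) = Nat.card K * Nat.card N :=
      card_sup_mul_of_comm fun a ha b hb => (mem_centralizer_iff.1 ha.1.2 b hb).symm
    have h5 : Nat.card (Ab ⊔ N : Subgroup G) * Nat.card (Ab ⊓ N : Subgroup G) = Nat.card Ab * Nat.card N :=
      card_sup_mul_of_comm fun a ha b hb => (mem_centralizer_iff.1 ha.2 b hb).symm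
    have h6 : K ⊓ N = Ab ⊓ N := by
      refine le_antisymm (inf_le_inf_right _ inf_le_left) (le_inf (le_inf inf_le_left ?_) inf_le_right)
      exact inf_le_right.trans hNX''c
    rw [h6] at h4
    set m := (centralizer (X'' : Set G)).relIndex C with hm
    have pK : 0 < Nat.card K := Nat.card_pos
    have pN : 0 < Nat.card N := Nat.card_pos
    have h7 : Nat.card K * Nat.card N * m ≤ Nat.card Ab * Nat.card N := by
      calc Nat.card K * Nat.card N * m = Nat.card (K ⊔ N : Subgroup G) * Nat.card (Ab ⊓ N : Subgroup G) * m := by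
            rw [h4]
        _ = Nat.card (K ⊔ N : Subgroup G) * m * Nat.card (Ab ⊓ N : Subgroup G) := by ring
        _ ≤ Nat.card (C ⊓ centralizer (X'' : Set G) : Subgroup G) * m * Nat.card (Ab ⊓ N : Subgroup G) :=
            Nat.mul_le_mul_right _ (Nat.mul_le_mul_right _ h3)
        _ = Nat.card Ab * Nat.card N := by rw [h1, ← h5]
    have h8 : Nat.card K * Nat.card N * m ≤ Nat.card K * Nat.card N * Nat.card y := by
      refine h7.trans ((Nat.mul_le_mul_right _ hAbK).trans (le_of_eq ?_))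
      ring
    exact Nat.le_of_mul_le_mul_left h8 (Nat.mul_pos pK pN)
  have hfin : 2 * Nat.card y ≤ Nat.card y := h2q.trans (hI1.trans (hT.trans hCy))
  have hp : 0 < Nat.card y := Nat.card_pos
  omega

/-- **THEOREM N (1b)**: `[n, A] ≤ N`. -/
theorem oneB {O N X X' A y : Subgroup G} (hN : IsElementaryAbelian 2 N) (hNO : N ≤ O) (no : NoOn O N)
    (hA : A ∈ AA O) (hNX : N ≤ X) (hXX' : X ≤ X') (hX' : IsElementaryAbelian 2 X') (hX'O : X' ≤ O)
    (hc : A ⊓ centralizer (N : Set G) ≤ centralizer (X : Set G)) (hAN : A ≤ normalizer (N : Set G))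
    (hAX' : A ≤ normalizer (X' : Set G)) (hyX : y ≤ X)
    (hTI : ∀ a ∈ A, ∀ u ∈ y, u ≠ 1 → a * u * a⁻¹ ∈ y → a ∈ centralizer (y : Set G))
    (hyN : y ⊓ N = ⊥) (hmv : ¬ A ≤ centralizer (y : Set G)) {n : G} (hn : n ∈ X')
    (hb : ∀ c ∈ A ⊓ centralizer (N : Set G), ⁅n, c⁆ ∈ y) {a : G} (ha : a ∈ A) : ⁅n, a⁆ ∈ N := by
  have hXc := (eab_iff.1 hX').1
  have h1 : ∀ c ∈ A ⊓ centralizer (N : Set G), ⁅n, c⁆ = 1 := fun c hc' =>
    oneB_aux hN hNO no hA hNX hXX' hX' hX'O hc hAN hAX' hyX hTI hyN hmv hn hb hc'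
  set E : Subgroup G := N ⊔ Subgroup.zpowers n with hE
  have hzn : Subgroup.zpowers n ≤ X' := by rwa [Subgroup.zpowers_le]
  have hEX' : E ≤ X' := sup_le (hNX.trans hXX') hzn
  refine comm_mem hN hNO no hA (eab_mono hX' hEX') (hEX'.trans hX'O) le_sup_left ?_ hAN
    ((le_sup_right : _ ≤ E) (Subgroup.mem_zpowers n)) ha
  refine comm_symm (sup_le ?_ ?_)
  · exact comm_symm inf_le_right
  · rw [Subgroup.zpowers_le, mem_centralizer_iff]
    intro c hc'
    exact (commutatorElement_eq_one_iff_mul_comm.1 (h1 c hc')).symm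

end Cfsg.Agent.Omega.EK3.ThN
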