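import Cfsg.Agent.Omega.NO3S.EThree.FrameG

/-!
# NO-3S, case (E), `k ≥ 3`, `q = 2`: (U) of bb #22451 (B2) (helper712), over `Bg` (typed by helper3)

`Y = C_G(Z l : l ≠ j)`, `B` a Sylow 2-subgroup of `Y`, `V_i = W i`, `V_j = W j`, `Zo Z j = Z^j = ⟨Z l : l ≠ j⟩`,
`V_i^Y ⊆ O₂(P)`.

* `Zo Z j`, `Zo_le_ZJ`, `Zo_le_C`, `le_Zo` : `Z^j = Z_J ∩ C_j`;
* `dcmp` : `x ∈ V`, all components of `x` outside `i, j` in `Z l` : `x ∈ V_i V_j Z^j`;
* `UIn` : the input;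
* **`UIn.uni`** : a minimal parabolic `R` over `B` in `Y` which normalises `V_j` and moves `Z j` fixes `V_i Z^j / Z^j`
  elementwise: `[r, v] ∈ Z^j`;
* **`UIn.nB`** : the same for `N_Y(B)`.
-/

set_option autoImplicit false
set_option linter.unusedSectionVars false

namespace Cfsg.Agent.Omega.EK3.UFix

open Subgroup Cfsg Cfsg.Agent.ZN.ChoiceBase
open Cfsg.Agent.ZN (zc zl o2)
open Cfsg.Agent.ZN.ChoiceSit (Syl exists_syl syl_conj)
open Cfsg.Agent.MinSimple.MinParabolic (IsMinPar)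
open Cfsg.Agent.Omega.SQ1.FFOne (syl_inf)
open Cfsg.Agent.Omega.NO3S.EThree.Frame

universe u

variable {G : Type u} [Group G]

/-- `Z^j = ⟨Z l : l ≠ j⟩` -/
def Zo {ι : Type} (Z : ι → Subgroup G) (j : ι) : Subgroup G := ⨆ l : {l : ι // l ≠ j}, Z l

theorem le_Zo_of {ι : Type} {Z : ι → Subgroup G} {j l : ι} (hl : l ≠ j) : Z l ≤ Zo Z j :=
  le_iSup (fun l : {l : ι // l ≠ j} => Z l) ⟨l, hl⟩

section dec

variable [Finite G] {S : Sylow 2 G} {P : Subgroup G} {ι : Type} {B ZJ : Subgroup G}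
  {L W Z C : ι → Subgroup G} {q : ℕ} (h : Bg S P B ZJ L W Z C q)
include h

theorem Zo_le_ZJ (j : ι) : Zo Z j ≤ ZJ := iSup_le fun l => h.fr.Z_le l

theorem Zo_le_C (j : ι) : Zo Z j ≤ C j :=
  iSup_le fun l => ((h.fr.blk l).ZV).trans (h.fr.WjC j l l.2.symm)

/-- `Z_J ∩ C_j ≤ Z^j` -/
theorem le_Zo [Finite ι] (j : ι) : ZJ ⊓ C j ≤ Zo Z j := by
  classical
  have := Fintype.ofFinite ι
  rintro v ⟨hv, hvC⟩
  have key : ∀ s : Finset ι, j ∉ s → ∃ u ∈ Zo Z j, ∀ l ∈ s, u⁻¹ * v ∈ C l := by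
    intro s
    induction s using Finset.induction_on with
    | empty => exact fun _ => ⟨1, one_mem _, by simp⟩
    | insert l s hl ih =>
      intro hi
      have hlj : l ≠ j := fun e => hi (e ▸ Finset.mem_insert_self _ _)
      obtain ⟨u, hu, h1⟩ := ih fun e => hi (Finset.mem_insert_of_mem e)
      obtain ⟨w, hw, c, hc, -, e⟩ := h.fr.split_ZJ l (mul_mem (inv_mem (Zo_le_ZJ h j hu)) hv)
      refine ⟨u * w, mul_mem hu (le_Zo_of hlj hw), fun m hm => ?_⟩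
      have e1 : (u * w)⁻¹ * v = w⁻¹ * (u⁻¹ * v) := by group
      rw [e1]
      rcases Finset.mem_insert.1 hm with rfl | hm
      · rw [e]
        have : w⁻¹ * (w * c) = c := by group
        rwa [this]
      · have hml : m ≠ l := fun e => hl (e ▸ hm)
        exact mul_mem (inv_mem (h.fr.WjC m l hml ((h.fr.blk l).ZV hw))) (h1 m hm)
  obtain ⟨u, hu, h1⟩ := key (Finset.univ.erase j) (Finset.notMem_erase _ _)
  have h2 : u⁻¹ * v = 1 := by
    refine h.fr.C0 _ (mul_mem (inv_mem (h.fr.CV j (Zo_le_C h j hu))) (h.fr.ZJV hv)) fun l => ?_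
    by_cases hl : l = j
    · subst hl
      exact mul_mem (inv_mem (Zo_le_C h l hu)) hvC
    · exact h1 l (Finset.mem_erase.2 ⟨hl, Finset.mem_univ _⟩)
  rw [← inv_mul_eq_one.1 h2]
  exact hu

/-- an element of `V` whose components outside `i`, `j` lie in `Z l` is in `V_i V_j Z^j` -/
theorem dcmp [Finite ι] {i j : ι} (hij : i ≠ j) {x : G} (hx : x ∈ zl (S : Subgroup G) P)
    (hl : ∀ l, l ≠ i → l ≠ j → ∃ w ∈ Z l, ∃ c ∈ C l, x = w * c) :
    ∃ a ∈ W i, ∃ b ∈ W j, ∃ z ∈ Zo Z j, x = a * b * z := by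
  obtain ⟨b, hb, c, hc, e⟩ := h.fr.WC j x hx
  obtain ⟨a, ha, c', hc', e'⟩ := h.fr.WC i c (h.fr.CV j hc)
  have haj : a ∈ C j := h.fr.WjC j i hij.symm ha
  have hc'j : c' ∈ C j := by
    have : c' = a⁻¹ * c := by rw [e']; group
    rw [this]
    exact mul_mem (inv_mem haj) hc
  have hc'V := h.fr.CV j hc'j
  have hab : b * a = a * b := h.fr.Vc (h.fr.WV j hb) (h.fr.WV i ha)
  refine ⟨a, ha, b, hb, c', le_Zo h j ⟨(h.fr.mem_ZJ c').2 ⟨hc'V, fun t ht => ?_⟩, hc'j⟩, ?_⟩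
  · -- `[t, c'] = 1`
    have hV : t * c' * t⁻¹ ∈ C j := h.fr.BC j t ht c' hc'j
    have h1 : t * c' * t⁻¹ * c'⁻¹ = 1 := by
      refine h.fr.C0 _ (mul_mem (h.fr.CV j hV) (inv_mem hc'V)) fun l => ?_
      by_cases hli : l = i
      · subst hli
        exact mul_mem (h.fr.BC l t ht c' hc') (inv_mem hc')
      by_cases hlj : l = j
      · subst hlj
        exact mul_mem hV (inv_mem hc'j)
      · obtain ⟨w, hw, d, hd, ex⟩ := hl l hli hlj
        have hal : a ∈ C l := h.fr.WjC l i hli ha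
        have hbl : b ∈ C l := h.fr.WjC l j hlj hb
        -- `c' = w * d'`
        have hd' : b⁻¹ * a⁻¹ * d ∈ C l := mul_mem (mul_mem (inv_mem hbl) (inv_mem hal)) hd
        have hwV := h.fr.ZV l hw
        have hbaV : b⁻¹ * a⁻¹ ∈ zl (S : Subgroup G) P := mul_mem (inv_mem (h.fr.WV j hb)) (inv_mem (h.fr.WV i ha))
        have ec : c' = w * (b⁻¹ * a⁻¹ * d) := by
          have h2 : x = b * (a * c') := by rw [e, e']
          have h3 : c' = a⁻¹ * b⁻¹ * x := by rw [h2]; group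
          have h4 : a⁻¹ * b⁻¹ = b⁻¹ * a⁻¹ := h.fr.Vc (inv_mem (h.fr.WV i ha)) (inv_mem (h.fr.WV j hb))
          rw [h3, ex, h4, ← mul_assoc, ← mul_assoc, h.fr.Vc hbaV hwV]
        have hcw : t * w = w * t := (h.fr.blk l).cZ t ht w hw
        set d' := b⁻¹ * a⁻¹ * d with hd'e
        have e5 : t * c' * t⁻¹ * c'⁻¹ = w * (t * d' * t⁻¹ * d'⁻¹) * w⁻¹ := by
          rw [ec]
          calc t * (w * d') * t⁻¹ * (w * d')⁻¹ = (t * w) * d' * t⁻¹ * d'⁻¹ * w⁻¹ := by group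
            _ = (w * t) * d' * t⁻¹ * d'⁻¹ * w⁻¹ := by rw [hcw]
            _ = _ := by group
        have h6 : t * d' * t⁻¹ * d'⁻¹ ∈ C l := mul_mem (h.fr.BC l t ht d' hd') (inv_mem hd')
        rw [e5, h.fr.Vc hwV (h.fr.CV l h6), mul_inv_cancel_right]
        exact h6
    exact mul_inv_eq_iff_eq_mul.1 (mul_inv_eq_one.1 h1)
  · rw [e, e', ← mul_assoc, hab]

end dec

/-- The input of (U). -/
structure UIn [Finite G] (S : Sylow 2 G) (P B ZJ : Subgroup G) {ι : Type} (L W Z C : ι → Subgroup G) (i j : ι)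
    (Y : Subgroup G) : Prop where
  bg : Bg S P B ZJ L W Z C 2
  ij : i ≠ j
  cen : ∀ l, l ≠ j → Y ≤ centralizer (Z l : Set G)
  PY : P ⊓ centralizer (C j : Set G) ≤ Y
  syl : Syl B Y

/-- `C_B(V_j)` is normal in a minimal parabolic `R` over `B` which normalises `V_j` and moves `Z j` -/
theorem norm_T0 [Finite G] {B W Z R : Subgroup G} (hB : Syl B R) (hmin : IsMinPar B R)
    (hRW : R ≤ normalizer (W : Set G)) (hZW : Z ≤ W) (hBZ : B ≤ centralizer (Z : Set G))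
    (hmv : ¬ R ≤ centralizer (Z : Set G)) : R ≤ normalizer ((B ⊓ centralizer (W : Set G) : Subgroup G) : Set G) := by
  obtain ⟨R₀, hR₀, hmax⟩ := hmin.exists_max
  set N : Subgroup G := R ⊓ centralizer (W : Set G) with hN
  have hNn : R ≤ normalizer (N : Set G) := by
    intro r hr
    rw [mem_normalizer_iff_cj, hN, cj_inf, cj_centralizer, cj_eq_of_mem_normalizer (le_normalizer hr),
      cj_eq_of_mem_normalizer (hRW hr)]
  have hBN : B ⊓ N = B ⊓ centralizer (W : Set G) := by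
    rw [hN, ← inf_assoc, inf_eq_left.2 hB.1]
  have hT := syl_inf hB (inf_le_left : N ≤ R) fun r hr n hn => (mem_normalizer_iff.1 (hNn hr) n).1 hn
  rw [hBN] at hT
  -- `N B < R`
  have h1 : N ⊔ B ≤ R₀ := by
    refine hmax _ le_sup_right (lt_of_le_of_ne (sup_le inf_le_left hB.1) fun e => hmv ?_)
    rw [← e]
    exact sup_le (inf_le_right.trans (centralizer_le hZW)) hBZ
  have hfr : ∀ r ∈ R, ∃ c ∈ N, c * r ∈ normalizer ((B ⊓ centralizer (W : Set G) : Subgroup G) : Set G) := by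
    intro r hr
    have h2 : Syl (cj r (B ⊓ centralizer (W : Set G))) N := by
      refine ⟨?_, isPGroup_cj r hT.2.1, fun Q hQ hQ2 hle => ?_⟩
      · rw [← cj_eq_of_mem_normalizer (hNn hr)]
        exact cj_mono r hT.1
      · symm
        refine Subgroup.eq_of_le_of_card_ge hle ?_
        have h3 := hT.2.2 (cj r⁻¹ Q) (by
          rw [cj_le_iff, inv_inv, cj_eq_of_mem_normalizer (hNn hr)]
          exact hQ) (isPGroup_cj _ hQ2) (by
          rw [← cj_inv_cj r (B ⊓ centralizer (W : Set G))]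
          exact cj_mono _ hle)
        rw [← card_cj r⁻¹ Q, h3, card_cj]
    obtain ⟨c, hc, e⟩ := syl_conj h2 hT
    exact ⟨c, hc, by rw [mem_normalizer_iff_cj, ← cj_cj, e]⟩
  have hBn : B ≤ normalizer ((B ⊓ centralizer (W : Set G) : Subgroup G) : Set G) := by
    intro b hb
    rw [mem_normalizer_iff_cj, cj_inf, cj_centralizer, cj_eq_of_mem_normalizer (le_normalizer hb),
      cj_eq_of_mem_normalizer (hRW (hB.1 hb))]
  by_contra hcon
  have h2 : R ⊓ normalizer ((B ⊓ centralizer (W : Set G) : Subgroup G) : Set G) ≤ R₀ :=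
    hmax _ (le_inf hB.1 hBn) (lt_of_le_of_ne inf_le_left fun e => hcon (e ▸ inf_le_right))
  refine hR₀.not_ge fun r hr => ?_
  obtain ⟨c, hc, hcr⟩ := hfr r hr
  have h3 : c * r ∈ R₀ := h2 ⟨mul_mem hc.1 hr, hcr⟩
  have h4 := mul_mem (inv_mem (h1 (mem_sup_left hc))) h3
  rwa [inv_mul_cancel_left] at h4

/-- in a finite group: `n ∈ N`, `n² ∈ K` for all `n ∈ N`, `K` normalised by `N`, `K` contains a Sylow 2-subgroup of `N` :
`N ≤ K` -/
theorem le_of_sq [Finite G] {N K T : Subgroup G} (hT : Syl T N) (hTK : T ≤ K)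
    (hn : ∀ n ∈ N, ∀ k ∈ K, k ∈ N → n * k * n⁻¹ ∈ K) (hsq : ∀ n ∈ N, n * n ∈ K) : N ≤ K := by
  intro n hn'
  -- `n = (n^{k})^u (n^{2^a})^v`
  obtain ⟨a, k, hk, e⟩ := Nat.exists_eq_two_pow_mul_odd (orderOf_pos n).ne'
  have hk1 : n ^ k ∈ K := by
    -- a 2-element
    have h2 : IsPGroup 2 (zpowers (n ^ k)) := by
      rw [IsPGroup.iff_orderOf]
      rintro ⟨x, hx⟩
      obtain ⟨m, rfl⟩ := mem_zpowers_iff.1 hx
      have h3 : orderOf ((n ^ k) ^ m) ∣ 2 ^ a := by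
        have h4 : ((n ^ k) ^ m) ^ (2 ^ a) = 1 := by
          rw [← zpow_natCast, ← zpow_mul, mul_comm, zpow_mul, zpow_natCast, ← pow_mul, mul_comm k, ← e,
            pow_orderOf_eq_one, one_zpow]
        exact orderOf_dvd_of_pow_eq_one h4
      obtain ⟨b, -, hb⟩ := (Nat.dvd_prime_pow Nat.prime_two).1 h3
      exact ⟨b, by rw [← hb, ← Subgroup.orderOf_coe]⟩
    obtain ⟨T', hT', hle⟩ := exists_syl h2 (zpowers_le.2 (pow_mem hn' k))
    obtain ⟨x, hx, rfl⟩ := syl_conj hT hT'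
    have h4 : n ^ k ∈ cj x T := hle (mem_zpowers _)
    rw [mem_cj] at h4
    have h5 := hn x hx _ (hTK h4) (hT.1 h4)
    have e2 : x * (x⁻¹ * n ^ k * x) * x⁻¹ = n ^ k := by group
    rwa [e2] at h5
  have hk2 : n ^ 2 ∈ K := by rw [pow_two]; exact hsq n hn'
  have hgcd : IsCoprime (k : ℤ) ((2 : ℕ) : ℤ) :=
    Nat.isCoprime_iff_coprime.2 (Nat.Coprime.symm (Nat.coprime_two_left.2 hk))
  obtain ⟨s, t, hst⟩ := hgcd
  have e3 : n = (n ^ k) ^ s * (n ^ 2) ^ t := by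
    rw [← zpow_natCast n k, ← zpow_natCast n 2, ← zpow_mul, ← zpow_mul, ← zpow_add, mul_comm (k : ℤ), mul_comm ((2 : ℕ) : ℤ)]
    rw [show s * (k : ℤ) + t * ((2 : ℕ) : ℤ) = 1 from hst, zpow_one]
  rw [e3]
  exact mul_mem (zpow_mem hk1 s) (zpow_mem hk2 t)

namespace UIn

variable [Finite G] {S : Sylow 2 G} {P : Subgroup G} {ι : Type} [Finite ι] {B ZJ : Subgroup G}
  {L W Z C : ι → Subgroup G} {i j : ι} {Y : Subgroup G} (u : UIn S P B ZJ L W Z C i j Y)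

/-- the elements of `Y` which fix `V_i` modulo `Z^j` -/
def G0 (Y Wi Zj : Subgroup G) (hc : Y ≤ centralizer (Zj : Set G)) : Subgroup G where
  carrier := {g | g ∈ Y ∧ ∀ v ∈ Wi, g * v * g⁻¹ * v⁻¹ ∈ Zj}
  one_mem' := ⟨one_mem _, fun v _ => by
    have e : 1 * v * 1⁻¹ * v⁻¹ = 1 := by group
    rw [e]; exact one_mem _⟩
  mul_mem' := by
    rintro a b ⟨ha, ha'⟩ ⟨hb, hb'⟩
    refine ⟨mul_mem ha hb, fun v hv => ?_⟩
    have h1 := mem_centralizer_iff.1 (hc ha) _ (hb' v hv)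
    have e : a * b * v * (a * b)⁻¹ * v⁻¹ = (a * (b * v * b⁻¹ * v⁻¹)) * a⁻¹ * (a * v * a⁻¹ * v⁻¹) := by group
    rw [e, ← h1, mul_inv_cancel_right]
    exact mul_mem (hb' v hv) (ha' v hv)
  inv_mem' := by
    rintro a ⟨ha, ha'⟩
    refine ⟨inv_mem ha, fun v hv => ?_⟩
    have h1 := mem_centralizer_iff.1 (hc (inv_mem ha)) _ (inv_mem (ha' v hv))
    have e : a⁻¹ * v * a⁻¹⁻¹ * v⁻¹ = a⁻¹ * (a * v * a⁻¹ * v⁻¹)⁻¹ * a := by group
    rw [e, ← h1, inv_mul_cancel_right]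
    exact inv_mem (ha' v hv)

include u

theorem cenZo : Y ≤ centralizer (Zo Z j : Set G) := by
  rw [le_centralizer_iff]
  exact iSup_le fun l => le_centralizer_iff.1 (u.cen l l.2)

theorem B_G0 : B ≤ G0 Y (W i) (Zo Z j) u.cenZo := fun b hb =>
  ⟨u.syl.1 hb, fun v hv => le_Zo_of u.ij ((u.bg.fr.blk i).com b hb v hv)⟩

theorem P_G0 : P ⊓ centralizer (C j : Set G) ≤ G0 Y (W i) (Zo Z j) u.cenZo := fun g hg =>
  ⟨u.PY hg, fun v hv => by
    have h1 := mem_centralizer_iff.1 hg.2 v (u.bg.fr.WjC j i u.ij.symm hv)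
    have e : g * v * g⁻¹ * v⁻¹ = 1 := by rw [← h1]; group
    rw [e]; exact one_mem _⟩

theorem P_norm : P ⊓ centralizer (C j : Set G) ≤ normalizer (W j : Set G) := fun _ hg =>
  mem_normalizer_iff_cj.2 (u.bg.fix hg.1 hg.2 j)

omit u in
/-- `|W k : Z k| = 2` -/
theorem ix2 (h : Bg S P B ZJ L W Z C 2) {k : ι} {a v : G} (ha : a ∈ W k) (ha' : a ∉ Z k) (hv : v ∈ W k)
    (hv' : v ∉ Z k) : a * v⁻¹ ∈ Z k := by
  have hZ2 : Nat.card (Z k) = 2 := h.fr.cardZ k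
  obtain ⟨z, hz, hz1⟩ : ∃ z ∈ Z k, z ≠ 1 := by
    by_contra hcon
    push Not at hcon
    exact h.Z_ne k ((eq_bot_iff_forall _).2 hcon)
  obtain ⟨b, hb, -, e⟩ := h.root k v hv hv' z hz
  have hbm : ¬ b * v = v * b := by
    intro e2
    apply hz1
    rw [← e, e2]; group
  have hba : b * a * b⁻¹ * a⁻¹ = z := by
    refine OM.UniPlus.eq_of_card_two hZ2 ((h.fr.blk k).com b hb a ha) hz (fun e2 => hbm ?_) hz1
    have e3 : b * a = a * b := by
      have := congrArg (fun t => t * a * b) e2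
      simpa [mul_assoc] using this
    exact (h.fr.blk k).free b hb a ha ha' e3 v hv
  by_contra hcon
  apply hbm
  refine (h.fr.blk k).free b hb (a * v⁻¹) (mul_mem ha (inv_mem hv)) hcon ?_ v hv
  have h1 : b * a * b⁻¹ = z * a := by rw [← hba]; group
  have h2 : b * v * b⁻¹ = z * v := by rw [← e]; group
  have h3 : b * (a * v⁻¹) * b⁻¹ = a * v⁻¹ := by
    have hzV := h.fr.ZV k hz
    have haV := h.fr.WV k ha
    calc b * (a * v⁻¹) * b⁻¹ = (b * a * b⁻¹) * (b * v * b⁻¹)⁻¹ := by group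
      _ = z * a * (z * v)⁻¹ := by rw [h1, h2]
      _ = z * a * v⁻¹ * z⁻¹ := by group
      _ = a * z * v⁻¹ * z⁻¹ := by rw [h.fr.Vc hzV haV]
      _ = a * (z * v⁻¹) * z⁻¹ := by group
      _ = a * (v⁻¹ * z) * z⁻¹ := by rw [h.fr.Vc hzV (inv_mem (h.fr.WV k hv))]
      _ = a * v⁻¹ := by group
  calc b * (a * v⁻¹) = (b * (a * v⁻¹) * b⁻¹) * b := by group
    _ = a * v⁻¹ * b := by rw [h3]

theorem Zo_V : Zo Z j ≤ zl (S : Subgroup G) P := (Zo_le_ZJ u.bg j).trans u.bg.fr.ZJV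

/-- `F = V_j Z^j` -/
theorem F_V : W j ⊔ Zo Z j ≤ zl (S : Subgroup G) P := sup_le (u.bg.fr.WV j) u.Zo_V

theorem conj_F {g f : G} (hg : g ∈ Y) (hgW : g ∈ normalizer (W j : Set G)) (hf : f ∈ W j ⊔ Zo Z j) :
    g * f * g⁻¹ ∈ W j ⊔ Zo Z j := by
  have h1 : W j ⊔ Zo Z j ≤ cj g⁻¹ (W j ⊔ Zo Z j) := by
    refine sup_le ?_ ?_
    · intro x hx
      rw [mem_cj, inv_inv]
      exact mem_sup_left ((mem_normalizer_iff.1 hgW x).1 hx)
    · intro x hx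
      rw [mem_cj, inv_inv]
      have h2 := mem_centralizer_iff.1 (u.cenZo hg) x hx
      have e : g * x * g⁻¹ = x := by rw [← h2]; group
      rw [e]
      exact mem_sup_right hx
  have h3 := h1 hf
  rwa [mem_cj, inv_inv] at h3

/-- the components of `v ^ r` -/
theorem dc {R : Subgroup G} (hRY : R ≤ Y) (hT0 : R ≤ normalizer ((B ⊓ centralizer (W j : Set G) : Subgroup G) : Set G))
    {r v : G} (hr : r ∈ R) (hv : v ∈ W i) (hV : (∀ x ∈ B ⊓ centralizer (W j : Set G),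
      x * (r * v * r⁻¹) * x⁻¹ * (r * v * r⁻¹)⁻¹ ∈ Z i) → r * v * r⁻¹ ∈ zl (S : Subgroup G) P) :
    ∃ a ∈ W i, ∃ b ∈ W j, ∃ z ∈ Zo Z j, r * v * r⁻¹ = a * b * z := by
  have hri := mem_centralizer_iff.1 (u.cen i u.ij (hRY hr))
  have h1 : ∀ x ∈ B ⊓ centralizer (W j : Set G), x * (r * v * r⁻¹) * x⁻¹ * (r * v * r⁻¹)⁻¹ ∈ Z i := by
    intro x hx
    have hx' : r⁻¹ * x * r ∈ B ⊓ centralizer (W j : Set G) := (mem_normalizer_iff''.1 (hT0 hr) x).1 hx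
    have h2 := (u.bg.fr.blk i).com _ hx'.1 v hv
    have h3 := hri _ h2
    have e : x * (r * v * r⁻¹) * x⁻¹ * (r * v * r⁻¹)⁻¹ =
        r * (r⁻¹ * x * r * v * (r⁻¹ * x * r)⁻¹ * v⁻¹) * r⁻¹ := by group
    rw [e, ← h3, mul_inv_cancel_right]
    exact h2
  have hxV := hV h1
  refine dcmp u.bg u.ij hxV fun l hli hlj => ?_
  obtain ⟨w, hw, c, hc, e⟩ := u.bg.fr.WC l _ hxV
  refine ⟨w, ?_, c, hc, e⟩
  by_contra hwZ
  obtain ⟨z, hz, hz1⟩ : ∃ z ∈ Z l, z ≠ 1 := by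
    by_contra hcon
    push Not at hcon
    exact u.bg.Z_ne l ((eq_bot_iff_forall _).2 hcon)
  obtain ⟨b, hb, hbc, eb⟩ := u.bg.root l w hw hwZ z hz
  have h2 := h1 b ⟨hb, centralizer_le (u.bg.fr.WjC l j hlj) hbc⟩
  have hbc' := mem_centralizer_iff.1 hbc c hc
  have e2 : b * (r * v * r⁻¹) * b⁻¹ * (r * v * r⁻¹)⁻¹ = z := by
    rw [e]
    calc b * (w * c) * b⁻¹ * (w * c)⁻¹ = b * w * (c * b⁻¹) * c⁻¹ * w⁻¹ := by group
      _ = b * w * (b⁻¹ * c) * c⁻¹ * w⁻¹ := by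
        have : c * b⁻¹ = b⁻¹ * c := by
          calc c * b⁻¹ = b⁻¹ * (b * c) * b⁻¹ := by group
            _ = b⁻¹ * (c * b) * b⁻¹ := by rw [hbc']
            _ = b⁻¹ * c := by group
        rw [this]
      _ = b * w * b⁻¹ * w⁻¹ := by group
      _ = z := eb
  rw [e2] at h2
  have h3 : z ∈ Z i ⊓ Z l := ⟨h2, hz⟩
  rw [u.bg.Z_disj (Ne.symm hli), mem_bot] at h3
  exact hz1 h3

/-- `[r, v] ∈ V_j Z^j` -/
theorem comm_F {R : Subgroup G} (hRY : R ≤ Y) (hRW : R ≤ normalizer (W j : Set G))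
    (hT0 : R ≤ normalizer ((B ⊓ centralizer (W j : Set G) : Subgroup G) : Set G))
    {r v : G} (hr : r ∈ R) (hv : v ∈ W i) (hV : (∀ x ∈ B ⊓ centralizer (W j : Set G),
      x * (r * v * r⁻¹) * x⁻¹ * (r * v * r⁻¹)⁻¹ ∈ Z i) → r * v * r⁻¹ ∈ zl (S : Subgroup G) P) :
    r * v * r⁻¹ * v⁻¹ ∈ W j ⊔ Zo Z j := by
  have hri := mem_centralizer_iff.1 (u.cen i u.ij (hRY hr))
  by_cases hvZ : v ∈ Z i
  · have e : r * v * r⁻¹ * v⁻¹ = 1 := by rw [← hri v hvZ]; group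
    rw [e]; exact one_mem _
  obtain ⟨a, ha, b, hb, z, hz, e⟩ := u.dc hRY hT0 hr hv hV
  have haZ : a ∉ Z i := by
    intro haZ
    -- `v = a b' z`
    have hb' : r⁻¹ * b * r ∈ W j := (mem_normalizer_iff''.1 (hRW hr) b).1 hb
    have hza := hri a haZ
    have hzz := mem_centralizer_iff.1 (u.cenZo (hRY hr)) z hz
    have e2 : v = a * (r⁻¹ * b * r) * z := by
      calc v = r⁻¹ * (r * v * r⁻¹) * r := by group
        _ = r⁻¹ * (a * b * z) * r := by rw [e]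
        _ = r⁻¹ * a * b * (z * r) := by group
        _ = r⁻¹ * a * b * (r * z) := by rw [hzz]
        _ = r⁻¹ * (a * r) * (r⁻¹ * b * r) * z := by group
        _ = r⁻¹ * (r * a) * (r⁻¹ * b * r) * z := by rw [hza]
        _ = a * (r⁻¹ * b * r) * z := by group
    obtain ⟨z0, hz0, hz01⟩ : ∃ z ∈ Z i, z ≠ 1 := by
      by_contra hcon
      push Not at hcon
      exact u.bg.Z_ne i ((eq_bot_iff_forall _).2 hcon)
    obtain ⟨t, ht, htc, et⟩ := u.bg.root i v hv hvZ z0 hz0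
    apply hz01
    have h1 : a * t = t * a := ((u.bg.fr.blk i).cZ t ht a haZ).symm
    have h2 : (r⁻¹ * b * r) * t = t * (r⁻¹ * b * r) := mem_centralizer_iff.1 htc _ (u.bg.fr.WjC i j u.ij hb')
    have h3 : z * t = t * z := (((u.bg.fr.mem_ZJ z).1 (Zo_le_ZJ u.bg j hz)).2 t ht).symm
    have h4 : t * v = v * t := by
      have c1 : Commute t a := h1.symm
      have c2 : Commute t (r⁻¹ * b * r) := h2.symm
      have c3 : Commute t z := h3.symm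
      rw [e2]
      exact (c1.mul_right c2).mul_right c3
    rw [← et, h4]; group
  have h1 := ix2 u.bg ha haZ hv hvZ
  have hbV := u.bg.fr.WV j hb
  have hzV := u.Zo_V hz
  have e3 : r * v * r⁻¹ * v⁻¹ = a * v⁻¹ * (b * z) := by
    have hvV := inv_mem (u.bg.fr.WV i hv)
    calc r * v * r⁻¹ * v⁻¹ = a * b * z * v⁻¹ := by rw [e]
      _ = a * ((b * z) * v⁻¹) := by group
      _ = a * (v⁻¹ * (b * z)) := by rw [u.bg.fr.Vc (mul_mem hbV hzV) hvV]
      _ = _ := by group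
  rw [e3]
  exact mul_mem (mem_sup_right (le_Zo_of u.ij h1)) (mul_mem (mem_sup_left hb) (mem_sup_right hz))

/-- a group `N` which centralises `F ≥ Z^j`, `[N, V_i] ≤ F`, fixes `V_i` mod `Z^j` if its Sylow 2-subgroups do -/
theorem le_G0 {N F T : Subgroup G} (hNY : N ≤ Y) (hNF : ∀ n ∈ N, ∀ f ∈ F, n * f = f * n)
    (hFV : F ≤ zl (S : Subgroup G) P) (hZF : Zo Z j ≤ F) (hD : ∀ n ∈ N, ∀ v ∈ W i, n * v * n⁻¹ * v⁻¹ ∈ F)
    (hT : Syl T N) (hTG : T ≤ G0 Y (W i) (Zo Z j) u.cenZo) : N ≤ G0 Y (W i) (Zo Z j) u.cenZo := by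
  refine le_of_sq hT hTG ?_ ?_
  · intro n hn k hk hkN
    refine ⟨mul_mem (mul_mem (hNY hn) hk.1) (inv_mem (hNY hn)), fun v hv => ?_⟩
    -- `f = [n⁻¹, v]`, `ζ = [k, v]`
    have hf := hD _ (inv_mem hn) v hv
    have hζ := hk.2 v hv
    set f := n⁻¹ * v * n⁻¹⁻¹ * v⁻¹ with hfe
    set ζ := k * v * k⁻¹ * v⁻¹ with hζe
    have h1 := hNF k hkN f hf
    have h2 := hNF n hn ζ (hZF hζ)
    have h3 : f * ζ = ζ * f := u.bg.fr.Vc (hFV hf) (u.Zo_V hζ)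
    have e1 : n⁻¹ * v * n = f * v := by rw [hfe]; group
    have e2 : k * v * k⁻¹ = ζ * v := by rw [hζe]; group
    have e3 : n * k * n⁻¹ * v * (n * k * n⁻¹)⁻¹ * v⁻¹ = ζ := by
      calc n * k * n⁻¹ * v * (n * k * n⁻¹)⁻¹ * v⁻¹ = n * (k * (n⁻¹ * v * n) * k⁻¹) * n⁻¹ * v⁻¹ := by group
        _ = n * (k * (f * v) * k⁻¹) * n⁻¹ * v⁻¹ := by rw [e1]
        _ = n * ((k * f) * v * k⁻¹) * n⁻¹ * v⁻¹ := by group
        _ = n * ((f * k) * v * k⁻¹) * n⁻¹ * v⁻¹ := by rw [h1]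
        _ = n * (f * (k * v * k⁻¹)) * n⁻¹ * v⁻¹ := by group
        _ = n * (f * (ζ * v)) * n⁻¹ * v⁻¹ := by rw [e2]
        _ = n * ((f * ζ) * v) * n⁻¹ * v⁻¹ := by group
        _ = n * ((ζ * f) * v) * n⁻¹ * v⁻¹ := by rw [h3]
        _ = (n * ζ) * (f * v) * n⁻¹ * v⁻¹ := by group
        _ = (ζ * n) * (f * v) * n⁻¹ * v⁻¹ := by rw [h2]
        _ = (ζ * n) * (n⁻¹ * v * n) * n⁻¹ * v⁻¹ := by rw [e1]
        _ = ζ := by group
    rw [e3]
    exact hζ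
  · intro n hn
    refine ⟨mul_mem (hNY hn) (hNY hn), fun v hv => ?_⟩
    have hf := hD n hn v hv
    obtain ⟨f, hfe⟩ : ∃ f, f = n * v * n⁻¹ * v⁻¹ := ⟨_, rfl⟩
    rw [← hfe] at hf
    have h1 := hNF n hn f hf
    have e1 : n * v * n⁻¹ = f * v := by rw [hfe]; group
    have e3 : n * n * v * (n * n)⁻¹ * v⁻¹ = f ^ 2 := by
      calc n * n * v * (n * n)⁻¹ * v⁻¹ = n * (n * v * n⁻¹) * n⁻¹ * v⁻¹ := by group
        _ = n * (f * v) * n⁻¹ * v⁻¹ := by rw [e1]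
        _ = (n * f) * v * n⁻¹ * v⁻¹ := by group
        _ = (f * n) * v * n⁻¹ * v⁻¹ := by rw [h1]
        _ = f * (n * v * n⁻¹) * v⁻¹ := by group
        _ = f * (f * v) * v⁻¹ := by rw [e1]
        _ = f ^ 2 := by rw [pow_two]; group
    rw [e3, u.bg.fr.Vsq (hFV hf)]
    exact one_mem _

/-- **(U)** -/
theorem uni {R : Subgroup G} (hmin : IsMinPar B R) (hRY : R ≤ Y) (hRW : R ≤ normalizer (W j : Set G))
    (hmv : ¬ R ≤ centralizer (Z j : Set G))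
    (hV : ∀ r ∈ R, ∀ v ∈ W i, (∀ x ∈ B ⊓ centralizer (W j : Set G),
      x * (r * v * r⁻¹) * x⁻¹ * (r * v * r⁻¹)⁻¹ ∈ Z i) → r * v * r⁻¹ ∈ zl (S : Subgroup G) P) :
    R ≤ G0 Y (W i) (Zo Z j) u.cenZo := by
  have hsylR : Syl B R := ⟨hmin.le, u.syl.2.1, fun Q hQ h2 hle => u.syl.2.2 Q (hQ.trans hRY) h2 hle⟩
  have hT0 := norm_T0 hsylR hmin hRW (u.bg.fr.blk j).ZV
    (fun b hb => mem_centralizer_iff.2 fun z hz => ((u.bg.fr.blk j).cZ b hb z hz).symm) hmv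
  -- the group `G₁`
  set G₁ : Subgroup G := R ⊔ (P ⊓ centralizer (C j : Set G)) with hG₁
  have hG₁Y : G₁ ≤ Y := sup_le hRY u.PY
  have hG₁W : G₁ ≤ normalizer (W j : Set G) := sup_le hRW u.P_norm
  have hBG : B ≤ G₁ := hmin.le.trans le_sup_left
  have hsylG : Syl B G₁ := ⟨hBG, u.syl.2.1, fun Q hQ h2 hle => u.syl.2.2 Q (hQ.trans hG₁Y) h2 hle⟩
  let GF : Subgroup G :=
    { carrier := {g | g ∈ Y ∧ g ∈ normalizer (W j : Set G) ∧ ∀ v ∈ W i, g * v * g⁻¹ * v⁻¹ ∈ W j ⊔ Zo Z j}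
      one_mem' := ⟨one_mem _, one_mem _, fun v _ => by
        have e : 1 * v * 1⁻¹ * v⁻¹ = 1 := by group
        rw [e]; exact one_mem _⟩
      mul_mem' := by
        rintro a b ⟨ha, ha', ha2⟩ ⟨hb, hb', hb2⟩
        refine ⟨mul_mem ha hb, mul_mem ha' hb', fun v hv => ?_⟩
        have e : a * b * v * (a * b)⁻¹ * v⁻¹ = (a * (b * v * b⁻¹ * v⁻¹) * a⁻¹) * (a * v * a⁻¹ * v⁻¹) := by group
        rw [e]
        exact mul_mem (u.conj_F ha ha' (hb2 v hv)) (ha2 v hv)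
      inv_mem' := by
        rintro a ⟨ha, ha', ha2⟩
        refine ⟨inv_mem ha, inv_mem ha', fun v hv => ?_⟩
        have e : a⁻¹ * v * a⁻¹⁻¹ * v⁻¹ = a⁻¹ * (a * v * a⁻¹ * v⁻¹)⁻¹ * a⁻¹⁻¹ := by group
        rw [e]
        exact u.conj_F (inv_mem ha) (inv_mem ha') (inv_mem (ha2 v hv)) }
  have hGF : G₁ ≤ GF := by
    refine sup_le (fun r hr => ⟨hRY hr, hRW hr, fun v hv => u.comm_F hRY hRW hT0 hr hv (hV r hr v hv)⟩) fun g hg =>
      ⟨u.PY hg, u.P_norm hg, fun v hv => mem_sup_right ((u.P_G0 hg).2 v hv)⟩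
  set N : Subgroup G := G₁ ⊓ centralizer (W j : Set G) with hN
  have hNn : G₁ ≤ normalizer (N : Set G) := by
    intro r hr
    rw [mem_normalizer_iff_cj, hN, cj_inf, cj_centralizer, cj_eq_of_mem_normalizer (le_normalizer hr),
      cj_eq_of_mem_normalizer (hG₁W hr)]
  have hT := syl_inf hsylG (inf_le_left : N ≤ G₁) fun r hr n hn => (mem_normalizer_iff.1 (hNn hr) n).1 hn
  -- `N` centralises `F`
  have hNF : ∀ n ∈ N, ∀ f ∈ W j ⊔ Zo Z j, n * f = f * n := by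
    intro n hn f hf
    have h1 : W j ⊔ Zo Z j ≤ centralizer ({n} : Set G) := by
      refine sup_le (fun x hx => mem_centralizer_singleton_iff.2 ?_) fun x hx => mem_centralizer_singleton_iff.2 ?_
      · exact mem_centralizer_iff.1 hn.2 x hx
      · exact mem_centralizer_iff.1 (u.cenZo (hG₁Y hn.1)) x hx
    exact (mem_centralizer_singleton_iff.1 (h1 hf)).symm
  have hNG : N ≤ G0 Y (W i) (Zo Z j) u.cenZo :=
    u.le_G0 (inf_le_left.trans hG₁Y) hNF u.F_V le_sup_right (fun n hn => (hGF hn.1).2.2) hT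
      (inf_le_left.trans u.B_G0)
  -- the end
  intro r hr
  obtain ⟨z, hz, hz1⟩ : ∃ z ∈ Z j, z ≠ 1 := by
    by_contra hcon
    push Not at hcon
    exact u.bg.Z_ne j ((eq_bot_iff_forall _).2 hcon)
  have hZ2 : Nat.card (Z j) = 2 := u.bg.fr.cardZ j
  have hzW := (u.bg.fr.blk j).ZV hz
  have hrz : r * z * r⁻¹ ∈ W j := (mem_normalizer_iff.1 (hRW hr) z).1 hzW
  obtain ⟨l, hl, hlc, z', hz', el⟩ := u.bg.tr j _ hrz fun e => hz1 (conj_eq_one_iff.1 e)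
  have hz'1 : z' ≠ 1 := by
    rintro rfl
    rw [mul_one, mul_inv_cancel] at el
    exact hz1 (conj_eq_one_iff.1 el.symm)
  have hzz' := OM.UniPlus.eq_of_card_two hZ2 hz' hz hz'1 hz1
  subst hzz'
  have hlG : l ∈ G₁ := mem_sup_right ⟨hl, hlc⟩
  have hrG : r ∈ G₁ := mem_sup_left hr
  have hg : l⁻¹ * r ∈ G₁ := mul_mem (inv_mem hlG) hrG
  have hgz : (l⁻¹ * r) * z' * (l⁻¹ * r)⁻¹ = z' := by
    calc (l⁻¹ * r) * z' * (l⁻¹ * r)⁻¹ = l⁻¹ * (r * z' * r⁻¹) * l := by group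
      _ = l⁻¹ * (l * z' * l⁻¹) * l := by rw [el]
      _ = z' := by group
  obtain ⟨-, -, w, hw, -⟩ := (u.bg.fr.blk j).ne
  obtain ⟨w, hw, hwZ⟩ : ∃ w ∈ W j, w ∉ Z j := by
    obtain ⟨b, hb, w, hw, hne⟩ := (u.bg.fr.blk j).ne
    exact ⟨w, hw, fun hwZ => hne ((u.bg.fr.blk j).cZ b hb w hwZ)⟩
  -- an element of `G₁` which centralises `z`, `w` is in `N`
  have hcz : ∀ n ∈ G₁, n * z' * n⁻¹ = z' → n * w * n⁻¹ = w → n ∈ N := by
    intro n hn h1 h2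
    refine ⟨hn, mem_centralizer_iff.2 fun x hx => ?_⟩
    have hZc : ∀ y ∈ Z j, y * n = n * y := by
      intro y hy
      by_cases hy1 : y = 1
      · rw [hy1]; group
      · rw [OM.UniPlus.eq_of_card_two hZ2 hy hz' hy1 hz'1]
        exact (mul_inv_eq_iff_eq_mul.1 h1).symm
    by_cases hxZ : x ∈ Z j
    · exact hZc x hxZ
    · have h3 := hZc _ (ix2 u.bg hx hxZ hw hwZ)
      have h4 : w * n = n * w := (mul_inv_eq_iff_eq_mul.1 h2).symm
      calc x * n = x * w⁻¹ * (w * n) := by group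
        _ = x * w⁻¹ * (n * w) := by rw [h4]
        _ = (x * w⁻¹ * n) * w := by group
        _ = (n * (x * w⁻¹)) * w := by rw [h3]
        _ = n * x := by group
  set g := l⁻¹ * r with hge
  have hgw : g * w * g⁻¹ ∈ W j := (mem_normalizer_iff.1 (hG₁W hg) w).1 hw
  have hgwZ : g * w * g⁻¹ ∉ Z j := by
    intro hc
    by_cases h1 : g * w * g⁻¹ = 1
    · exact hwZ (by rw [conj_eq_one_iff.1 h1]; exact one_mem _)
    · have h2 := OM.UniPlus.eq_of_card_two hZ2 hc hz' h1 hz'1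
      apply hwZ
      have e : w = z' := by
        have h3 : g * w * g⁻¹ = g * z' * g⁻¹ := by rw [h2, hgz]
        exact mul_left_cancel (mul_right_cancel h3)
      rw [e]; exact hz'
  have hgc := ix2 u.bg hgw hgwZ hw hwZ
  by_cases h1 : g * w * g⁻¹ * w⁻¹ = 1
  · have h2 : g ∈ N := hcz g hg hgz (mul_inv_eq_one.1 h1)
    have h3 := mul_mem (u.P_G0 ⟨hl, hlc⟩) (hNG h2)
    rw [hge, mul_inv_cancel_left] at h3
    exact h3
  · have h2 := OM.UniPlus.eq_of_card_two hZ2 hgc hz' h1 hz'1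
    obtain ⟨b, hb, -, eb⟩ := u.bg.root j w hw hwZ z' hz'
    have hbG : b ∈ G₁ := hBG hb
    have h3 : b⁻¹ * g ∈ N := by
      refine hcz _ (mul_mem (inv_mem hbG) hg) ?_ ?_
      · have h4 : b * z' = z' * b := (u.bg.fr.blk j).cZ b hb z' hz'
        calc b⁻¹ * g * z' * (b⁻¹ * g)⁻¹ = b⁻¹ * (g * z' * g⁻¹) * b := by group
          _ = b⁻¹ * (z' * b) := by rw [hgz]; group
          _ = b⁻¹ * (b * z') := by rw [h4]
          _ = z' := by group
      · have e1 : g * w * g⁻¹ = z' * w := by rw [← h2]; group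
        have e2 : b * w * b⁻¹ = z' * w := by rw [← eb]; group
        calc b⁻¹ * g * w * (b⁻¹ * g)⁻¹ = b⁻¹ * (g * w * g⁻¹) * b := by group
          _ = b⁻¹ * (b * w * b⁻¹) * b := by rw [e1, e2]
          _ = w := by group
    have h4 := mul_mem (mul_mem (u.P_G0 ⟨hl, hlc⟩) (u.B_G0 hb)) (hNG h3)
    have e : l * b * (b⁻¹ * g) = r := by rw [hge]; group
    rwa [e] at h4

/-- `N_Y(B)` centralises `Z_J` -/
theorem nB_ZJ {g : G} (hg : g ∈ Y) (hgB : g ∈ normalizer (B : Set G)) {z : G} (hz : z ∈ ZJ) : g * z = z * g := by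
  have hZo := fun x hx => mem_centralizer_iff.1 (u.cenZo hg) x hx
  -- `g` normalises `Z j`
  have hj : cj g (Z j) = Z j := by
    obtain ⟨m, hm, -⟩ := u.bg.nrm g hgB |>.2 j
    by_cases hmj : m = j
    · rw [hm, hmj]
    · exfalso
      -- `Z m` is centralised by `g`
      have h1 : cj g (Z m) = Z m := by
        refine mem_normalizer_iff_cj.1 (centralizer_le_normalizer _ (u.cen m hmj hg))
      rw [← hm] at h1
      have h2 : cj g (Z j) = Z j := by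
        have h3 := congrArg (cj g⁻¹) h1
        rw [cj_inv_cj, cj_inv_cj] at h3
        exact h3
      exact hmj (u.bg.Z_inj (hm.symm.trans h2))
  have hZj : ∀ y ∈ Z j, g * y = y * g := by
    intro y hy
    have hZ2 : Nat.card (Z j) = 2 := u.bg.fr.cardZ j
    by_cases hy1 : y = 1
    · rw [hy1]; group
    · have h1 : g * y * g⁻¹ ∈ Z j := hj ▸ (⟨y, hy, rfl⟩ : g * y * g⁻¹ ∈ cj g (Z j))
      have h2 := OM.UniPlus.eq_of_card_two hZ2 h1 hy (fun e => hy1 (conj_eq_one_iff.1 e)) hy1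
      exact mul_inv_eq_iff_eq_mul.1 h2
  obtain ⟨w, hw, c, hc, hcJ, e⟩ := u.bg.fr.split_ZJ j hz
  have h1 := hZj w hw
  have h2 := hZo c (le_Zo u.bg j ⟨hcJ, hc⟩)
  rw [e]
  calc g * (w * c) = (g * w) * c := by group
    _ = w * (g * c) := by rw [h1]; group
    _ = w * (c * g) := by rw [h2]
    _ = _ := by group

/-- **`N_Y(B)` fixes `V_i` mod `Z^j`** -/
theorem nB : Y ⊓ normalizer (B : Set G) ≤ G0 Y (W i) (Zo Z j) u.cenZo := by
  have hsyl : Syl B (Y ⊓ normalizer (B : Set G)) :=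
    ⟨le_inf u.syl.1 le_normalizer, u.syl.2.1, fun Q hQ h2 hle => u.syl.2.2 Q (hQ.trans inf_le_left) h2 hle⟩
  refine u.le_G0 inf_le_left (F := ZJ) (fun n hn f hf => u.nB_ZJ hn.1 hn.2 hf) u.bg.fr.ZJV (Zo_le_ZJ u.bg j) ?_
    hsyl u.B_G0
  intro g hg v hv
  by_cases hvZ : v ∈ Z i
  · have h1 := mem_centralizer_iff.1 (u.cen i u.ij hg.1) v hvZ
    have e : g * v * g⁻¹ * v⁻¹ = 1 := by rw [← h1]; group
    rw [e]; exact one_mem _
  obtain ⟨m, hm, hW⟩ := u.bg.nrm g hg.2 |>.2 i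
  have hmi : m = i := by
    have h1 : cj g (Z i) = Z i := mem_normalizer_iff_cj.1 (centralizer_le_normalizer _ (u.cen i u.ij hg.1))
    exact u.bg.Z_inj (hm.symm.trans h1)
  subst hmi
  have h1 : g * v * g⁻¹ ∈ W m ⊔ ZJ := hW ⟨v, hv, rfl⟩
  have h2 : ∃ a ∈ W m, ∃ z ∈ ZJ, g * v * g⁻¹ = a * z := by
    have h3 : W m ≤ normalizer (ZJ : Set G) :=
      le_trans (fun x hx => mem_centralizer_iff.2 fun y hy => u.bg.fr.Vc (u.bg.fr.ZJV hy) (u.bg.fr.WV m hx))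
        (centralizer_le_normalizer _)
    rw [← SetLike.mem_coe, Subgroup.coe_mul_of_left_le_normalizer_right _ _ h3] at h1
    obtain ⟨a, ha, z, hz, e⟩ := Set.mem_mul.1 h1
    exact ⟨a, ha, z, hz, e.symm⟩
  obtain ⟨a, ha, z, hz, e⟩ := h2
  have haZ : a ∉ Z m := by
    intro haZ
    apply hvZ
    refine (u.bg.fr.blk m).toMd.mem_Z_iff.2 ⟨hv, fun b hb => ?_⟩
    have h3 : g * v * g⁻¹ ∈ ZJ := by rw [e]; exact mul_mem (u.bg.fr.Z_le m haZ) hz
    have h4 := u.nB_ZJ hg.1 hg.2 h3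
    have e5 : v = g * v * g⁻¹ := by
      calc v = g⁻¹ * (g * v * g⁻¹ * g) := by group
        _ = g⁻¹ * (g * (g * v * g⁻¹)) := by rw [h4]
        _ = g * v * g⁻¹ := inv_mul_cancel_left _ _
    rw [e5]
    exact ((u.bg.fr.mem_ZJ _).1 h3).2 b hb
  have h3 := ix2 u.bg ha haZ hv hvZ
  have e3 : g * v * g⁻¹ * v⁻¹ = a * v⁻¹ * z := by
    calc g * v * g⁻¹ * v⁻¹ = a * (z * v⁻¹) := by rw [e]; group
      _ = a * (v⁻¹ * z) := by rw [u.bg.fr.Vc (u.bg.fr.ZJV hz) (inv_mem (u.bg.fr.WV m hv))]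
      _ = _ := by group
  rw [e3]
  exact mul_mem (u.bg.fr.Z_le m h3) hz

end UIn

end Cfsg.Agent.Omega.EK3.UFix
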