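import Cfsg.Agent.Omega.EK3.OfMul
import Cfsg.Agent.Omega.TC.UniLev

/-!
# NO-3S, MultiTwoL, case (E), `k ≥ 3`, `q = 2`: the level input `UniLevK` (`EK3/OfMul.lean`)

* `NoLowK` : no minimal parabolic over `B = C_S(Ω₁(Z(lev S (n + 1))))` of smaller stage moves `Ω₁(Z(B))` (`k ≥ 3`, `q = 2`);
* `uniLevK_of` : **`NoLowK` gives `UniLevK`** (the port of helper186's `TC/UniLev.lean`).
-/

set_option autoImplicit false
set_option linter.unusedSectionVars false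

namespace Cfsg.Agent.Omega.EK3.UniLevK

open Subgroup Cfsg Cfsg.Agent.ZN.ChoiceBase
open Cfsg.Agent.ZN (jj zj bau zc zl o2)
open Cfsg.Agent.ZN.ChoiceSit (Syl)
open Cfsg.Agent.Omega.OM Cfsg.Agent.Omega.OM.Uni
open Cfsg.Agent.Omega.NO3S (HypJ HypN Hyp HypL)
open Cfsg.Agent.Omega.NO3S.Level (lev lev_isLev lev_mono)
open Cfsg.Agent.Omega.NO3S.EThree.Frame
open Cfsg.Agent.MinSimple.MinParabolic (IsMinPar)
open Cfsg.Agent.Omega.FFThm (NatK NatKM)
open Cfsg.Agent.Omega.FrameFF (cv)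
open Cfsg.Agent.Omega.Frame (Cls)
open Cfsg.Agent.Omega.Node.MultiOf
open Cfsg.Agent.Omega.EK3.OfMul
open Cfsg.Agent.Omega.OM.Lev.Uni (FrL)
open scoped Pointwise

universe u

/-- **No minimal parabolic of smaller stage over `B` moves `Ω₁(Z(B))`** (`k ≥ 3`, `q = 2`, stage `n`, case (E)). -/
def NoLowK (K : Cls.{u}) : Prop :=
  ∀ (G : Type u) [Group G] [Finite G], K G → ∀ (S : Sylow 2 G) (P : Subgroup G), HypL S P → ∀ n : ℕ,
    (∀ R, MinPar.IsParS (S : Subgroup G) R → lev (S : Subgroup G) n ≤ o2 R) →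
    ¬ lev (S : Subgroup G) (n + 1) ≤ o2 P →
    ∀ (F : Type) [Field F] [Finite F] [CharP F 2] (k : ℕ), Nat.card F = 2 → 3 ≤ k →
      NatKM F (S : Subgroup G) P (zl (S : Subgroup G) P) (cv (S : Subgroup G) P) k →
        ∀ B ZJ : Subgroup G, ZJ = zc (lev (S : Subgroup G) (n + 1)) →
          B = (S : Subgroup G) ⊓ centralizer (zc (lev (S : Subgroup G) (n + 1)) : Set G) → NLoc (KZ B ZJ) →
          ∀ L W Z C A : Fin k → Subgroup G, Bg S P B ZJ L W Z C 2 →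
            FrL B (o2 P) (zl (S : Subgroup G) P) (zc (lev (S : Subgroup G) n)) ZJ L W Z C A 2 →
            ∀ R : Subgroup G, IsMinPar B R → Syl B R → R ⊓ centralizer (o2 R : Set G) ≤ o2 R →
              ¬ lev (S : Subgroup G) n ≤ o2 R → R ≤ centralizer (zc B : Set G)

/-- **The level input.** -/
theorem uniLevK_of {K : Cls.{u}} (hN : NoLowK K) : UniLevK K := by
  intro G _ _ hG S P h n hall hn1 F _ _ _ k hF hk N B ZJ eqZ eqB hE
  have hn := hall P h.star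
  obtain ⟨M, L, Z, A, -, hfr, hbg, -⟩ := Lev.Main.bg_lev h.toHypN hn hn1 (by omega : 2 ≤ k) N eqB
  rw [← eqZ, hF] at hfr hbg
  refine ⟨L, _, Z, _, hbg, TC.UniLev.uniTwo S eqZ eqB hfr, ?_⟩
  intro R hR hT hc hK hZ
  by_cases hlow : lev (S : Subgroup G) n ≤ o2 R
  · have hB : LevB.BL (S : Subgroup G) (n + 1) = B := eqB.symm
    obtain ⟨L', V', h1, ⟨h2, h3⟩, h4⟩ := LevB.exists_fblk S hT hB.le hR hc hlow hK hZ
    rw [hB] at h2 h3
    exact ⟨L', V', ⟨h2, h3⟩, h1, h4.trans (sup_comm _ _).le⟩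
  · exact absurd (hN G hG S P h n hall hn1 F k hF hk N B ZJ eqZ eqB hE L _ Z _ A hbg hfr R hR hT hc hlow) hZ

end Cfsg.Agent.Omega.EK3.UniLevK
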